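import Cfsg.Agent.Cit.Nil.CompR.Exch

/-!
# S1309 (6b), COMP, any `r`: frames (helper454, bb R18 #15492 (E), consequences; 164's `Comp/Frame.lean` for `GW`)

* `Frm Z K F` : `F` is a frame: at least two pairwise commuting classes, and `N(x) = F \ {A}` for `x ∈ A ∈ F`;
  `Frm.uniq` : a frame is determined by one of its points; `Frm.conj`;
* `AllOne Z K` : all C-pairs are not nil, `a₀(z)` is one class of `C(z)`, it is `ONE`, and three pairwise commuting
  members have product `1`;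
* `trich` : all C-pairs are nil, or every `z` lies in a frame, or `AllOne`.
-/

set_option autoImplicit false
set_option linter.style.haveILetI false
set_option linter.unusedSectionVars false

namespace Cfsg.Agent.Cit.Nil.CompR

open Subgroup Cfsg Cfsg.Agent.Cit Cfsg.Agent.Cit.Nil.AN
open Cfsg.Agent.Cit.Nil.ROne (CP CS TT OneCls)
open Cfsg.Agent.OddOrderLocal.NilParts Cfsg.Agent.StdEven.Syl

variable {G : Type*} [Group G] {Z : Set G} {K : G → Subgroup G} {z u v x y g s a b c : G} {A B : Set G}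
  {F F' : Set (Set G)}

/-- the hypothesis: every class of `C(s)`, `s` a nontrivial product of elements of a clique, is NIL or ONE -/
def TP (Z : Set G) (K : G → Subgroup G) : Prop := ∀ S : Sylow 2 G, ∀ s ∈ TT Z K S, s ≠ 1 → TPs Z K s

/-- a frame -/
structure Frm (Z : Set G) (K : G → Subgroup G) (F : Set (Set G)) : Prop where
  two : ∃ A ∈ F, ∃ B ∈ F, A ≠ B
  sub : ∀ A ∈ F, A ⊆ Z
  ne : ∀ A ∈ F, A.Nonempty
  cm : ∀ A ∈ F, ∀ B ∈ F, A ≠ B → ∀ a ∈ A, ∀ b ∈ B, Cm (K a) (K b)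
  nn : ∀ A ∈ F, ∀ x ∈ A, NN Z K x = F \ {A}

/-- all C-pairs are ONE -/
structure AllOne (Z : Set G) (K : G → Subgroup G) : Prop where
  not_nil : ∀ z ∈ Z, ∀ u ∈ Z, CP K z u → u ∉ oP 2 (centralizer {z})
  cls : ∀ z ∈ Z, ∀ u ∈ Z, ∀ v ∈ Z, CP K z u → CP K z v → v ∈ Cl Z K z u
  one : ∀ z ∈ Z, ∀ u ∈ Z, CP K z u → OneC Z K z u
  three : ∀ z ∈ Z, ∀ a ∈ Z, ∀ b ∈ Z, CP K z a → CP K z b → CP K a b → z * a * b = 1

namespace Frm

theorem other (f : Frm Z K F) (_hA : A ∈ F) : ∃ B ∈ F, B ≠ A := by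
  obtain ⟨C, hC, D, hD, hne⟩ := f.two
  by_cases h1 : C = A
  · exact ⟨D, hD, fun e => hne (h1.trans e.symm)⟩
  · exact ⟨C, hC, h1⟩

variable [Finite G] (h : GW Z K)

include h

/-- a class of a frame is the class of each of its points in the centraliser of a point of another class -/
theorem cl_eq (f : Frm Z K F) (hA : A ∈ F) (hB : B ∈ F) (hAB : A ≠ B) (hx : x ∈ A) (hb : b ∈ B) : A = Cl Z K b x := by
  have h1 : A ∈ NN Z K b := by rw [f.nn B hB b hb]; exact ⟨hA, hAB⟩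
  exact (NN_cl h h1 hx).2.2

theorem disj (f : Frm Z K F) (hA : A ∈ F) (hB : B ∈ F) (hx : x ∈ A) (hx' : x ∈ B) : A = B := by
  by_contra hne
  exact not_cm_self h (f.sub A hA hx) (f.cm A hA B hB hne x hx x hx')

theorem uniq (f : Frm Z K F) (f' : Frm Z K F') (hA : A ∈ F) (hB : B ∈ F') (hx : x ∈ A) (hx' : x ∈ B) :
    F = F' ∧ A = B := by
  obtain ⟨C, hC, hCA⟩ := f.other hA
  have h1 := f.nn A hA x hx
  have h2 := f'.nn B hB x hx'
  have hC1 : C ∈ F' \ {B} := by rw [← h2, h1]; exact ⟨hC, hCA⟩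
  obtain ⟨c, hc⟩ := f.ne C hC
  have h3 : A = B := by
    rw [f.cl_eq h hA hC hCA.symm hx hc, f'.cl_eq h hB hC1.1 (fun e => hC1.2 e.symm) hx' hc]
  refine ⟨?_, h3⟩
  rw [← h3, h1] at h2
  ext D
  by_cases hD : D = A
  · rw [hD]
    exact ⟨fun _ => h3 ▸ hB, fun _ => hA⟩
  · constructor
    · intro h4
      have : D ∈ F' \ {A} := by rw [← h2]; exact ⟨h4, hD⟩
      exact this.1
    · intro h4
      have : D ∈ F \ {A} := by rw [h2]; exact ⟨h4, hD⟩
      exact this.1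

/-- the points of a class do not commute all with a given one -/
theorem exists_not_cm (f : Frm Z K F) (hA : A ∈ F) (hx : x ∈ A) : ∃ y ∈ A, y ≠ x ∧ ¬ Cm (K x) (K y) := by
  obtain ⟨B, hB, hBA⟩ := f.other hA
  obtain ⟨b, hb⟩ := f.ne B hB
  have h1 : A ∈ NN Z K b := by rw [f.nn B hB b hb]; exact ⟨hA, hBA.symm⟩
  obtain ⟨h2, h3, h4⟩ := NN_cl h h1 hx
  rw [h4]
  exact CompR.exists_not_cm h h2 h3

theorem conj (f : Frm Z K F) (g : G) : Frm Z K ((fun A => (fun x => g * x * g⁻¹) '' A) '' F) := by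
  have inj : Function.Injective (fun x : G => g * x * g⁻¹) := fun x y hxy => by
    have := mul_right_cancel hxy
    exact mul_left_cancel this
  refine ⟨?_, ?_, ?_, ?_, ?_⟩
  · obtain ⟨A, hA, B, hB, hne⟩ := f.two
    exact ⟨_, ⟨A, hA, rfl⟩, _, ⟨B, hB, rfl⟩, fun e => hne (inj.image_injective e)⟩
  · rintro _ ⟨A, hA, rfl⟩ _ ⟨x, hx, rfl⟩
    exact h.conjZ x (f.sub A hA hx) g
  · rintro _ ⟨A, hA, rfl⟩
    exact (f.ne A hA).image _
  · rintro _ ⟨A, hA, rfl⟩ _ ⟨B, hB, rfl⟩ hne _ ⟨a, ha, rfl⟩ _ ⟨b, hb, rfl⟩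
    exact cm_conj h (f.sub A hA ha) (f.sub B hB hb) g (f.cm A hA B hB (fun e => hne (by rw [e])) a ha b hb)
  · rintro _ ⟨A, hA, rfl⟩ _ ⟨x, hx, rfl⟩
    have e1 : (fun x : G => g⁻¹ * x * g⁻¹⁻¹) ∘ (fun x : G => g * x * g⁻¹) = id := by
      ext x
      simp only [Function.comp_apply, id_eq]
      group
    have e2 : (fun x : G => g * x * g⁻¹) ∘ (fun x : G => g⁻¹ * x * g⁻¹⁻¹) = id := by
      ext x
      simp only [Function.comp_apply, id_eq]
      group
    ext C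
    constructor
    · intro hC
      have h1 := NN_conj h hC g⁻¹
      have e : g⁻¹ * (g * x * g⁻¹) * g⁻¹⁻¹ = x := by group
      rw [e, f.nn A hA x hx] at h1
      have h2 : (fun x : G => g * x * g⁻¹) '' ((fun x : G => g⁻¹ * x * g⁻¹⁻¹) '' C) = C := by
        rw [← Set.image_comp, e2, Set.image_id]
      refine ⟨⟨_, h1.1, h2⟩, fun h3 => h1.2 ?_⟩
      rw [Set.mem_singleton_iff] at h3 ⊢
      rw [h3, ← Set.image_comp, e1, Set.image_id]
    · rintro ⟨⟨C, hC, rfl⟩, h3⟩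
      apply NN_conj h
      rw [f.nn A hA x hx]
      exact ⟨hC, fun h4 => h3 (by rw [Set.mem_singleton_iff] at h4 ⊢; rw [h4])⟩

end Frm

section

variable [Finite G] (h : GW Z K) (cls : OneCls Z) (tp : TP Z K)

include h

/-- `T'` for `s ∈ Z` -/
theorem TP.of_mem (tp : TP Z K) (hz : z ∈ Z) : TPs Z K z := by
  obtain ⟨S, hS⟩ := h.exists_sylow hz
  exact tp S z (subset_closure hS) (h.ne z hz)

/-- `T'` for the product of a C-pair -/
theorem TP.of_mul (tp : TP Z K) (hz : z ∈ Z) (hu : u ∈ Z) (hc : CP K z u) : TPs Z K (z * u) := by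
  obtain ⟨S, h1, h2⟩ := h.exists_sylow_of_cp hz hu hc
  exact tp S _ (mul_mem (subset_closure h1) (subset_closure h2)) (h.cp_mul_ne hu hc)

theorem NN_ncard_conj (g : G) : (NN Z K (g * s * g⁻¹)).ncard = (NN Z K s).ncard := by
  have key : ∀ (g s : G), (NN Z K s).ncard ≤ (NN Z K (g * s * g⁻¹)).ncard := by
    intro g s
    have inj : Function.Injective (fun x : G => g * x * g⁻¹) := fun x y hxy => by
      have := mul_right_cancel hxy
      exact mul_left_cancel this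
    rw [← Set.ncard_image_of_injective (NN Z K s) inj.image_injective]
    refine Set.ncard_le_ncard ?_ (Set.toFinite _)
    rintro _ ⟨A, hA, rfl⟩
    exact NN_conj h hA g
  apply le_antisymm _ (key g s)
  have h1 := key g⁻¹ (g * s * g⁻¹)
  have e : g⁻¹ * (g * s * g⁻¹) * g⁻¹⁻¹ = s := by group
  rwa [e] at h1

include cls

theorem NN_ncard (hz : z ∈ Z) (hu : u ∈ Z) : (NN Z K u).ncard = (NN Z K z).ncard := by
  obtain ⟨g, rfl⟩ := cls z hz u hu
  exact NN_ncard_conj h g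

include tp

/-- nil is symmetric -/
theorem nil_symm (hz : z ∈ Z) (ha : a ∈ Z) (hza : Cm (K z) (K a)) (h1 : a ∈ oP 2 (centralizer {z})) :
    z ∈ oP 2 (centralizer {a}) := by
  by_contra h2
  have hd := NN_diff h hz ha hza (TP.of_mem h tp hz) (TP.of_mem h tp ha)
  have haO := om_of_cm h hz ha hza
  have hzO := om_of_cm h ha hz hza.symm
  have h3 : Cl Z K z a ∉ NN Z K z := fun h4 => (cl_mem_NN h haO).1 h4 h1
  have h4 : Cl Z K a z ∈ NN Z K a := (cl_mem_NN h hzO).2 h2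
  have h5 := NN_ncard h cls hz ha
  rw [Set.sdiff_singleton_eq_self h3] at hd
  rw [hd] at h5
  have h6 := Set.ncard_sdiff_singleton_lt_of_mem h4 (Set.toFinite _)
  omega

theorem nil_iff (hz : z ∈ Z) (ha : a ∈ Z) (hza : Cm (K z) (K a)) :
    a ∈ oP 2 (centralizer {z}) ↔ z ∈ oP 2 (centralizer {a}) :=
  ⟨nil_symm h cls tp hz ha hza, nil_symm h cls tp ha hz hza.symm⟩

/-- at least two non-nil classes: a frame -/
theorem frame_of_two (hz : z ∈ Z) (h2 : ∃ A ∈ NN Z K z, ∃ B ∈ NN Z K z, A ≠ B) : ∃ F, Frm Z K F ∧ ∃ A ∈ F, z ∈ A := by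
  obtain ⟨A, hA, B, hB, hAB⟩ := h2
  have hT := fun {x : G} (hx : x ∈ Z) => TP.of_mem h tp hx
  -- facts about points of the classes of `C(z)`
  have pt : ∀ {C : Set G} {x : G}, C ∈ NN Z K z → x ∈ C →
      x ∈ Om Z K z ∧ x ∉ oP 2 (centralizer {z}) ∧ Cm (K z) (K x) ∧ C = Cl Z K z x ∧ z ∉ oP 2 (centralizer {x}) ∧
        Cl Z K x z ∈ NN Z K x ∧ z ∈ Om Z K x := by
    intro C x hC hx
    obtain ⟨h1, h2, h3⟩ := NN_cl h hC hx
    have hne : x ≠ z := by
      rintro rfl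
      exact h2 (mem_oP_self h hz)
    have h4 := cm_of_om h hz h1 hne
    have h5 : z ∉ oP 2 (centralizer {x}) := fun h5 => h2 (nil_symm h cls tp h1.1 hz h4.symm h5)
    have h6 := om_of_cm h h1.1 hz h4.symm
    exact ⟨h1, h2, h4, h3, h5, (cl_mem_NN h h6).2 h5, h6⟩
  -- two different classes of `C(z)`: `cl_a(z) = cl_b(z)`
  have step : ∀ {C D : Set G} {x y : G}, C ∈ NN Z K z → D ∈ NN Z K z → C ≠ D → x ∈ C → y ∈ D →
      Cl Z K x z = Cl Z K y z := by
    intro C D x y hC hD hCD hx hy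
    obtain ⟨c1, c2, c3, c4, c5, c6, c7⟩ := pt hC hx
    obtain ⟨d1, d2, d3, d4, d5, d6, d7⟩ := pt hD hy
    have hyC : y ∉ C := fun h1 => hCD (c4.trans (by rw [d4]; exact (cl_eq c1 (c4 ▸ h1)).symm))
    have hxD : x ∉ D := fun h1 => hCD ((c4.trans (cl_eq d1 (d4 ▸ h1))).trans d4.symm)
    have hxy : Cm (K x) (K y) := cl_cm (s := z) (z := x) (cl_refl z x) d1 (by rw [← c4]; exact hyC)
    -- `D` is a class of `C(x)`
    have hDx : D ∈ NN Z K x := NN_exch h hz c1.1 c3 (hT c1.1) hD hxD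
    have hCy : C ∈ NN Z K y := NN_exch h hz d1.1 d3 (hT d1.1) hC hyC
    have hd := NN_diff h c1.1 d1.1 hxy (hT c1.1) (hT d1.1)
    have e1 : Cl Z K x y = D := (NN_cl h hDx hy).2.2.symm
    have e2 : Cl Z K y x = C := (NN_cl h hCy hx).2.2.symm
    rw [e1, e2] at hd
    have h3 : Cl Z K x z ∈ NN Z K x \ {D} := ⟨c6, fun h4 => by
      rw [Set.mem_singleton_iff] at h4
      exact NN_not_mem h hz hD (by rw [← h4]; exact cl_refl x z)⟩
    rw [hd] at h3
    exact (NN_cl h h3.1 (cl_refl x z)).2.2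
  obtain ⟨a0, ha0⟩ := NN_nonempty h hA
  obtain ⟨b0, hb0⟩ := NN_nonempty h hB
  set K0 := Cl Z K a0 z with hK0
  have hall : ∀ {C : Set G} {x : G}, C ∈ NN Z K z → x ∈ C → Cl Z K x z = K0 := by
    intro C x hC hx
    by_cases hCA : C = A
    · rw [step hC hB (hCA ▸ hAB) hx hb0, hK0, step hA hB hAB ha0 hb0]
    · rw [hK0, step hA hC (Ne.symm hCA) ha0 hx]
  have hzK0 : z ∈ K0 := cl_refl a0 z
  have hK0n : ∀ {C : Set G}, C ∈ NN Z K z → K0 ≠ C := fun {C} hC e => NN_not_mem h hz hC (e ▸ hzK0)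
  have hK0Z : K0 ⊆ Z := fun y hy => (cl_sub (pt hA ha0).2.2.2.2.2.2 hy).1
  -- points of `K0` commute with those of the other classes
  have hcm0 : ∀ {C : Set G} {x y : G}, C ∈ NN Z K z → x ∈ C → y ∈ K0 → Cm (K x) (K y) := by
    intro C x y hC hx hy
    obtain ⟨c1, c2, c3, c4, c5, c6, c7⟩ := pt hC hx
    rw [← hall hC hx] at hy
    refine cm_of_om h c1.1 (cl_sub c7 hy) ?_
    rintro rfl
    exact c5 ((nil_cl h c7 hy).1 (mem_oP_self h c1.1))
  have hnnA : ∀ {C : Set G} {x : G}, C ∈ NN Z K z → x ∈ C → NN Z K x = insert K0 (NN Z K z \ {C}) := by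
    intro C x hC hx
    obtain ⟨c1, c2, c3, c4, c5, c6, c7⟩ := pt hC hx
    have hd := NN_diff h hz c1.1 c3 (hT hz) (hT c1.1)
    rw [← c4] at hd
    rw [hd, hall hC hx, Set.insert_sdiff_singleton, Set.insert_eq_of_mem]
    rw [← hall hC hx]
    exact c6
  have hnn0 : ∀ {y : G}, y ∈ K0 → NN Z K y = NN Z K z := by
    intro y hy
    have h1 : NN Z K z ⊆ NN Z K y := by
      intro C hC
      -- a class `D ≠ C`
      obtain ⟨D, hD, hDC⟩ : ∃ D ∈ NN Z K z, D ≠ C := by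
        by_cases hCA : C = A
        · exact ⟨B, hB, fun e => hAB (hCA.symm.trans e.symm)⟩
        · exact ⟨A, hA, Ne.symm hCA⟩
      obtain ⟨x, hx⟩ := NN_nonempty h hD
      obtain ⟨c1, -⟩ := pt hD hx
      have hCx : C ∈ NN Z K x := by rw [hnnA hD hx]; exact Or.inr ⟨hC, fun e => hDC e.symm⟩
      have hyZ := hK0Z hy
      refine NN_exch h c1.1 hyZ (hcm0 hD hx hy) (hT hyZ) hCx fun h4 => ?_
      -- `y ∈ C ∩ K0`
      exact not_cm_self h hyZ (hcm0 hC h4 hy)
    have h2 := NN_ncard h cls (hK0Z hy) hz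
    exact (Set.eq_of_subset_of_ncard_le h1 (by rw [h2]) (Set.toFinite _)).symm
  refine ⟨insert K0 (NN Z K z), ⟨⟨A, Or.inr hA, B, Or.inr hB, hAB⟩, ?_, ?_, ?_, ?_⟩, K0, Or.inl rfl, hzK0⟩
  · rintro C (rfl | hC)
    · exact hK0Z
    · exact fun x hx => (pt hC hx).1.1
  · rintro C (rfl | hC)
    · exact ⟨z, hzK0⟩
    · exact NN_nonempty h hC
  · rintro C (rfl | hC) D (rfl | hD) hne x hx y hy
    · exact (hne rfl).elim
    · exact (hcm0 hD hy hx).symm
    · exact hcm0 hC hx hy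
    · obtain ⟨c1, c2, c3, c4, c5, c6, c7⟩ := pt hC hx
      obtain ⟨d1, d2, d3, d4, d5, d6, d7⟩ := pt hD hy
      refine cl_cm (s := z) (z := x) (cl_refl z x) d1 fun h1 => hne ?_
      rw [c4, d4, cl_eq c1 h1]
  · rintro C (rfl | hC) x hx
    · rw [hnn0 hx]
      ext D
      constructor
      · exact fun hD => ⟨Or.inr hD, fun e => hK0n hD e.symm⟩
      · rintro ⟨rfl | hD, h1⟩
        · exact (h1 rfl).elim
        · exact hD
    · rw [hnnA hC hx]
      ext D
      constructor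
      · rintro (rfl | hD)
        · exact ⟨Or.inl rfl, fun e => hK0n hC e⟩
        · exact ⟨Or.inr hD.1, hD.2⟩
      · rintro ⟨rfl | hD, h1⟩
        · exact Or.inl rfl
        · exact Or.inr ⟨hD, h1⟩

/-- one non-nil class and a nil C-pair: a frame -/
theorem frame_of_nil (h1 : ∀ z ∈ Z, (NN Z K z).ncard = 1) (hz : z ∈ Z) (hu : u ∈ Z) (hzu : Cm (K z) (K u))
    (hn : u ∈ oP 2 (centralizer {z})) : ∃ F, Frm Z K F ∧ ∃ A ∈ F, z ∈ A := by
  have hT := fun {x : G} (hx : x ∈ Z) => TP.of_mem h tp hx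
  have hun : ∀ {x : G} {A B : Set G}, x ∈ Z → A ∈ NN Z K x → B ∈ NN Z K x → A = B := by
    intro x A B hx hA hB
    obtain ⟨C, hC⟩ := Set.ncard_eq_one.1 (h1 x hx)
    rw [hC] at hA hB
    exact hA.trans hB.symm
  -- the classes of `C(z)` and `C(u)`
  have huz : u ∈ Om Z K z := om_of_cm h hz hu hzu
  have hzO : z ∈ Om Z K u := om_of_cm h hu hz hzu.symm
  obtain ⟨B, hB⟩ := Set.ncard_eq_one.1 (h1 z hz)
  have hBz : B ∈ NN Z K z := by rw [hB]; rfl
  have hBu : B ∈ NN Z K u := by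
    have hd := NN_diff h hz hu hzu (hT hz) (hT hu)
    have h2 : B ∈ NN Z K z \ {Cl Z K z u} := ⟨hBz, fun e => by
      rw [Set.mem_singleton_iff] at e
      exact (cl_mem_NN h huz).1 (e ▸ hBz) hn⟩
    rw [hd] at h2
    exact h2.1
  obtain ⟨a, haB⟩ := NN_nonempty h hBz
  obtain ⟨az, azn, aze⟩ := NN_cl h hBz haB
  obtain ⟨au, aun, aue⟩ := NN_cl h hBu haB
  have haZ := az.1
  have hza : Cm (K z) (K a) := cm_of_om h hz az (by rintro rfl; exact azn (mem_oP_self h haZ))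
  have hua : Cm (K u) (K a) := cm_of_om h hu au (by rintro rfl; exact aun (mem_oP_self h haZ))
  have zOa : z ∈ Om Z K a := om_of_cm h haZ hz hza.symm
  have uOa : u ∈ Om Z K a := om_of_cm h haZ hu hua.symm
  have znn : z ∉ oP 2 (centralizer {a}) := fun h2 => azn (nil_symm h cls tp haZ hz hza.symm h2)
  have unn : u ∉ oP 2 (centralizer {a}) := fun h2 => aun (nil_symm h cls tp haZ hu hua.symm h2)
  set A := Cl Z K a z with hA
  have hAa : A ∈ NN Z K a := (cl_mem_NN h zOa).2 znn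
  have hAu : A = Cl Z K a u := hun haZ hAa ((cl_mem_NN h uOa).2 unn)
  have huA : u ∈ A := by rw [hAu]; exact cl_refl a u
  have hzA : z ∈ A := cl_refl a z
  have oneA : OneC Z K a z := (hT haZ z zOa).resolve_left znn
  -- `e = z u` centralises both
  set e := z * u with he
  have hBe : ∀ x ∈ B, x ∈ Om Z K e := fun x hx =>
    ⟨(NN_cl h hBz hx).1.1, (NN_cl h hBz hx).1.2.mul (NN_cl h hBu hx).1.2⟩
  have hAe : ∀ x ∈ A, x ∈ Om Z K e := fun x hx =>
    ⟨(cl_sub zOa hx).1, oneA z (cl_refl a z) u huA hzu x hx⟩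
  have hBe' : B ⊆ Cl Z K e a := by rw [aze]; exact cl_mono fun x hx => hBe x (aze ▸ hx)
  have hAe' : A ⊆ Cl Z K e z := cl_mono hAe
  have aOe := hBe a haB
  have zOe := hAe z hzA
  have hTe : TPs Z K e := TP.of_mul h tp hz hu ⟨ne_of_cm h hz hzu, hzu⟩
  have ane : a ∉ oP 2 (centralizer {e}) := by
    intro h2
    apply azn
    refine nil_down h az (isPGroup_oP 2 (centralizer {e})) fun x hx => ?_
    rw [← aze] at hx
    exact (nil_cl h aOe (hBe' hx)).2 h2
  have onee : OneC Z K e a := (hTe a aOe).resolve_left ane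
  have zne : z ∉ Cl Z K e a := by
    intro h2
    apply azn
    refine nil_of_ce h az fun x hx => ?_
    rw [← aze] at hx
    have h3 := onee z h2 a (cl_refl e a) hza x (hBe' hx)
    have h4 : Ce z (K x) := (NN_cl h hBz hx).1.2
    have h5 : z * (z * a) = a := by rw [← mul_assoc, h.sq z hz, one_mul]
    rw [← h5]
    exact h4.mul h3
  have hab : ∀ x ∈ A, ∀ y ∈ B, Cm (K x) (K y) := by
    intro x hx y hy
    have h2 : Cl Z K e a ∩ Cl Z K e z = ∅ := by
      rw [Set.eq_empty_iff_forall_notMem]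
      rintro w ⟨h3, h4⟩
      exact zne (cl_trans h3 (cl_symm zOe h4))
    refine (cl_cm (hBe' hy) (hAe x hx) fun h3 => ?_).symm
    have : x ∈ Cl Z K e a ∩ Cl Z K e z := ⟨h3, hAe' hx⟩
    rw [h2] at this
    exact this
  -- sizes
  have size : ∀ {x y : G} {C D : Set G}, x ∈ Z → y ∈ Z → C ∈ NN Z K x → D ∈ NN Z K y → C.ncard = D.ncard := by
    intro x y C D hx hy hC hD
    obtain ⟨g, rfl⟩ := cls x hx y hy
    rw [← hun hy (NN_conj h hC g) hD]
    refine (Set.ncard_image_of_injective C fun x y hxy => ?_).symm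
    exact mul_left_cancel (mul_right_cancel hxy)
  have hAZ : A ⊆ Z := fun x hx => (cl_sub zOa hx).1
  have hBZ : B ⊆ Z := fun x hx => (NN_cl h hBz hx).1.1
  have hNA : ∀ x ∈ A, NN Z K x = {B} := by
    intro x hx
    have hxZ := hAZ hx
    have h2 : ∀ y ∈ B, y ∈ Om Z K x := fun y hy => om_of_cm h hxZ (hBZ hy) (hab x hx y hy)
    have h3 : a ∉ oP 2 (centralizer {x}) := by
      intro h4
      obtain ⟨-, h5, -⟩ := NN_cl h hAa hx
      exact h5 (nil_symm h cls tp hxZ haZ (hab x hx a haB) h4)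
    have h4 : Cl Z K x a ∈ NN Z K x := (cl_mem_NN h (h2 a haB)).2 h3
    have h5 : B ⊆ Cl Z K x a := by rw [aze]; exact cl_mono fun y hy => h2 y (aze ▸ hy)
    have h6 : B = Cl Z K x a := Set.eq_of_subset_of_ncard_le h5 (size hxZ hz h4 hBz).le (Set.toFinite _)
    obtain ⟨D, hD⟩ := Set.ncard_eq_one.1 (h1 x hxZ)
    rw [hD] at h4 ⊢
    rw [h6, h4]
  have hNB : ∀ x ∈ B, NN Z K x = {A} := by
    intro x hx
    have hxZ := hBZ hx
    have h2 : ∀ y ∈ A, y ∈ Om Z K x := fun y hy => om_of_cm h hxZ (hAZ hy) (hab y hy x hx).symm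
    have h3 : z ∉ oP 2 (centralizer {x}) := by
      intro h4
      obtain ⟨-, h5, -⟩ := NN_cl h hBz hx
      exact h5 (nil_symm h cls tp hxZ hz (hab z hzA x hx).symm h4)
    have h4 : Cl Z K x z ∈ NN Z K x := (cl_mem_NN h (h2 z hzA)).2 h3
    have h5 : A ⊆ Cl Z K x z := cl_mono h2
    have h6 : A = Cl Z K x z := Set.eq_of_subset_of_ncard_le h5 (size hxZ haZ h4 hAa).le (Set.toFinite _)
    obtain ⟨D, hD⟩ := Set.ncard_eq_one.1 (h1 x hxZ)
    rw [hD] at h4 ⊢
    rw [h6, h4]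
  have hABne : A ≠ B := fun e => not_cm_self h hz (hab z hzA z (e ▸ hzA))
  refine ⟨{A, B}, ⟨⟨A, Or.inl rfl, B, Or.inr rfl, hABne⟩, ?_, ?_, ?_, ?_⟩, A, Or.inl rfl, hzA⟩
  · rintro C (rfl | rfl)
    · exact hAZ
    · exact hBZ
  · rintro C (rfl | rfl)
    · exact ⟨z, hzA⟩
    · exact ⟨a, haB⟩
  · rintro C (rfl | rfl) D (rfl | rfl) hne x hx y hy
    · exact (hne rfl).elim
    · exact hab x hx y hy
    · exact (hab y hy x hx).symm
    · exact (hne rfl).elim
  · rintro C (rfl | rfl) x hx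
    · rw [hNA x hx, Set.insert_sdiff_of_mem _ (Set.mem_singleton A), Set.sdiff_singleton_eq_self]
      exact fun e => hABne e
    · rw [hNB x hx]
      ext D
      constructor
      · rintro rfl
        exact ⟨Or.inl rfl, hABne⟩
      · rintro ⟨rfl | rfl, h2⟩
        · rfl
        · exact (h2 rfl).elim

/-- one non-nil class and no nil C-pair -/
theorem allOne (h1 : ∀ z ∈ Z, (NN Z K z).ncard = 1) (h2 : ∀ z ∈ Z, ∀ u ∈ Z, CP K z u → u ∉ oP 2 (centralizer {z})) :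
    AllOne Z K := by
  have hT := fun {x : G} (hx : x ∈ Z) => TP.of_mem h tp hx
  have hun : ∀ {x : G} {A B : Set G}, x ∈ Z → A ∈ NN Z K x → B ∈ NN Z K x → A = B := by
    intro x A B hx hA hB
    obtain ⟨C, hC⟩ := Set.ncard_eq_one.1 (h1 x hx)
    rw [hC] at hA hB
    exact hA.trans hB.symm
  have hcls : ∀ {z u v : G}, z ∈ Z → u ∈ Z → v ∈ Z → CP K z u → CP K z v → v ∈ Cl Z K z u := by
    intro z u v hz hu hv h3 h4
    have h5 : Cl Z K z u ∈ NN Z K z := (cl_mem_NN h (om_of_cm h hz hu h3.2)).2 (h2 z hz u hu h3)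
    have h6 : Cl Z K z v ∈ NN Z K z := (cl_mem_NN h (om_of_cm h hz hv h4.2)).2 (h2 z hz v hv h4)
    rw [hun hz h5 h6]
    exact cl_refl z v
  have hone : ∀ {z u : G}, z ∈ Z → u ∈ Z → CP K z u → OneC Z K z u := fun {z u} hz hu h3 =>
    (hT hz u (om_of_cm h hz hu h3.2)).resolve_left (h2 z hz u hu h3)
  refine ⟨h2, fun z hz u hu v hv => hcls hz hu hv, fun z hz u hu => hone hz hu, ?_⟩
  intro z hz a ha b hb hza hzb hab
  by_contra ht
  set t := z * a * b with htd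
  have cza := h.comm_of_cp hz ha hza
  have czb := h.comm_of_cp hz hb hzb
  have cab := h.comm_of_cp ha hb hab
  have haz : CP K a z := hza.symm
  -- `t` centralises the classes `cl_z(a)` and `cl_a(z)`
  have haO := om_of_cm h hz ha hza.2
  have hbO := om_of_cm h hz hb hzb.2
  have hzO := om_of_cm h ha hz haz.2
  have s1 : Cl Z K z a ⊆ Om Z K t := fun x hx => by
    have h3 := hone hz ha hza a (cl_refl z a) b (hcls hz ha hb hza hzb) hab.2 x hx
    have h4 := (cl_sub haO hx).2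
    refine ⟨(cl_sub haO hx).1, ?_⟩
    rw [htd, mul_assoc]
    exact h4.mul h3
  have s2 : Cl Z K a z ⊆ Om Z K t := fun x hx => by
    have h3 := hone ha hz haz z (cl_refl a z) b (hcls ha hz hb haz hab) hzb.2 x hx
    have h4 := (cl_sub hzO hx).2
    refine ⟨(cl_sub hzO hx).1, ?_⟩
    rw [htd, cza, mul_assoc]
    exact h4.mul h3
  have i1 : Cl Z K z a ⊆ Cl Z K t a := cl_mono s1
  have i2 : Cl Z K a z ⊆ Cl Z K t z := cl_mono s2
  have b1 : b ∈ Cl Z K t a := i1 (hcls hz ha hb hza hzb)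
  have b2 : b ∈ Cl Z K t z := i2 (hcls ha hz hb haz hab)
  have aOt := s1 (cl_refl z a)
  have zOt := s2 (cl_refl a z)
  have hz1 : z ∈ Cl Z K t a := cl_trans b1 (cl_symm zOt b2)
  -- `T'` for `t`
  obtain ⟨S, hS⟩ : ∃ S : Sylow 2 G, z ∈ CS Z K S ∧ a ∈ CS Z K S ∧ b ∈ CS Z K S := by
    classical
    obtain ⟨S, hS⟩ := (h.isPGroup_clique {z, a, b} (by
      intro x hx
      simp only [Finset.mem_insert, Finset.mem_singleton] at hx
      rcases hx with rfl | rfl | rfl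
      · exact hz
      · exact ha
      · exact hb) (by
      intro x hx y hy hne
      simp only [Finset.mem_insert, Finset.mem_singleton] at hx hy
      rcases hx with rfl | rfl | rfl <;> rcases hy with rfl | rfl | rfl
      · exact (hne rfl).elim
      · exact hza
      · exact hzb
      · exact hza.symm
      · exact (hne rfl).elim
      · exact hab
      · exact hzb.symm
      · exact hab.symm
      · exact (hne rfl).elim)).exists_le_sylow
    have h3 : ∀ x ∈ ({z, a, b} : Finset G), K x ≤ S := fun x hx => (le_iSup₂_of_le x hx le_rfl).trans hS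
    exact ⟨S, ⟨hz, h3 z (by simp)⟩, ⟨ha, h3 a (by simp)⟩, ⟨hb, h3 b (by simp)⟩⟩
  have hTt : TPs Z K t := tp S t (mul_mem (mul_mem (subset_closure hS.1) (subset_closure hS.2.1))
    (subset_closure hS.2.2)) ht
  have ann := h2 z hz a ha hza
  rcases hTt a aOt with h3 | h3
  · apply ann
    refine nil_down h haO (isPGroup_oP 2 (centralizer {t})) fun x hx => ?_
    exact (nil_cl h aOt (i1 hx)).2 h3
  · apply ann
    refine nil_of_ce h haO fun x hx => ?_
    have h4 := h3 z hz1 a (cl_refl t a) hza.2 x (i1 hx)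
    have h5 : z * (z * a) = a := by rw [← mul_assoc, h.sq z hz, one_mul]
    rw [← h5]
    exact (cl_sub haO hx).2.mul h4

/-- **the trichotomy** -/
theorem trich : (∀ z ∈ Z, ∀ u ∈ Z, CP K z u → u ∈ oP 2 (centralizer {z})) ∨
    (∀ z ∈ Z, ∃ F, Frm Z K F ∧ ∃ A ∈ F, z ∈ A) ∨ AllOne Z K := by
  by_cases h0 : ∀ z ∈ Z, (NN Z K z).ncard = 0
  · left
    intro z hz u hu hc
    by_contra hn
    have h1 : Cl Z K z u ∈ NN Z K z := (cl_mem_NN h (om_of_cm h hz hu hc.2)).2 hn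
    rw [(Set.ncard_eq_zero (Set.toFinite _)).1 (h0 z hz)] at h1
    exact h1
  · right
    push Not at h0
    obtain ⟨z0, hz0, h0⟩ := h0
    by_cases h1 : (NN Z K z0).ncard = 1
    · have h1' : ∀ z ∈ Z, (NN Z K z).ncard = 1 := fun z hz => by rw [NN_ncard h cls hz0 hz, h1]
      by_cases h2 : ∀ z ∈ Z, ∀ u ∈ Z, CP K z u → u ∉ oP 2 (centralizer {z})
      · exact Or.inr (allOne h cls tp h1' h2)
      · left
        push Not at h2
        obtain ⟨z, hz, u, hu, hc, hn⟩ := h2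
        obtain ⟨F, hF, A, hA, hzA⟩ := frame_of_nil h cls tp h1' hz hu hc.2 hn
        intro y hy
        obtain ⟨g, rfl⟩ := cls z hz y hy
        exact ⟨_, hF.conj h g, _, ⟨A, hA, rfl⟩, ⟨z, hzA, rfl⟩⟩
    · left
      intro z hz
      apply frame_of_two h cls tp hz
      have h2 : 1 < (NN Z K z).ncard := by
        rw [NN_ncard h cls hz0 hz]
        omega
      obtain ⟨A, hA, B, hB, hAB⟩ := (Set.one_lt_ncard (Set.toFinite _)).1 h2
      exact ⟨A, hA, B, hB, hAB⟩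

end

end Cfsg.Agent.Cit.Nil.CompR
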