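import Cfsg.Agent.Cit.Nil.CompR.Frame
import Cfsg.Agent.Cit.Nil.IndDefs
import Cfsg.Agent.Cit.Nil.ROne.FStar

/-!
# S1309 (6b), COMP, any `r`: `T'` for `C(s)`, for members and for points, from the induction hypothesis

* `MOm Om s` : the members contained in `C(s)`; `MCl Om s K` : the class of `K` (component of the non-commuting graph);
* `OneM`, `TPm Om s` : `T'` for the members in `C(s)` : nil or `ONE`;
* `TPm.tps` : `TPm Om s → TPs (ZZ Om) (RR Om) s` (`T'` for the points `z` with `R_z ≤ C(s)`);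
* `tpm_of_ih`, `tp_of_ih` : `TPm`, `TP` from the field `ih` of helper500's `SCW`, if `O(C(s)) = 1` and no member in
  `C(s)` has `Three` in `C(s)`.
-/

set_option autoImplicit false
set_option linter.style.haveILetI false
set_option linter.unusedSectionVars false

namespace Cfsg.Agent.Cit.Nil.CompR

open Subgroup Cfsg Cfsg.Agent.Cit
open Cfsg.Agent.Cit.Nil.ROne (CP CS TT OneCls)
open Cfsg.Agent.Cit.Nil.AN (Cm Ce Om Cl OneC St cl_sub cl_symm cl_refl)
open Cfsg.Agent.OddOrderLocal.NilParts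
open RG (WR ZZ Ov RR)

section defs

variable {G : Type*} [Group G]

/-- the members contained in `C(s)` -/
def MOm (Ω : Set (Subgroup G)) (s : G) : Set (Subgroup G) := {K | K ∈ Ω ∧ K ≤ centralizer {s}}

/-- a step in the non-commuting graph of `MOm Ω s` -/
def MSt (Ω : Set (Subgroup G)) (s : G) (K L : Subgroup G) : Prop := L ∈ MOm Ω s ∧ ¬ Cm K L

/-- the class of `K` -/
def MCl (Ω : Set (Subgroup G)) (s : G) (K : Subgroup G) : Set (Subgroup G) :=
  {L | Relation.ReflTransGen (MSt Ω s) K L}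

/-- `ONE` -/
def OneM (Ω : Set (Subgroup G)) (s : G) (K : Subgroup G) : Prop :=
  ∀ K₁ ∈ MCl Ω s K, ∀ K₂ ∈ MCl Ω s K, Cm K₁ K₂ → ∀ L ∈ MCl Ω s K, Ce (zz K₁ * zz K₂) L

/-- `T'` for the members in `C(s)` -/
def TPm (Ω : Set (Subgroup G)) (s : G) : Prop :=
  ∀ K ∈ MOm Ω s, zz K ∈ oP 2 (centralizer {s}) ∨ OneM Ω s K

variable {Ω : Set (Subgroup G)} {K L M : Subgroup G} {z v w x y g s a b c : G}

theorem mcl_refl : K ∈ MCl Ω s K := Relation.ReflTransGen.refl

theorem mcl_sub (hK : K ∈ MOm Ω s) (hL : L ∈ MCl Ω s K) : L ∈ MOm Ω s := by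
  rcases Relation.ReflTransGen.cases_tail hL with h | ⟨c, -, h⟩
  · rw [h]; exact hK
  · exact h.1

theorem mcl_step (hL : L ∈ MCl Ω s K) (hM : M ∈ MOm Ω s) (h : ¬ Cm L M) : M ∈ MCl Ω s K :=
  Relation.ReflTransGen.tail hL ⟨hM, h⟩

theorem mcl_cm (hL : L ∈ MCl Ω s K) (hM : M ∈ MOm Ω s) (h : M ∉ MCl Ω s K) : Cm L M := by
  by_contra hc
  exact h (mcl_step hL hM hc)

theorem mcl_trans (hL : L ∈ MCl Ω s K) (hM : M ∈ MCl Ω s L) : M ∈ MCl Ω s K := Relation.ReflTransGen.trans hL hM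

theorem mcl_symm (hK : K ∈ MOm Ω s) (hL : L ∈ MCl Ω s K) : K ∈ MCl Ω s L := by
  have hL' : Relation.ReflTransGen (MSt Ω s) K L := hL
  show Relation.ReflTransGen (MSt Ω s) L K
  clear hL
  induction hL' with
  | refl => exact Relation.ReflTransGen.refl
  | tail h1 h2 ih =>
    exact Relation.ReflTransGen.trans (Relation.ReflTransGen.single ⟨mcl_sub hK h1, fun h => h2.2 h.symm⟩) ih

end defs

universe u

variable {G : Type u} [Group G] {Ω : Set (Subgroup G)} {K L M : Subgroup G} {z v w x y g s a b c : G}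

section points

variable (h : WR Ω)

include h

/-- a member over a point of `Om Z K s` is contained in `C(s)` -/
theorem mem_MOm (hx : x ∈ Om (ZZ Ω) (RR Ω) s) (hL : L ∈ Ov Ω x) : L ∈ MOm Ω s :=
  ⟨hL.1, fun k hk => mem_centralizer_singleton_iff.2 (hx.2 k (WR.le_RR hL hk)).symm⟩

/-- members over non-C-related points do not commute -/
theorem not_cm_of (hne : x ≠ y) (hn : ¬ Cm (RR Ω x) (RR Ω y)) (hK : K ∈ Ov Ω x) (hL : L ∈ Ov Ω y) : ¬ Cm K L := by
  intro h1
  have h2 : RG.CP Ω x y := h.CP_of_cen hK (fun k hk => (h1 k hk y (h.Ov_mem hL)).symm) hne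
  exact hn fun a ha b hb => h.CP_RR h2 ha hb

theorem mcl_aux (hx : x ∈ Om (ZZ Ω) (RR Ω) s) (hK : K ∈ Ov Ω x) (hy : y ∈ Cl (ZZ Ω) (RR Ω) s x) :
    y = x ∨ ∀ L ∈ Ov Ω y, L ∈ MCl Ω s K := by
  have hy' : Relation.ReflTransGen (St (ZZ Ω) (RR Ω) s) x y := hy
  clear hy
  induction hy' with
  | refl => exact Or.inl rfl
  | @tail b c h1 h2 ih =>
    have hb : b ∈ Om (ZZ Ω) (RR Ω) s := cl_sub hx h1
    by_cases hcx : c = x
    · exact Or.inl hcx
    right
    intro L hL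
    rcases ih with rfl | ih
    · exact mcl_step mcl_refl (mem_MOm h h2.1 hL) (not_cm_of h (Ne.symm hcx) h2.2 hK hL)
    · by_cases hbc : b = c
      · subst hbc
        exact ih L hL
      · obtain ⟨M, hM⟩ := hb.1
        exact mcl_step (ih M hM) (mem_MOm h h2.1 hL) (not_cm_of h hbc h2.2 hM hL)

/-- all members over the points of a nontrivial class lie in one class -/
theorem mcl_all (hx : x ∈ Om (ZZ Ω) (RR Ω) s) (hK : K ∈ Ov Ω x) (hy : y ∈ Cl (ZZ Ω) (RR Ω) s x) (hyx : y ≠ x)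
    (hv : v ∈ Cl (ZZ Ω) (RR Ω) s x) (hL : L ∈ Ov Ω v) : L ∈ MCl Ω s K := by
  by_cases hvx : v = x
  · subst hvx
    have hyO := cl_sub hx hy
    obtain ⟨M, hM⟩ := hyO.1
    exact mcl_trans ((mcl_aux h hx hK hy).resolve_left hyx M hM)
      ((mcl_aux h hyO hM (cl_symm hx hy)).resolve_left hyx.symm L hL)
  · exact (mcl_aux h hx hK hv).resolve_left hvx L hL

variable [Finite G]

/-- **`T'` for the points** -/
theorem TPm.tps (hyp : Hyp Ω) (hT : TPm Ω s) : TPs (ZZ Ω) (RR Ω) s := by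
  intro x hx
  obtain ⟨K, hK⟩ := hx.1
  rcases hT K (mem_MOm h hx hK) with h4 | h4
  · left
    rwa [hK.2] at h4
  · right
    intro u hu v hv huv y hy k hk
    have hne : u ≠ v := fun e => (GW.of_wr h hyp).nab (cl_sub hx hu).1 (by
      nth_rewrite 2 [e]
      exact huv)
    have hnt : ∃ y ∈ Cl (ZZ Ω) (RR Ω) s x, y ≠ x := by
      by_cases h5 : u = x
      · exact ⟨v, hv, fun e => hne (h5.trans e.symm)⟩
      · exact ⟨u, hu, h5⟩
    obtain ⟨y₀, hy₀, hy₀x⟩ := hnt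
    have hall : ∀ {v : G}, v ∈ Cl (ZZ Ω) (RR Ω) s x → ∀ {L : Subgroup G}, L ∈ Ov Ω v →
        L ∈ MCl Ω s K := fun hv _ hL => mcl_all h hx hK hy₀ hy₀x hv hL
    obtain ⟨A, hA⟩ := (cl_sub hx hu).1
    obtain ⟨B, hB⟩ := (cl_sub hx hv).1
    have hcm : Cm A B := fun a ha b hb => huv a (WR.le_RR hA ha) b (WR.le_RR hB hb)
    refine (RG.SS_comm (𝒦 := Ov Ω y) (x := u * v) (fun L hL l hl => ?_) hk)
    have h5 := h4 _ (hall hu hA) _ (hall hv hB) hcm _ (hall hy hL) l hl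
    rwa [hA.2, hB.2] at h5

end points

/-! ### From `TStat` -/

section ind

open IndDefs (Adj comp T0 NIL ONE Three THREE TStat SCW mem_comp_self comp_symm comp_trans comp_eq mem_comp_of comp_sub)

variable [Finite G]

theorem cm_subOf_iff (hK : K ≤ centralizer {s}) (hL : L ≤ centralizer {s}) :
    IndDefs.Cm (K.subgroupOf (centralizer {s})) (L.subgroupOf (centralizer {s})) ↔ Cm K L := by
  constructor
  · intro h1 k hk l hl
    exact congrArg Subtype.val (h1 ⟨k, hK hk⟩ hk ⟨l, hL hl⟩ hl)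
  · intro h1 k hk l hl
    exact Subtype.ext (h1 k hk l hl)

theorem zz_subOf (hyp : Hyp Ω) (hK : K ∈ MOm Ω s) :
    ((zz (K.subgroupOf (centralizer {s})) : ↥(centralizer {s})) : G) = zz K := by
  rw [zz_map hyp (subgroupOf_mem_restr hK.1 hK.2), map_subgroupOf_eq_of_le hK.2]

theorem mcl_comp (hK : K ∈ MOm Ω s) (hL : L ∈ MCl Ω s K) :
    L.subgroupOf (centralizer {s}) ∈ comp (restr Ω (centralizer {s})) (K.subgroupOf (centralizer {s})) := by
  have hL' : Relation.ReflTransGen (MSt Ω s) K L := hL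
  clear hL
  induction hL' with
  | refl => exact mem_comp_self
  | @tail b c h1 h2 ih =>
    have hb := mcl_sub hK h1
    refine mem_comp_of ih ⟨subgroupOf_mem_restr hb.1 hb.2, subgroupOf_mem_restr h2.1.1 h2.1.2, fun h3 => h2.2 ?_⟩
    exact (cm_subOf_iff hb.2 h2.1.2).1 h3

theorem tpm_of_tstat (hyp : Hyp Ω) (hT : ∀ K ∈ restr Ω (centralizer {s}), TStat (restr Ω (centralizer {s})) K)
    (h3 : ∀ K ∈ restr Ω (centralizer {s}), ¬ Three K) : TPm Ω s := by
  intro K hK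
  have h1 := subgroupOf_mem_restr hK.1 hK.2
  rcases hT _ h1 with h4 | h4 | ⟨K₁, h5, h6⟩
  · left
    have h5 : zz (K.subgroupOf (centralizer {s})) ∈ Cfsg.pCore 2 ↥(centralizer {s}) := h4
    rw [oP_def]
    exact ⟨zz (K.subgroupOf (centralizer {s})), h5, zz_subOf hyp hK⟩
  · right
    intro K₁ hK₁ K₂ hK₂ hc L hL l hl
    have m1 := mcl_sub hK hK₁
    have m2 := mcl_sub hK hK₂
    have m3 := mcl_sub hK hL
    have h5 := h4 _ (mcl_comp hK hK₁) _ (mcl_comp hK hK₂) ((cm_subOf_iff m1.2 m2.2).2 hc) _ (mcl_comp hK hL)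
      ⟨l, m3.2 hl⟩ hl
    have h6 := congrArg Subtype.val h5
    simp only [Subgroup.coe_mul] at h6
    rwa [zz_subOf hyp m1, zz_subOf hyp m2] at h6
  · exact absurd h6 (h3 K₁ (comp_sub h1 h5))

theorem restr_t0 (t0 : T0 Ω) (hc : Cfsg.pPrimeCore 2 ↥(centralizer {s}) = ⊥) : T0 (restr Ω (centralizer {s})) where
  hyp := t0.hyp.restr _
  card K hK := by
    rw [Nat.card_congr (K.equivMapOfInjective _ (centralizer {s}).subtype_injective).toEquiv]
    exact t0.card _ hK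
  core := hc

/-- **`T'` for the members in `C(s)` from the induction hypothesis** -/
theorem tpm_of_ih (w : SCW G Ω) (hs : s ≠ 1) (hc : Cfsg.pPrimeCore 2 ↥(centralizer {s}) = ⊥)
    (h3 : ∀ K ∈ restr Ω (centralizer {s}), ¬ Three K) : TPm Ω s := by
  have f := ROne.fsimp_of w.simple w.na
  have hlt : Nat.card ↥(centralizer {s}) < Nat.card G := by
    refine lt_of_le_of_ne (Subgroup.card_le_card_group _) fun h1 => hs ?_
    have h2 : centralizer {s} = ⊤ := Subgroup.eq_top_of_card_eq _ h1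
    rw [← Subgroup.mem_bot, ← f.cen, mem_centralizer_iff]
    intro y _
    have h4 : y ∈ centralizer {s} := by rw [h2]; exact mem_top y
    exact mem_centralizer_singleton_iff.1 h4
  exact tpm_of_tstat w.t0.hyp (w.ih _ _ hlt (restr_t0 w.t0 hc)) h3

/-- **`T'` for the points from the induction hypothesis** -/
theorem tp_of_ih (w : SCW G Ω) (hc : ∀ s : G, s * s = 1 → s ≠ 1 → Cfsg.pPrimeCore 2 ↥(centralizer {s}) = ⊥)
    (h3 : ∀ s : G, s * s = 1 → s ≠ 1 → ∀ K ∈ restr Ω (centralizer {s}), ¬ Three K) : TP (ZZ Ω) (RR Ω) := by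
  have h : WR Ω := WR.of_hyp w.t0.hyp w.t0.card
  intro S s hs hs1
  have hss := (GW.of_wr h w.t0.hyp).TT_sq S.isPGroup' hs
  exact (tpm_of_ih w hs1 (hc s hss hs1) (h3 s hss hs1)).tps h w.t0.hyp

end ind

end Cfsg.Agent.Cit.Nil.CompR
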