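import Cfsg.Agent.Cit.Nil.CompR.Frame

/-!
# S1309 (n6), COMP, `r = 2`, `AllOne`, (M2): the steps (A) and (end) of helper386's proof (bb R18 #20410)

`BB Z K z` : the C-partners of `z`.

`M2H Z K` : the input of (M2) as a structure on hypotheses ((0), no 3-clique, (b1), (b3), (b4));
`M2H.not_acts` : **(A)**; `M2H.cent` : an element of `B(a)` commuting with `z` centralises `X_z`;
`M2H.eq_of_cp` : **(end)** `B(b) = B(z)` for all `b ∈ B(a)`;
`M2H.frame` : every point lies in the frame `{B(a), B(z)}`.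
-/

set_option autoImplicit false
set_option linter.style.haveILetI false
set_option linter.unusedSectionVars false

namespace Cfsg.Agent.Cit.Nil.CompR

open Subgroup Cfsg Cfsg.Agent.Cit Cfsg.Agent.Cit.Nil.AN
open Cfsg.Agent.Cit.Nil.ROne (CP CS TT OneCls)
open Cfsg.Agent.OddOrderLocal.NilParts Cfsg.Agent.StdEven.Syl

variable {G : Type*} [Group G] {Z : Set G} {K : G → Subgroup G} {z u v x y g s a b c t e : G}

/-- the C-partners of `z` -/
def BB (Z : Set G) (K : G → Subgroup G) (z : G) : Set G := {u | u ∈ Z ∧ CP K z u}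

/-- `g` centralises `X_z` -/
def CeX (Z : Set G) (K : G → Subgroup G) (z g : G) : Prop := ∀ b ∈ BB Z K z, Ce g (K b)

/-- the input of (M2) -/
structure M2H (Z : Set G) (K : G → Subgroup G) : Prop where
  /-- (0) -/
  e_notMem : ∀ u ∈ Z, ∀ v ∈ Z, CP K u v → u * v ∉ Z
  /-- (0) -/
  e_mul : ∀ u ∈ Z, ∀ v ∈ Z, CP K u v → ∀ x ∈ Om Z K (u * v), x * (u * v) ∈ Z
  /-- no 3-clique -/
  no3 : ∀ z ∈ Z, ∀ a ∈ Z, ∀ b ∈ Z, CP K z a → CP K z b → ¬ CP K a b
  /-- (b1): an element of `B(a)` commuting with `z` acts on `X_z` as `1` or as `a` -/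
  b1 : ∀ z ∈ Z, ∀ a ∈ Z, CP K z a → ∀ t ∈ BB Z K a, t * z = z * t → CeX Z K z t ∨ CeX Z K z (t * a)
  /-- (b3): two commuting type I partners of `a` in `B(z)` whose product is a third one -/
  b3 : ∀ z ∈ Z, ∀ a ∈ Z, CP K z a → ∃ x₁ x₂ : G, x₁ ∈ BB Z K z ∧ x₂ ∈ BB Z K z ∧ x₁ * x₂ ∈ BB Z K z ∧
    x₁ * a = a * x₁ ∧ x₂ * a = a * x₂ ∧ x₁ * a ∈ Z ∧ x₂ * a ∈ Z ∧ x₁ * x₂ * a ∈ Z
  /-- (b4): the commuting graph on `B(a)` is connected -/
  b4 : ∀ z ∈ Z, ∀ a ∈ Z, CP K z a → ∀ b ∈ BB Z K a,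
    Relation.ReflTransGen (fun x y => x ∈ BB Z K a ∧ y ∈ BB Z K a ∧ x * y = y * x) z b

namespace M2H

variable [Finite G] (m : M2H Z K) (h : GW Z K) (ao : AllOne Z K)

include m h ao

omit m [Finite G] in
/-- `B(a)` contains a point which is not `z` -/
theorem exists_ne [Finite G] (hz : z ∈ Z) (ha : a ∈ Z) (hc : CP K z a) :
    ∃ y ∈ BB Z K a, y ≠ z ∧ ¬ Cm (K z) (K y) := by
  have h1 : z ∈ Om Z K a := om_of_cm h ha hz hc.symm.2
  obtain ⟨y, hy, hyz, hn⟩ := exists_not_cm h h1 (ao.not_nil a ha z hz hc.symm)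
  have hyO := cl_sub h1 hy
  refine ⟨y, ⟨hyO.1, ?_⟩, hyz, hn⟩
  have hya : y ≠ a := by
    rintro rfl
    exact hn hc.2
  exact (cp_iff h ha).2 (cm_of_om h ha hyO hya)

/-- `z` does not centralise `X_a` -/
theorem not_ceX (hz : z ∈ Z) (ha : a ∈ Z) (hc : CP K z a) : ¬ CeX Z K a z := by
  intro h1
  obtain ⟨y, hy, hyz, hn⟩ := exists_ne h ao hz ha hc
  exact hn (h.csymm hy.1 hz hyz (h1 y hy)).symm.2

/-- **(A)** -/
theorem not_acts (hz : z ∈ Z) (ha : a ∈ Z) (hc : CP K z a) (ht : t ∈ BB Z K a) :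
    ¬ CeX Z K z (t * a) := by
  intro hta
  have hae : t * a = a * t := (h.comm_of_cp ha ht.1 ht.2).symm
  -- `e' = a t`
  have hE : ∀ x ∈ BB Z K z, x * (a * t) ∈ Z := fun x hx => by
    refine m.e_mul a ha t ht.1 ht.2 x ⟨hx.1, ?_⟩
    rw [← hae]
    exact hta x hx
  have key : ∀ x ∈ BB Z K z, x * a = a * x → x * a ∈ Z → CeX Z K a (x * z) := by
    intro x hx hxa hxaZ
    rcases m.b1 a ha z hz hc.symm x hx hxa with h1 | h1
    · exfalso
      -- `x` centralises `X_a`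
      have h2 : Ce (x * a) (K t) := (h1 t ht).mul (ce_of_cm h ha ht.2.symm.2)
      have h3 : x * (a * t) = (x * a) * t := by group
      by_cases h4 : t = x * a
      · -- `x = t a ∈ E`
        have h5 : a * t = x := by
          rw [h4, hxa, ← mul_assoc, h.sq a ha, one_mul]
        exact m.e_notMem a ha t ht.1 ht.2 (by rw [h5]; exact hx.1)
      · have h5 : CP K t (x * a) := h.csymm ht.1 hxaZ h4 h2
        have h6 := m.e_notMem (x * a) hxaZ t ht.1 h5.symm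
        rw [← h3] at h6
        exact h6 (hE x hx)
    · exact h1
  obtain ⟨x₁, x₂, hx₁, hx₂, hx₃, c1, c2, e1, e2, e3⟩ := m.b3 z hz a ha hc
  have c3 : x₁ * x₂ * a = a * (x₁ * x₂) := by rw [mul_assoc, c2, ← mul_assoc, c1, mul_assoc]
  have k1 := key x₁ hx₁ c1 e1
  have k2 := key x₂ hx₂ c2 e2
  have k3 := key _ hx₃ c3 e3
  refine m.not_ceX h ao hz ha hc fun b hb => ?_
  have z1 : z * x₁ = x₁ * z := h.comm_of_cp hz hx₁.1 hx₁.2
  have z2 : z * x₂ = x₂ * z := h.comm_of_cp hz hx₂.1 hx₂.2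
  have zz' : z * z = 1 := h.sq z hz
  have s1 : (x₁ * x₂) * (x₁ * x₂) = 1 := h.sq _ hx₃.1
  have h7 : Ce ((x₁ * z) * ((x₂ * z) * (x₁ * x₂ * z))) (K b) := (k1 b hb).mul ((k2 b hb).mul (k3 b hb))
  have h8 : (x₁ * z) * ((x₂ * z) * (x₁ * x₂ * z)) = z := by
    calc (x₁ * z) * ((x₂ * z) * (x₁ * x₂ * z)) = x₁ * (z * x₂) * (z * (x₁ * x₂)) * z := by group
      _ = x₁ * (x₂ * z) * (z * (x₁ * x₂)) * z := by rw [z2]
      _ = x₁ * x₂ * (z * z) * (x₁ * x₂) * z := by group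
      _ = (x₁ * x₂) * (x₁ * x₂) * z := by rw [zz', mul_one]
      _ = z := by rw [s1, one_mul]
  rwa [h8] at h7

/-- an element of `B(a)` commuting with `z` centralises `X_z` -/
theorem cent (hz : z ∈ Z) (ha : a ∈ Z) (hc : CP K z a) (ht : t ∈ BB Z K a) (htz : t * z = z * t) :
    CeX Z K z t :=
  (m.b1 z hz a ha hc t ht htz).resolve_right (m.not_acts h ao hz ha hc ht)

theorem sub (hz : z ∈ Z) (ha : a ∈ Z) (hc : CP K z a) (ht : t ∈ BB Z K a) (htz : t * z = z * t) :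
    BB Z K z ⊆ BB Z K t := by
  intro b hb
  have h1 := m.cent h ao hz ha hc ht htz b hb
  have hne : b ≠ t := by
    rintro rfl
    exact m.no3 z hz a ha b ht.1 hc hb.2 ht.2
  exact ⟨hb.1, (h.csymm hb.1 ht.1 hne h1).symm⟩

theorem eq_step (hz : z ∈ Z) (ha : a ∈ Z) (hc : CP K z a) (ht : t ∈ BB Z K a) (htz : t * z = z * t) :
    BB Z K t = BB Z K z := by
  refine Set.Subset.antisymm ?_ (m.sub h ao hz ha hc ht htz)
  exact m.sub h ao ht.1 ha ht.2.symm ⟨hz, hc.symm⟩ htz.symm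

/-- **(end)** -/
theorem eq_of_cp (hz : z ∈ Z) (ha : a ∈ Z) (hc : CP K z a) (hb : b ∈ BB Z K a) : BB Z K b = BB Z K z := by
  have h1 := m.b4 z hz a ha hc b hb
  induction h1 with
  | refl => rfl
  | @tail x y h1 h2 ih =>
    rw [m.eq_step h ao h2.1.1 ha h2.1.2.symm h2.2.1 h2.2.2.symm]
    exact ih h2.1

/-- the non-nil classes of `C(x)` -/
theorem nn (hz : z ∈ Z) (ha : a ∈ Z) (hc : CP K z a) : NN Z K z = {BB Z K z} := by
  have h1 : a ∈ Om Z K z := om_of_cm h hz ha hc.2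
  have h2 : Cl Z K z a = BB Z K z := by
    ext v
    constructor
    · intro hv
      have hvO := cl_sub h1 hv
      have hvz : v ≠ z := by
        rintro rfl
        exact not_mem_of_not_nil h hz h1 (ao.not_nil _ hz a ha hc) hv
      exact ⟨hvO.1, (cp_iff h hz).2 (cm_of_om h hz hvO hvz)⟩
    · intro hv
      exact ao.cls z hz a ha v hv.1 hc hv.2
  ext A
  constructor
  · rintro ⟨u, hu, hn, rfl⟩
    have huz : u ≠ z := by
      rintro rfl
      exact hn (mem_oP_self h hz)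
    have h3 : CP K z u := (cp_iff h hz).2 (cm_of_om h hz hu huz)
    have h4 := ao.cls z hz a ha u hu.1 hc h3
    rw [Set.mem_singleton_iff, ← h2]
    exact cl_eq h1 h4
  · intro hA
    rw [Set.mem_singleton_iff] at hA
    rw [hA, ← h2]
    exact ⟨a, h1, ao.not_nil z hz a ha hc, rfl⟩

/-- **the frame `{B(a), B(z)}`** -/
theorem frame (hz : z ∈ Z) (ha : a ∈ Z) (hc : CP K z a) :
    Frm Z K {BB Z K a, BB Z K z} := by
  have hne : BB Z K a ≠ BB Z K z := by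
    intro e
    have h1 : a ∈ BB Z K a := by
      rw [e]
      exact ⟨ha, hc⟩
    exact h1.2.1 rfl
  -- all points of `B(a)` have partners `B(z)`, and conversely
  have p1 : ∀ b ∈ BB Z K a, BB Z K b = BB Z K z := fun b hb => m.eq_of_cp h ao hz ha hc hb
  have p2 : ∀ b ∈ BB Z K z, BB Z K b = BB Z K a := fun b hb => m.eq_of_cp h ao ha hz hc.symm hb
  have cm1 : ∀ x ∈ BB Z K a, ∀ y ∈ BB Z K z, Cm (K x) (K y) := by
    intro x hx y hy
    rw [← p1 x hx] at hy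
    exact hy.2.2
  refine ⟨⟨_, Or.inl rfl, _, Or.inr rfl, hne⟩, ?_, ?_, ?_, ?_⟩
  · rintro A (rfl | rfl) x hx
    · exact hx.1
    · exact hx.1
  · rintro A (rfl | rfl)
    · exact ⟨z, hz, hc.symm⟩
    · exact ⟨a, ha, hc⟩
  · rintro A (rfl | rfl) B (rfl | rfl) hAB x hx y hy
    · exact absurd rfl hAB
    · exact cm1 x hx y hy
    · exact (cm1 y hy x hx).symm
    · exact absurd rfl hAB
  · rintro A (rfl | rfl) x hx
    · rw [m.nn h ao hx.1 ha hx.2.symm, p1 x hx]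
      ext D
      constructor
      · rintro rfl
        exact ⟨Or.inr rfl, fun e => hne (Set.mem_singleton_iff.1 e).symm⟩
      · rintro ⟨rfl | rfl, h1⟩
        · exact absurd rfl h1
        · rfl
    · rw [m.nn h ao hx.1 hz hx.2.symm, p2 x hx]
      ext D
      constructor
      · rintro rfl
        exact ⟨Or.inl rfl, fun e => hne (Set.mem_singleton_iff.1 e)⟩
      · rintro ⟨rfl | rfl, h1⟩
        · rfl
        · exact absurd rfl h1

/-- every point with a C-partner lies in a frame -/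
theorem exists_frame (hz : z ∈ Z) (ha : a ∈ Z) (hc : CP K z a) :
    ∃ F, Frm Z K F ∧ ∃ A ∈ F, z ∈ A :=
  ⟨_, m.frame h ao hz ha hc, _, Or.inl rfl, hz, hc.symm⟩

/-- every point lies in a frame -/
theorem frames (cls : OneCls Z) (hz : z ∈ Z) (ha : a ∈ Z) (hc : CP K z a) :
    ∀ x ∈ Z, ∃ F, Frm Z K F ∧ ∃ A ∈ F, x ∈ A := by
  intro x hx
  obtain ⟨g, rfl⟩ := cls z hz x hx
  obtain ⟨F, f, A, hA, hzA⟩ := m.exists_frame h ao hz ha hc
  exact ⟨_, f.conj h g, _, ⟨A, hA, rfl⟩, ⟨z, hzA, rfl⟩⟩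

end M2H

end Cfsg.Agent.Cit.Nil.CompR
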