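import Cfsg.Agent.Cit.Nil.RG.Tri
import Cfsg.Agent.Cit.Nil.IndDefs
import Cfsg.Agent.Cit.QuoCen

/-!
# S1309 (6b), (n6): the block world, part 1: `Hyp` and `MOne` for the quotient (helper386)

`G` plays `C(a)`, `Om` is a conjugation invariant set of members of `G` (a union of classes of the non-commuting graph),
not nil, `ONE`: `zz K zz L` centralises all members if `K`, `L` commute.

* `NC Om` : the centraliser of the members; `f : G →* H` surjective with kernel `NC Om`;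
* `BQ.conj_cases` : `f g` commutes with `f (zz K)`: `g` fixes `zz K` or moves it to a C-partner;
* `BQ.cm_of_map` : members whose images commute commute; `BQ.map_inj`;
* `BQ.four_comm` : an element of order 4 of a member commuting with `zz L` modulo `NC` commutes with it;
* `BQ.hyp_img` : **`Hyp (img f Om)`**; `BQ.mone` : commuting images have the same involution;
* `BQ.fibre` : the members over `f (zz K)`.
-/

set_option autoImplicit false
set_option linter.style.haveILetI false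
set_option linter.unusedSectionVars false

namespace Cfsg.Agent.Cit.Nil.CompR

open Subgroup Cfsg Cfsg.Agent.Cit
open RG (WR ZZ Ov RR CP)
open Cfsg.Agent.Cit.QuoCen (equivMap orderOf_map zz_map_of_inf)

variable {G H : Type*} [Group G] [Group H] {Om : Set (Subgroup G)} {K L M : Subgroup G} {f : G →* H}
  {g n x y z t k l : G}

/-- the centraliser of the members -/
def NC (Om : Set (Subgroup G)) : Subgroup G := centralizer {k | ∃ K ∈ Om, k ∈ K}

theorem mem_NC : n ∈ NC Om ↔ ∀ K ∈ Om, ∀ k ∈ K, n * k = k * n := by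
  rw [NC, mem_centralizer_iff]
  constructor
  · intro h K hK k hk
    exact (h k ⟨K, hK, hk⟩).symm
  · rintro h k ⟨K, hK, hk⟩
    exact (h K hK k hk).symm

/-- the block -/
structure BQ (Om : Set (Subgroup G)) : Prop where
  w : WR Om
  hyp : Hyp Om
  nn : ∀ K ∈ Om, zz K ∉ Cfsg.pCore 2 G
  one : ∀ K ∈ Om, ∀ L ∈ Om, IndDefs.Cm K L → ∀ M ∈ Om, ∀ x ∈ M, zz K * zz L * x = x * (zz K * zz L)

theorem NC_conj (w : WR Om) (hn : n ∈ NC Om) (g : G) : g * n * g⁻¹ ∈ NC Om := by
  rw [mem_NC] at hn ⊢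
  intro K hK k hk
  have h1 : g⁻¹ * k * g ∈ cj g⁻¹ K := by
    have := conj_mem_cj (g := g⁻¹) hk
    rwa [inv_inv] at this
  have h2 := hn _ (w.conj K hK g⁻¹) _ h1
  calc g * n * g⁻¹ * k = g * (n * (g⁻¹ * k * g)) * g⁻¹ := by group
    _ = g * (g⁻¹ * k * g * n) * g⁻¹ := by rw [h2]
    _ = _ := by group

namespace BQ

variable (b : BQ Om)

include b

/-- `zz K` is not in `NC` -/
theorem zz_not (hK : K ∈ Om) : zz K ∉ NC Om := by
  intro h0
  apply b.nn K hK
  -- the elements `x ∈ ⟨members⟩ ∩ NC` with `x² = 1` form a normal 2-subgroup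
  obtain ⟨X, hX⟩ : ∃ X : Subgroup G, X = closure {k | ∃ K ∈ Om, k ∈ K} := ⟨_, rfl⟩
  have hXN : ∀ n ∈ NC Om, ∀ x ∈ X, n * x = x * n := by
    intro n hn x hx
    rw [hX] at hx
    have h1 : X ≤ centralizer {n} := by
      rw [hX, closure_le]
      rintro k ⟨K, hK, hk⟩
      exact mem_centralizer_singleton_iff.2 (mem_NC.1 hn K hK k hk).symm
    rw [hX] at h1
    exact (mem_centralizer_singleton_iff.1 (h1 hx)).symm
  have hXc : ∀ g : G, ∀ x ∈ X, g * x * g⁻¹ ∈ X := by
    intro g x hx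
    rw [hX] at hx ⊢
    induction hx using closure_induction with
    | mem x hx =>
      obtain ⟨K, hK, hk⟩ := hx
      exact subset_closure ⟨_, b.w.conj K hK g, conj_mem_cj hk⟩
    | one => rw [mul_one, mul_inv_cancel]; exact one_mem _
    | mul x y _ _ hx hy =>
      have e : g * (x * y) * g⁻¹ = (g * x * g⁻¹) * (g * y * g⁻¹) := by group
      rw [e]; exact mul_mem hx hy
    | inv x _ hx =>
      have e : g * x⁻¹ * g⁻¹ = (g * x * g⁻¹)⁻¹ := by group
      rw [e]; exact inv_mem hx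
  let T : Subgroup G :=
    { carrier := {x | x ∈ X ∧ x ∈ NC Om ∧ x * x = 1}
      one_mem' := ⟨one_mem _, one_mem _, one_mul 1⟩
      mul_mem' := by
        rintro x y ⟨hx, hx', hxx⟩ ⟨hy, hy', hyy⟩
        refine ⟨mul_mem hx hy, mul_mem hx' hy', ?_⟩
        have e := hXN x hx' y hy
        calc x * y * (x * y) = x * (y * x) * y := by group
          _ = x * (x * y) * y := by rw [e]
          _ = (x * x) * (y * y) := by group
          _ = 1 := by rw [hxx, hyy, one_mul]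
      inv_mem' := by
        rintro x ⟨hx, hx', hxx⟩
        refine ⟨inv_mem hx, inv_mem hx', ?_⟩
        rw [← mul_inv_rev, hxx, inv_one] }
  have hTn : T.Normal := by
    refine ⟨fun x hx g => ⟨hXc g x hx.1, NC_conj b.w hx.2.1 g, ?_⟩⟩
    calc g * x * g⁻¹ * (g * x * g⁻¹) = g * (x * x) * g⁻¹ := by group
      _ = 1 := by rw [hx.2.2, mul_one, mul_inv_cancel]
  have hT2 : IsPGroup 2 T := by
    rintro ⟨x, hx⟩
    refine ⟨1, Subtype.ext ?_⟩
    show x ^ 2 ^ 1 = 1
    rw [pow_one, pow_two]; exact hx.2.2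
  have h1 : T ≤ Cfsg.pCore 2 G := Lib.Cores.le_pCore hTn hT2
  refine h1 ⟨?_, h0, b.w.zs hK⟩
  rw [hX]
  exact subset_closure ⟨K, hK, b.w.zm hK⟩

/-- `K ∩ NC = 1` -/
theorem inf_NC (hK : K ∈ Om) (hx : x ∈ K) (hn : x ∈ NC Om) : x = 1 := by
  rcases b.w.central hK hx (fun k hk => mem_NC.1 hn K hK k hk) with h1 | h1
  · exact h1
  · rw [h1] at hn
    exact absurd hn (b.zz_not hK)

theorem not_abel (hK : K ∈ Om) : ¬ ∀ k ∈ K, ∀ l ∈ K, k * l = l * k := by
  intro hc
  obtain ⟨y, hy, hyy⟩ := b.w.exists_four hK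
  obtain ⟨v, hv, hvv, h2, h3⟩ := b.w.exists_anti hK hy hyy
  obtain ⟨h4, -⟩ := b.w.anti hK hy hv hyy hvv h2 h3
  rw [hc v hv y hy] at h4
  exact b.w.zn hK (right_eq_mul.1 h4)

variable [Finite G]

/-- `f g` commutes with `f (zz K)` -/
theorem conj_cases (hK : K ∈ Om) (hg : g * zz K * g⁻¹ * (zz K)⁻¹ ∈ NC Om) :
    g * zz K * g⁻¹ = zz K ∨ CP Om (zz K) (g * zz K * g⁻¹) := by
  by_cases hne : g * zz K * g⁻¹ = zz K
  · exact Or.inl hne
  right
  refine b.w.CP_of_cen (z := zz K) ⟨hK, rfl⟩ (fun k hk => ?_) (Ne.symm hne)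
  have h1 := mem_NC.1 hg K hK k hk
  have e : g * zz K * g⁻¹ = g * zz K * g⁻¹ * (zz K)⁻¹ * zz K := by group
  rw [e, mul_assoc, ← b.w.cen hK hk, ← mul_assoc, h1, mul_assoc]

/-- `f (zz K) = f (zz L)` -/
theorem eq_cases (hK : K ∈ Om) (_hL : L ∈ Om) (hg : zz L * (zz K)⁻¹ ∈ NC Om) : zz K = zz L ∨ CP Om (zz K) (zz L) := by
  by_cases hne : zz K = zz L
  · exact Or.inl hne
  right
  refine b.w.CP_of_cen (z := zz K) ⟨hK, rfl⟩ (fun k hk => ?_) hne
  have h1 := mem_NC.1 hg K hK k hk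
  have e : zz L = zz L * (zz K)⁻¹ * zz K := by group
  rw [e, mul_assoc, ← b.w.cen hK hk, ← mul_assoc, h1, mul_assoc]

/-- two members over the same involution or over a C-pair -/
theorem comm_of (hK : K ∈ Om) (hL : L ∈ Om) (h : zz K = zz L ∨ CP Om (zz K) (zz L)) (hne : K ≠ L) :
    IndDefs.Cm K L := by
  rcases h with h | h
  · exact b.w.comm K hK L hL h hne
  · exact h.2 K ⟨hK, rfl⟩ L ⟨hL, rfl⟩

theorem mul_mem_NC (hK : K ∈ Om) (hL : L ∈ Om) (h : IndDefs.Cm K L) : zz K * zz L ∈ NC Om :=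
  mem_NC.2 fun M hM x hx => b.one K hK L hL h M hM x hx

/-- members whose images commute -/
theorem cm_of_map (hf : f.ker = NC Om) (hK : K ∈ Om) (hL : L ∈ Om) (hc : IndDefs.Cm (K.map f) (L.map f)) :
    IndDefs.Cm K L := by
  have h0 : ∀ k ∈ K, ∀ l ∈ L, k * l * k⁻¹ * l⁻¹ ∈ NC Om := by
    intro k hk l hl
    rw [← hf, MonoidHom.mem_ker, map_mul, map_mul, map_mul, hc (f k) ⟨k, hk, rfl⟩ (f l) ⟨l, hl, rfl⟩, map_inv, map_inv]
    group
  have h0' : ∀ k ∈ K, ∀ l ∈ L, l * k * l⁻¹ * k⁻¹ ∈ NC Om := by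
    intro k hk l hl
    have h1 := inv_mem (h0 k hk l hl)
    have e : (k * l * k⁻¹ * l⁻¹)⁻¹ = l * k * l⁻¹ * k⁻¹ := by group
    rwa [e] at h1
  -- one side
  have side : ∀ {K L : Subgroup G}, K ∈ Om → L ∈ Om → (∀ k ∈ K, ∀ l ∈ L, l * k * l⁻¹ * k⁻¹ ∈ NC Om) →
      ∀ l ∈ L, l * zz K * l⁻¹ = zz K := by
    intro K L hK hL h0 l hl
    rcases b.conj_cases hK (h0 _ (b.w.zm hK) l hl) with h1 | h1
    · exact h1
    · exfalso
      apply b.not_abel hK
      intro a ha k hk
      have h2 := h1.2 K ⟨hK, rfl⟩ (cj l K) ⟨b.w.conj K hK l, b.w.zcj hK l⟩ a ha (l * k * l⁻¹) (conj_mem_cj hk)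
      have h3 := mem_NC.1 (h0 k hk l hl) K hK a ha
      have e : l * k * l⁻¹ = l * k * l⁻¹ * k⁻¹ * k := by group
      obtain ⟨m, hm⟩ : ∃ m, m = l * k * l⁻¹ * k⁻¹ := ⟨_, rfl⟩
      rw [e, ← hm] at h2
      rw [← hm] at h3
      have h4 : m * (a * k) = m * (k * a) := by
        calc m * (a * k) = m * a * k := by group
          _ = a * m * k := by rw [h3]
          _ = a * (m * k) := by group
          _ = m * k * a := h2
          _ = m * (k * a) := by group
      exact mul_left_cancel h4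
  have h1 := side hK hL h0'
  -- `L` normalises `K`
  have h2 : ∀ l ∈ L, cj l K = K := by
    intro l hl
    by_cases e1 : l = 1
    · rw [e1, cj_one]
    by_cases e2 : l = zz L
    · obtain ⟨y, hy, hyy⟩ := b.w.exists_four hL
      have h3 := b.w.h3 L hL K hK y hy hyy (by
        have := h1 y hy
        rwa [mul_inv_eq_iff_eq_mul] at this)
      rw [e2, ← hyy, cj_mul, h3, h3]
    · exact b.w.h3 L hL K hK l hl (b.w.sq_eq hL hl e1 e2) (by
        have := h1 l hl
        rwa [mul_inv_eq_iff_eq_mul] at this)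
  intro k hk l hl
  have h3 : k * l * k⁻¹ * l⁻¹ ∈ K := by
    have h4 : l * k⁻¹ * l⁻¹ ∈ K := by rw [← h2 l hl]; exact conj_mem_cj (inv_mem hk)
    have e : k * l * k⁻¹ * l⁻¹ = k * (l * k⁻¹ * l⁻¹) := by group
    rw [e]; exact mul_mem hk h4
  have h4 := b.inf_NC hK h3 (h0 k hk l hl)
  rwa [mul_inv_eq_one, mul_inv_eq_iff_eq_mul] at h4

theorem not_cm_self (hK : K ∈ Om) : ¬ IndDefs.Cm K K := fun h => b.not_abel hK h

theorem ker_inf (hf : f.ker = NC Om) (hK : K ∈ Om) : K ⊓ f.ker = ⊥ := by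
  rw [eq_bot_iff, hf]
  rintro x ⟨h1, h2⟩
  rw [mem_bot]
  exact b.inf_NC hK h1 h2

theorem zz_map (hf : f.ker = NC Om) (hK : K ∈ Om) : zz (K.map f) = f (zz K) :=
  zz_map_of_inf b.hyp hK (b.ker_inf hf hK)

theorem f_eq (hf : f.ker = NC Om) (hK : K ∈ Om) (hL : L ∈ Om) :
    f (zz K) = f (zz L) ↔ zz K = zz L ∨ CP Om (zz K) (zz L) := by
  constructor
  · intro h
    apply b.eq_cases hK hL
    rw [← hf, MonoidHom.mem_ker, map_mul, map_inv, h, mul_inv_cancel]
  · rintro (h | h)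
    · rw [h]
    · have h1 : zz K * zz L ∈ f.ker := by
        rw [hf]
        exact b.mul_mem_NC hK hL (h.2 K ⟨hK, rfl⟩ L ⟨hL, rfl⟩)
      rw [MonoidHom.mem_ker, map_mul] at h1
      have h2 : f (zz L) * f (zz L) = 1 := by rw [← map_mul, b.w.zs hL, map_one]
      exact mul_right_cancel (h1.trans h2.symm)

/-- the members are determined by their images -/
theorem map_inj (hf : f.ker = NC Om) (hK : K ∈ Om) (hL : L ∈ Om) (h : K.map f = L.map f) : K = L := by
  by_contra hne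
  have h1 : f (zz K) = f (zz L) := by rw [← b.zz_map hf hK, ← b.zz_map hf hL, h]
  have h2 := b.comm_of hK hL ((b.f_eq hf hK hL).1 h1) hne
  apply b.not_cm_self hK
  apply b.cm_of_map hf hK hK
  intro x hx y hy
  rw [h] at hy
  obtain ⟨k, hk, rfl⟩ := hx
  obtain ⟨l, hl, rfl⟩ := hy
  rw [← map_mul, ← map_mul, h2 k hk l hl]

/-- an element of order 4 of a member which commutes with `zz L` modulo `NC` commutes with it -/
theorem four_comm (hK : K ∈ Om) (hL : L ∈ Om) (hy : y ∈ K) (hyy : y * y = zz K)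
    (h0 : y * zz L * y⁻¹ * (zz L)⁻¹ ∈ NC Om) : y * zz L = zz L * y := by
  rcases b.conj_cases hL h0 with h1 | h1
  · rwa [mul_inv_eq_iff_eq_mul] at h1
  exfalso
  obtain ⟨u, hu⟩ : ∃ u, u = zz L := ⟨_, rfl⟩
  rw [← hu] at h0 h1
  have hu2 : u * u = 1 := by rw [hu]; exact b.w.zs hL
  have hui : u⁻¹ = u := inv_eq_of_mul_eq_one_right hu2
  obtain ⟨m, hm⟩ : ∃ m, m = y * u * y⁻¹ * u⁻¹ := ⟨_, rfl⟩
  rw [← hm] at h0
  have hmy : m * y = y * m := mem_NC.1 h0 K hK y hy
  have hmu : m * u = u * m := by rw [hu]; exact mem_NC.1 h0 L hL _ (b.w.zm hL)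
  have e1 : y * u * y⁻¹ = m * u := by rw [hm]; group
  have hm2 : m * m = 1 := by
    have h2 : y * u * y⁻¹ * (y * u * y⁻¹) = 1 := by
      rw [show y * u * y⁻¹ * (y * u * y⁻¹) = y * (u * u) * y⁻¹ by group, hu2]; group
    rw [e1] at h2
    calc m * m = m * m * (u * u) := by rw [hu2, mul_one]
      _ = m * (m * u) * u := by group
      _ = m * (u * m) * u := by rw [hmu]
      _ = m * u * (m * u) := by group
      _ = 1 := h2
  have hmi : m⁻¹ = m := inv_eq_of_mul_eq_one_right hm2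
  -- `u` commutes with `z = y²`
  have e2 : zz K * u * (zz K)⁻¹ = u := by
    rw [← hyy]
    calc y * y * u * (y * y)⁻¹ = y * (y * u * y⁻¹) * y⁻¹ := by group
      _ = y * (m * u) * y⁻¹ := by rw [e1]
      _ = (y * m) * u * y⁻¹ := by group
      _ = (m * y) * u * y⁻¹ := by rw [hmy]
      _ = m * (y * u * y⁻¹) := by group
      _ = m * (m * u) := by rw [e1]
      _ = (m * m) * u := by group
      _ = u := by rw [hm2, one_mul]
  have e3 : u * zz K * u⁻¹ = zz K := by
    rw [mul_inv_eq_iff_eq_mul] at e2 ⊢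
    exact e2.symm
  -- `u y u⁻¹ = m y`
  have e4 : u * y * u⁻¹ = m * y := by
    have h2 : y * u = m * u * y := by rw [← e1]; group
    have h3 : u * y = m * (y * u) := by
      rw [h2]
      calc u * y = (m * m) * (u * y) := by rw [hm2, one_mul]
        _ = m * (m * u * y) := by group
    rw [h3, mul_assoc, mul_assoc, mul_inv_cancel, mul_one]
  have h5 : m * y ∈ cj u K := by rw [← e4]; exact conj_mem_cj hy
  have h6 : zz (cj u K) = zz K := by rw [b.w.zcj hK, e3]
  by_cases h7 : cj u K = K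
  · rw [h7] at h5
    have h8 : m ∈ K := by
      have := mul_mem h5 (inv_mem hy)
      rwa [mul_inv_cancel_right] at this
    have h9 := b.inf_NC hK h8 h0
    rw [h9, one_mul] at e1
    exact h1.1 e1.symm
  · have h8 := b.w.comm _ (b.w.conj K hK u) _ hK h6 h7 _ h5
    obtain ⟨v, hv, hvv, h9, h10⟩ := b.w.exists_anti hK hy hyy
    obtain ⟨h11, -⟩ := b.w.anti hK hy hv hyy hvv h9 h10
    have h12 : m * (y * v) = m * (v * y) := by
      calc m * (y * v) = m * y * v := by group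
        _ = v * (m * y) := h8 v hv
        _ = (v * m) * y := by group
        _ = (m * v) * y := by rw [mem_NC.1 h0 K hK v hv]
        _ = m * (v * y) := by group
    have h13 := mul_left_cancel h12
    rw [h11] at h13
    exact b.w.zn hK (right_eq_mul.1 h13)

/-- **the images are a family with `Hyp`** -/
theorem hyp_img (hs : Function.Surjective f) (hf : f.ker = NC Om) : Hyp (img f Om) := by
  haveI : Fact (Nat.Prime 2) := ⟨Nat.prime_two⟩
  haveI : Finite H := Finite.of_surjective f hs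
  refine ⟨?_, ?_, ?_, ?_, ?_, ?_⟩
  · rintro _ ⟨K, hK, rfl⟩ g'
    obtain ⟨g, rfl⟩ := hs g'
    exact ⟨cj g K, b.w.conj K hK g, cj_map f g K⟩
  · rintro _ ⟨K, hK, rfl⟩
    exact HasQS.of_equiv (equivMap (b.ker_inf hf hK)) (b.hyp.quat K hK)
  · rintro _ ⟨K, hK, rfl⟩ t ⟨k, hk, rfl⟩ ht2
    rw [b.zz_map hf hK]
    rw [orderOf_map (b.ker_inf hf hK) hk] at ht2
    rw [b.hyp.uniq K hK k hk ht2]
  · rintro _ ⟨K, hK, rfl⟩
    rw [b.zz_map hf hK]
    obtain ⟨z, hz⟩ : ∃ z, z = zz K := ⟨_, rfl⟩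
    rw [← hz]
    obtain ⟨N, hN⟩ : ∃ N : Subgroup G, N = (centralizer {f z}).comap f := ⟨_, rfl⟩
    have hmN : ∀ {g : G}, g ∈ N ↔ f g * f z = f z * f g := by
      intro g
      rw [hN, mem_comap, mem_centralizer_singleton_iff]
    obtain ⟨R, hR⟩ : ∃ R : Subgroup G, R = sSup {L | L ∈ Om ∧ f (zz L) = f z} := ⟨_, rfl⟩
    have hLR : ∀ L ∈ Om, f (zz L) = f z → L ≤ R := by
      intro L hL h1
      rw [hR]
      exact le_sSup ⟨hL, h1⟩
    have hRN : R ≤ N := by
      rw [hR]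
      refine sSup_le ?_
      rintro L ⟨hL, h1⟩ l hl
      rw [hmN, ← h1, ← map_mul, ← map_mul, b.w.cen hL hl]
    have hKR : K ≤ R := hLR K hK (by rw [hz])
    have hRn : (R.subgroupOf N).Normal := by
      rw [normal_subgroupOf_iff_le_normalizer hRN]
      intro g hg
      rw [hmN] at hg
      have key : ∀ g : G, f g * f z = f z * f g → cj g R ≤ R := by
        intro g hg
        rw [hR, cj_def, Subgroup.map_le_iff_le_comap]
        refine sSup_le ?_
        rintro L ⟨hL, h1⟩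
        rw [← Subgroup.map_le_iff_le_comap, ← cj_def]
        refine le_sSup ⟨b.w.conj L hL g, ?_⟩
        rw [b.w.zcj hL, map_mul, map_mul, map_inv, h1, hg, mul_inv_cancel_right]
      rw [mem_normalizer_iff_cj]
      refine le_antisymm (key g hg) ?_
      have h1 := cj_mono g (key g⁻¹ (by rw [map_inv, inv_mul_eq_iff_eq_mul, ← mul_assoc, hg, mul_inv_cancel_right]))
      rwa [cj_cj_inv] at h1
    have hKn : (K.subgroupOf R).Normal := by
      rw [normal_subgroupOf_iff_le_normalizer hKR]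
      rw [hR]
      refine sSup_le ?_
      rintro L ⟨hL, h1⟩
      by_cases hne : K = L
      · rw [hne]; exact le_normalizer
      · have h2 := b.comm_of hK hL ((b.f_eq hf hK hL).1 (by rw [h1, hz])) hne
        intro l hl
        rw [mem_normalizer_iff]
        intro x
        have h3 : ∀ x ∈ K, l * x * l⁻¹ = x := fun x hx => by rw [← h2 x hx l hl, mul_inv_cancel_right]
        constructor
        · intro hx
          rw [h3 x hx]; exact hx
        · intro hx
          have h4 : l⁻¹ * (l * x * l⁻¹) * l = l * x * l⁻¹ := by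
            have h5 := h2 _ hx l⁻¹ (inv_mem hl)
            rw [← h5, inv_mul_cancel_right]
          have e : x = l⁻¹ * (l * x * l⁻¹) * l := by group
          rw [e, h4]; exact hx
    have h1 : (K.subgroupOf N).IsSubnormal := by
      refine IsSubnormal.trans (H := K.subgroupOf N) (K := R.subgroupOf N)
        (fun x hx => hKR hx) ?_ hRn.isSubnormal
      let e : (R.subgroupOf N) →* R :=
        { toFun := fun x => ⟨((x : N) : G), x.2⟩
          map_one' := rfl
          map_mul' := fun _ _ => rfl }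
      convert hKn.isSubnormal.comap e using 1
      ext x
      rfl
    let φ : N →* centralizer {f z} :=
      { toFun := fun x => ⟨f x, mem_centralizer_singleton_iff.2 (hmN.1 x.2)⟩
        map_one' := by apply Subtype.ext; simp
        map_mul' := fun x y => by apply Subtype.ext; simp }
    have hφ : Function.Surjective φ := by
      rintro ⟨x, hx⟩
      obtain ⟨g, rfl⟩ := hs x
      exact ⟨⟨g, hmN.2 (mem_centralizer_singleton_iff.1 hx)⟩, rfl⟩
    convert h1.map hφ using 1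
    ext x
    simp only [mem_subgroupOf, mem_map]
    constructor
    · rintro ⟨k, hk, hkx⟩
      exact ⟨⟨k, hRN (hKR hk)⟩, hk, Subtype.ext hkx⟩
    · rintro ⟨k, hk, rfl⟩
      exact ⟨k, hk, rfl⟩
  · rintro _ ⟨K, hK, rfl⟩ _ ⟨L, hL, rfl⟩ hKL
    by_cases hne : K = L
    · left; rw [hne]
    right
    rw [b.zz_map hf hK, b.zz_map hf hL] at hKL
    have h1 := b.comm_of hK hL ((b.f_eq hf hK hL).1 hKL) hne
    have h2 : ⁅K.map f, L.map f⁆ = ⊥ := by
      rw [commutator_eq_bot_iff_le_centralizer]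
      rintro _ ⟨k, hk, rfl⟩
      rw [mem_centralizer_iff]
      rintro _ ⟨l, hl, rfl⟩
      rw [← map_mul, ← map_mul, h1 k hk l hl]
    rw [h2]
    exact bot_le
  · rintro _ ⟨K, hK, rfl⟩ _ ⟨L, hL, rfl⟩ _ ⟨y, hy, rfl⟩ hy2 hy4 hyz
    rw [b.zz_map hf hL] at hyz
    rw [orderOf_map (b.ker_inf hf hK) hy] at hy4
    have h1 : y ≠ 1 := by
      rintro rfl
      rw [orderOf_one] at hy4
      omega
    have h2 : y ≠ zz K := by
      rintro rfl
      rw [(b.w.zz_spec hK).2] at hy4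
      omega
    have hyy := b.w.sq_eq hK hy h1 h2
    have h3 := b.four_comm hK hL hy hyy (by
      rw [← hf, MonoidHom.mem_ker, map_mul, map_mul, map_mul, map_inv, map_inv, hyz]
      group)
    have h4 := b.w.h3 K hK L hL y hy hyy h3
    rw [mem_normalizer_iff_cj, ← cj_map, h4]

/-- commuting images have the same involution -/
theorem mone (hf : f.ker = NC Om) (hK : K ∈ Om) (hL : L ∈ Om) (hc : IndDefs.Cm (K.map f) (L.map f)) :
    zz (K.map f) = zz (L.map f) := by
  have h1 := b.cm_of_map hf hK hL hc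
  rw [b.zz_map hf hK, b.zz_map hf hL, b.f_eq hf hK hL]
  by_cases h2 : zz K = zz L
  · exact Or.inl h2
  · exact Or.inr (b.w.CP_of_cen (z := zz K) ⟨hK, rfl⟩ (fun k hk => (h1 k hk _ (b.w.zm hL)).symm) h2)

theorem card_img (hf : f.ker = NC Om) (hK : K ∈ Om) : Nat.card (K.map f) = 8 := by
  rw [← Nat.card_congr (equivMap (b.ker_inf hf hK)).toEquiv, b.w.card hK]

/-- **the members over `f (zz K)`** -/
theorem fibre (hf : f.ker = NC Om) (hK : K ∈ Om) : {M | M ∈ img f Om ∧ zz M = f (zz K)} =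
    (Subgroup.map f) '' {L | L ∈ Om ∧ (zz K = zz L ∨ CP Om (zz K) (zz L))} := by
  ext M
  constructor
  · rintro ⟨⟨L, hL, rfl⟩, h1⟩
    rw [b.zz_map hf hL] at h1
    exact ⟨L, ⟨hL, (b.f_eq hf hK hL).1 h1.symm⟩, rfl⟩
  · rintro ⟨L, ⟨hL, h1⟩, rfl⟩
    refine ⟨⟨L, hL, rfl⟩, ?_⟩
    rw [b.zz_map hf hL]
    exact ((b.f_eq hf hK hL).2 h1).symm

theorem fibre_ncard (hf : f.ker = NC Om) (hK : K ∈ Om) : {M | M ∈ img f Om ∧ zz M = f (zz K)}.ncard =
    {L | L ∈ Om ∧ (zz K = zz L ∨ CP Om (zz K) (zz L))}.ncard := by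
  rw [b.fibre hf hK]
  exact Set.ncard_image_of_injOn fun L hL M hM h => b.map_inj hf hL.1 hM.1 h

end BQ

end Cfsg.Agent.Cit.Nil.CompR
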