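import Cfsg.Agent.Cit.Nil.CompR.TPm
import Cfsg.Agent.Cit.Nil.CompR.MTwoA
import Cfsg.Agent.Cit.Nil.CompR.Quo
import Cfsg.Agent.Cit.Nil.RTwoM.AN.QuoF

/-!
# S1309 (n6), COMP, `AllOne`, the block worlds `C(z)/C(X_z)` (helper386)

World: `WR Ω`, `T0 Ω`, `AllOne (ZZ Ω) (RR Ω)`.

* `OmB Ω z` : the members of `C(z)` over the C-partners of `z`;
* `BlkC Ω z` : the hypotheses; `BlkC.t0B`, `BlkC.conn`, `BlkC.nn`; **`BlkC.qt : QT (OmB Ω z) f`** (helper197's provider);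
* `BlkC.bq : BQ (OmB Ω z)`; **`BlkC.mone`**; `BlkC.ker_iff` : the kernel is `CeX`;
* `move` : `⟨R_x : x ∈ B(v)⟩` is transitive on `B(v)` (no C-pair inside `B(v)`) and centralises `R_v`;
* **`BlkC.cls_eq`** : one class; **`BlkC.c3`**, **`BlkC.c3_img`** : (C3); **`BlkC.fibre_ncard`**.
-/

set_option autoImplicit false
set_option linter.style.haveILetI false
set_option linter.unusedSectionVars false

namespace Cfsg.Agent.Cit.Nil.CompR

open Subgroup Cfsg Cfsg.Agent.Cit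
open Cfsg.Agent.Cit.Nil.ROne (CP)
open Cfsg.Agent.Cit.Nil.AN (Cm Ce Om Cl OneC St cl_sub cl_symm cl_refl cl_eq cl_step cl_trans)
open RG (WR ZZ Ov RR)
open IndDefs (comp T0 NIL mem_comp_self comp_symm comp_trans mem_comp_of)
open RTwoM.Quo (QM QT)
open Cfsg.Agent.OddOrderLocal.NilParts

section move

variable {G : Type*} [Group G] [Finite G] {Z : Set G} {K : G → Subgroup G} {z u v x y g h a b c : G}

/-- a step: `⟨R_x, R_y⟩` moves `x` to `y` -/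
theorem move_step (hw : GW Z K) (no : ∀ x ∈ BB Z K v, ∀ y ∈ BB Z K v, ¬ CP K x y) (hv : v ∈ Z)
    (hx : x ∈ BB Z K v) (hy : y ∈ BB Z K v) : ∃ h : G, Ce h (K v) ∧ h * x * h⁻¹ = y := by
  haveI : Fact (Nat.Prime 2) := ⟨Nat.prime_two⟩
  obtain ⟨D, hD⟩ : ∃ D : Subgroup G, D = K x ⊔ K y := ⟨_, rfl⟩
  have hxD : K x ≤ D := by rw [hD]; exact le_sup_left
  have hyD : K y ≤ D := by rw [hD]; exact le_sup_right
  have hDc : ∀ d ∈ D, Ce d (K v) := by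
    have h1 : D ≤ centralizer (K v : Set G) := by
      rw [hD]
      refine sup_le ?_ ?_
      · intro k hk
        rw [mem_centralizer_iff]
        exact fun l hl => hx.2.2 l hl k hk
      · intro k hk
        rw [mem_centralizer_iff]
        exact fun l hl => hy.2.2 l hl k hk
    intro d hd k hk
    exact (mem_centralizer_iff.1 (h1 hd) k hk).symm
  obtain ⟨P, hP⟩ := (((hw.two hx.1).comap_of_injective D.subtype D.subtype_injective :
    IsPGroup 2 ((K x).subgroupOf D))).exists_le_sylow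
  obtain ⟨Q, hQ⟩ := (((hw.two hy.1).comap_of_injective D.subtype D.subtype_injective :
    IsPGroup 2 ((K y).subgroupOf D))).exists_le_sylow
  obtain ⟨g, hg⟩ := MulAction.exists_smul_eq D P Q
  have hgS : (Q : Subgroup D) = cj g (P : Subgroup D) := by
    rw [← hg]
    rfl
  have h1 : cj (g : G) (K x) ≤ (Q : Subgroup D).map D.subtype := by
    have h2 : cj (g : G) (K x) = (cj g ((K x).subgroupOf D)).map D.subtype := by
      rw [cj_map, map_subgroupOf_eq_of_le hxD]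
      rfl
    rw [h2, hgS]
    exact Subgroup.map_mono (cj_mono g hP)
  have h2 : K y ≤ (Q : Subgroup D).map D.subtype := by
    rw [← map_subgroupOf_eq_of_le hyD]
    exact Subgroup.map_mono hQ
  have h3 : IsPGroup 2 ((Q : Subgroup D).map D.subtype) := Q.isPGroup'.map _
  refine ⟨g, hDc _ g.2, ?_⟩
  by_contra hne
  have hgx : (g : G) * x * (g : G)⁻¹ ∈ Z := hw.conjZ x hx.1 g
  have h4 : CP K ((g : G) * x * (g : G)⁻¹) y := hw.com _ h3 hgx hy.1 (by rw [hw.conjK x hx.1]; exact h1) h2 hne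
  refine no _ ⟨hgx, ?_⟩ y hy h4
  rw [cp_iff hw hv]
  have h5 : (g : G) * v * (g : G)⁻¹ = v := by rw [hDc _ g.2 v (hw.mem v hv), mul_inv_cancel_right]
  have h6 := cm_conj hw hv hx.1 (g : G) hx.2.2
  rwa [h5] at h6

/-- **`⟨R_x : x ∈ B(v)⟩` is transitive on the classes in `B(v)` and centralises `R_v`** -/
theorem move (hw : GW Z K) (no : ∀ x ∈ BB Z K v, ∀ y ∈ BB Z K v, ¬ CP K x y) (hv : v ∈ Z)
    (hx : x ∈ BB Z K v) (hy : y ∈ BB Z K v) : ∃ h : G, Ce h (K v) ∧ h * x * h⁻¹ = y :=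
  move_step hw no hv hx hy

end move

/-! ### The members of `C(z)` over the C-partners of `z` -/

section pow

variable {G : Type*} [Group G] [Finite G] {K : Subgroup G} {c h : G}

/-- a power of `h c` is a 3-element which acts as `c` on `K` -/
theorem c3_pow (hcK : cj c K = K) (hc3 : IsPGroup 3 (zpowers c)) (hh : ∀ k ∈ K, h * k = k * h) :
    ∃ n : ℕ, IsPGroup 3 (zpowers ((h * c) ^ n)) ∧ ∀ k ∈ K, (h * c) ^ n * k * ((h * c) ^ n)⁻¹ = c * k * c⁻¹ := by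
  haveI : Fact (Nat.Prime 3) := ⟨Nat.prime_three⟩
  have hact : ∀ n : ℕ, ∀ k ∈ K, (h * c) ^ n * k * ((h * c) ^ n)⁻¹ = c ^ n * k * (c ^ n)⁻¹ ∧ c ^ n * k * (c ^ n)⁻¹ ∈ K := by
    intro n
    induction n with
    | zero => intro k hk; simpa using hk
    | succ n ih =>
      intro k hk
      obtain ⟨h1, h2⟩ := ih k hk
      have h3 : c * (c ^ n * k * (c ^ n)⁻¹) * c⁻¹ ∈ K := by
        have h4 : c * (c ^ n * k * (c ^ n)⁻¹) * c⁻¹ ∈ cj c K := conj_mem_cj h2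
        rwa [hcK] at h4
      have e1 : c ^ (n + 1) * k * (c ^ (n + 1))⁻¹ = c * (c ^ n * k * (c ^ n)⁻¹) * c⁻¹ := by
        rw [pow_succ']; group
      have e2 : (h * c) ^ (n + 1) * k * ((h * c) ^ (n + 1))⁻¹ =
          h * (c * ((h * c) ^ n * k * ((h * c) ^ n)⁻¹) * c⁻¹) * h⁻¹ := by
        obtain ⟨p, hp⟩ : ∃ p, p = (h * c) ^ n := ⟨_, rfl⟩
        rw [pow_succ' (h * c), ← hp]
        group
      refine ⟨?_, by rw [e1]; exact h3⟩
      rw [e1, e2, h1, hh _ h3, mul_inv_cancel_right]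
  -- the order of `c` is a power of 3
  obtain ⟨a, ha⟩ : ∃ a, orderOf c = 3 ^ a := by
    obtain ⟨a, ha⟩ := (IsPGroup.iff_card.1 hc3)
    exact ⟨a, by rw [← Nat.card_zpowers, ha]⟩
  obtain ⟨m, hm, e⟩ : ∃ m, ¬ 3 ∣ m ∧ orderOf (h * c) = 3 ^ (orderOf (h * c)).factorization 3 * m :=
    ⟨_, Nat.not_dvd_ordCompl Nat.prime_three (orderOf_pos _).ne', (Nat.ordProj_mul_ordCompl_eq_self _ 3).symm⟩
  have hcop : Nat.Coprime m (3 ^ a) := Nat.Coprime.pow_right _ ((Nat.Prime.coprime_iff_not_dvd Nat.prime_three).2 hm).symm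
  refine ⟨m ^ (3 ^ a).totient, ?_, ?_⟩
  · obtain ⟨b, hb⟩ : ∃ b, b = (orderOf (h * c)).factorization 3 := ⟨_, rfl⟩
    rw [← hb] at e
    have h1 : ((h * c) ^ (m ^ (3 ^ a).totient)) ^ (3 ^ b) = 1 := by
      rw [← pow_mul]
      apply orderOf_dvd_iff_pow_eq_one.1
      rw [e, mul_comm]
      exact Nat.mul_dvd_mul_right (dvd_pow_self m (Nat.totient_pos.2 (by positivity)).ne') _
    obtain ⟨j, -, hj⟩ := (Nat.dvd_prime_pow Nat.prime_three).1 (orderOf_dvd_of_pow_eq_one h1)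
    exact IsPGroup.of_card (n := j) (by rw [Nat.card_zpowers, hj])
  · intro k hk
    rw [(hact _ k hk).1]
    have h1 : m ^ (3 ^ a).totient ≡ 1 [MOD orderOf c] := by rw [ha]; exact Nat.ModEq.pow_totient hcop
    have h2 : c ^ (m ^ (3 ^ a).totient) = c ^ 1 := pow_eq_pow_iff_modEq.2 h1
    rw [h2, pow_one]

/-- restriction to a subgroup -/
theorem c3_norm {C : Subgroup G} {A : Subgroup C} {p : C} {c : G} (hc : cj c (A.map C.subtype) = A.map C.subtype)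
    (h : ∀ k ∈ A.map C.subtype, (p : G) * k * (p : G)⁻¹ = c * k * c⁻¹) : p ∈ normalizer (A : Set C) := by
  rw [mem_normalizer_iff_cj]
  apply map_injective C.subtype_injective
  rw [cj_map]
  refine eq_of_le_of_card_ge ?_ (by rw [card_cj])
  intro x hx
  rw [mem_cj] at hx
  have h1 : (p : G) * ((p : G)⁻¹ * x * p) * (p : G)⁻¹ = c * ((p : G)⁻¹ * x * p) * c⁻¹ := h _ hx
  have h2 : x = (p : G) * ((p : G)⁻¹ * x * p) * (p : G)⁻¹ := by group
  have h3 : c * ((p : G)⁻¹ * x * p) * c⁻¹ ∈ cj c (A.map C.subtype) := conj_mem_cj hx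
  rw [hc, ← h1] at h3
  rw [h2]
  exact h3

/-- (C3) passes to the image -/
theorem c3_map {M H : Type*} [Group M] [Group H] [Finite M] {A : Subgroup M} {f : M →* H} (hA : A ⊓ f.ker = ⊥)
    (h8 : Nat.card A = 8) (h : Nil.C3 A) : Nil.C3 (A.map f) := by
  obtain ⟨Q, hQ, hQ8, c, hcK, -, hc3, q, hq, hcq⟩ := h
  have hQA : Q = A := eq_of_le_of_card_ge hQ.1 (by rw [hQ8, h8])
  subst hQA
  have h9 : Nat.card (Q.map f) = 8 := by
    rw [← Nat.card_congr (QuoCen.equivMap hA).toEquiv, h8]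
  have h10 : f c ∈ normalizer (Q.map f : Set H) := by
    rw [mem_normalizer_iff_cj, ← cj_map, mem_normalizer_iff_cj.1 hcK]
  refine ⟨Q.map f, ⟨le_rfl, IsPGroup.of_card (n := 3) (by rw [h9]; norm_num), by rw [relIndex_self]; norm_num⟩, h9,
    f c, h10, h10, ?_, f q, ⟨q, hq, rfl⟩, ?_⟩
  · rw [← MonoidHom.map_zpowers]
    exact hc3.map f
  · intro h11
    apply hcq
    have h12 : c * q * c⁻¹ * q⁻¹ ∈ Q ⊓ f.ker := by
      rw [mem_inf]
      refine ⟨mul_mem ?_ (inv_mem hq), ?_⟩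
      · have h13 : c * q * c⁻¹ ∈ cj c Q := conj_mem_cj hq
        rwa [mem_normalizer_iff_cj.1 hcK] at h13
      · rw [MonoidHom.mem_ker, map_mul, map_mul, map_mul, h11, map_inv, map_inv]
        group
    rw [hA, mem_bot, mul_inv_eq_one, mul_inv_eq_iff_eq_mul] at h12
    exact h12

end pow

section defs

variable {G : Type*} [Group G]

/-- the members of `C(z)` over the C-partners of `z` -/
def OmB (Ω : Set (Subgroup G)) (z : G) : Set (Subgroup ↥(centralizer ({z} : Set G))) :=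
  {A | A.map (centralizer {z}).subtype ∈ Ω ∧ RG.CP Ω z (zz (A.map (centralizer {z}).subtype))}

variable {Ω : Set (Subgroup G)} {K L M : Subgroup G} {z u v w x y g s a b c : G}
  {A B : Subgroup ↥(centralizer ({z} : Set G))}

theorem OmB_sub : OmB Ω z ⊆ restr Ω (centralizer {z}) := fun _ h => h.1

theorem le_of_cp (w : WR Ω) (hz : z ∈ ZZ Ω) (hL : L ∈ Ω) (hc : RG.CP Ω z (zz L)) : L ≤ centralizer {z} := by
  obtain ⟨K, hK⟩ := hz
  intro l hl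
  rw [mem_centralizer_singleton_iff]
  exact (hc.2 K hK L ⟨hL, rfl⟩ z (w.Ov_mem hK) l hl).symm

theorem mem_OmB (w : WR Ω) (hz : z ∈ ZZ Ω) (hL : L ∈ Ω) (hc : RG.CP Ω z (zz L)) :
    L.subgroupOf (centralizer {z}) ∈ OmB Ω z := by
  have h1 := map_subgroupOf_eq_of_le (le_of_cp w hz hL hc)
  exact ⟨by rw [h1]; exact hL, by rw [h1]; exact hc⟩

theorem OmB_eq (A : Subgroup ↥(centralizer ({z} : Set G))) :
    A = (A.map (centralizer {z}).subtype).subgroupOf (centralizer {z}) := by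
  rw [subgroupOf, comap_map_eq_self_of_injective (centralizer {z}).subtype_injective]

variable [Finite G]

/-- the involution of a member of `C(z)` -/
theorem zzB (hyp : Hyp Ω) (hA : A ∈ OmB Ω z) :
    ((zz A : ↥(centralizer ({z} : Set G))) : G) = zz (A.map (centralizer {z}).subtype) :=
  (zz_map hyp (OmB_sub hA))

end defs

/-- the hypotheses on the block -/
structure BlkC {G : Type*} [Group G] [Finite G] (Ω : Set (Subgroup G)) (z : G) : Prop where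
  t0 : T0 Ω
  ao : AllOne (ZZ Ω) (RR Ω)
  core : Cfsg.pPrimeCore 2 ↥(centralizer ({z} : Set G)) = ⊥
  hz : z ∈ ZZ Ω
  ex : ∃ a ∈ ZZ Ω, RG.CP Ω z a

namespace BlkC

variable {G : Type*} [Group G] [Finite G] {Ω : Set (Subgroup G)} {K L M : Subgroup G} {z u v x y g s a b c : G}
  {A B : Subgroup ↥(centralizer ({z} : Set G))}

variable (β : BlkC Ω z)

include β

theorem wr0 : WR Ω := WR.of_hyp β.t0.hyp β.t0.card

theorem gw : GW (ZZ Ω) (RR Ω) := GW.of_wr β.wr0 β.t0.hyp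

theorem conj (hA : A ∈ OmB Ω z) (g : ↥(centralizer ({z} : Set G))) : cj g A ∈ OmB Ω z := by
  obtain ⟨h1, h2⟩ := hA
  have h3 : (cj g A).map (centralizer {z}).subtype = cj (g : G) (A.map (centralizer {z}).subtype) := cj_map _ g A
  refine ⟨by rw [h3]; exact β.wr0.conj _ h1 _, ?_⟩
  rw [h3, β.wr0.zcj h1]
  have h4 := β.wr0.CP_cj h2 (g : G)
  rwa [mem_centralizer_singleton_iff.1 g.2, mul_inv_cancel_right] at h4

theorem t0B : T0 (OmB Ω z) where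
  hyp := QuoCen.hyp_subset (β.t0.hyp.restr _) OmB_sub fun _ hA g => β.conj hA g
  card A hA := by
    rw [Nat.card_congr (A.equivMapOfInjective _ (centralizer {z}).subtype_injective).toEquiv]
    exact β.t0.card _ hA.1
  core := β.core

theorem cpz : CP (RR Ω) z u ↔ RG.CP Ω z u := cp_iff_wr β.wr0

/-- the points of `B(z)` -/
theorem mem_BB : u ∈ BB (ZZ Ω) (RR Ω) z ↔ u ∈ ZZ Ω ∧ RG.CP Ω z u := by
  constructor
  · exact fun h => ⟨h.1, (cp_iff_wr β.wr0).1 h.2⟩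
  · exact fun h => ⟨h.1, (cp_iff_wr β.wr0).2 h.2⟩

/-- the members of a class -/
theorem path_aux (hu : u ∈ BB (ZZ Ω) (RR Ω) z) (hK : K ∈ Ov Ω u) (hv : v ∈ Cl (ZZ Ω) (RR Ω) z u) :
    v ∈ BB (ZZ Ω) (RR Ω) z ∧ (v = u ∨ ∀ L ∈ Ov Ω v, L.subgroupOf (centralizer {z}) ∈
      comp (OmB Ω z) (K.subgroupOf (centralizer {z}))) := by
  have hg := β.gw
  have huO : u ∈ Om (ZZ Ω) (RR Ω) z := om_of_cm hg β.hz hu.1 hu.2.2
  have hBB : ∀ v ∈ Cl (ZZ Ω) (RR Ω) z u, v ∈ BB (ZZ Ω) (RR Ω) z := by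
    intro v hv
    have hvO := cl_sub huO hv
    have hvz : v ≠ z := by
      rintro rfl
      exact not_mem_of_not_nil hg β.hz huO (β.ao.not_nil _ β.hz u hu.1 hu.2) hv
    exact ⟨hvO.1, (cp_iff hg β.hz).2 (cm_of_om hg β.hz hvO hvz)⟩
  refine ⟨hBB v hv, ?_⟩
  have hv' : Relation.ReflTransGen (St (ZZ Ω) (RR Ω) z) u v := hv
  clear hv
  have hle : ∀ {x : G} {L : Subgroup G}, x ∈ BB (ZZ Ω) (RR Ω) z → L ∈ Ov Ω x →
      L ≤ centralizer {z} ∧ L.subgroupOf (centralizer {z}) ∈ OmB Ω z := by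
    intro x L hx hL
    have h1 : RG.CP Ω z (zz L) := by rw [hL.2]; exact (β.mem_BB.1 hx).2
    exact ⟨le_of_cp β.wr0 β.hz hL.1 h1, mem_OmB β.wr0 β.hz hL.1 h1⟩
  induction hv' with
  | refl => exact Or.inl rfl
  | @tail b c h1 h2 ih =>
    have hbB := hBB b h1
    have hcB := hBB c (Relation.ReflTransGen.tail h1 h2)
    by_cases hcx : c = u
    · exact Or.inl hcx
    right
    intro L hL
    rcases ih with rfl | ih
    · refine mem_comp_of mem_comp_self ⟨(hle hbB hK).2, (hle hcB hL).2, fun h3 => ?_⟩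
      exact not_cm_of β.wr0 (Ne.symm hcx) h2.2 hK hL ((cm_subOf_iff (hle hbB hK).1 (hle hcB hL).1).1 h3)
    · by_cases hbc : b = c
      · subst hbc
        exact ih L hL
      · obtain ⟨M, hM⟩ := hbB.1
        refine mem_comp_of (ih M hM) ⟨(hle hbB hM).2, (hle hcB hL).2, fun h3 => ?_⟩
        exact not_cm_of β.wr0 hbc h2.2 hM hL ((cm_subOf_iff (hle hbB hM).1 (hle hcB hL).1).1 h3)

theorem exists_ov (hA : A ∈ OmB Ω z) : ∃ u ∈ BB (ZZ Ω) (RR Ω) z, ∃ K ∈ Ov Ω u,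
    K ≤ centralizer {z} ∧ K = A.map (centralizer {z}).subtype ∧ A = K.subgroupOf (centralizer {z}) :=
  ⟨_, β.mem_BB.2 ⟨⟨_, hA.1, rfl⟩, hA.2⟩, _, ⟨hA.1, rfl⟩, map_subtype_le A, rfl, OmB_eq A⟩

/-- `B(z)` is one class -/
theorem cls_BB (hu : u ∈ BB (ZZ Ω) (RR Ω) z) (hv : v ∈ BB (ZZ Ω) (RR Ω) z) : v ∈ Cl (ZZ Ω) (RR Ω) z u :=
  β.ao.cls z β.hz u hu.1 v hv.1 hu.2 hv.2

/-- connected -/
theorem conn : ∀ A ∈ OmB Ω z, ∀ B ∈ OmB Ω z, B ∈ comp (OmB Ω z) A := by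
  intro A hA B hB
  obtain ⟨u, hu, K, hK, -, -, rfl⟩ := β.exists_ov hA
  obtain ⟨v, hv, L, hL, -, -, rfl⟩ := β.exists_ov hB
  by_cases huv : v = u
  · subst huv
    have hg := β.gw
    have huO : v ∈ Om (ZZ Ω) (RR Ω) z := om_of_cm hg β.hz hu.1 hu.2.2
    obtain ⟨y, hy, hyv, hn⟩ := exists_not_cm hg huO (β.ao.not_nil z β.hz v hu.1 hu.2)
    obtain ⟨hyB, h1⟩ := β.path_aux hu hK hy
    have h1' := h1.resolve_left hyv
    obtain ⟨M, hM⟩ := hyB.1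
    obtain ⟨-, h2⟩ := β.path_aux hyB hM (cl_symm huO hy)
    exact comp_trans (h1' M hM) (h2.resolve_left hyv.symm L hL)
  · exact (β.path_aux hu hK (β.cls_BB hu hv)).2.resolve_left huv L hL

/-- not nil -/
theorem not_nil (hA : A ∈ OmB Ω z) : ¬ NIL A := by
  intro h1
  obtain ⟨u, hu, K, hK, -, h2, -⟩ := β.exists_ov hA
  apply β.ao.not_nil z β.hz u hu.1 hu.2
  rw [oP_def]
  refine ⟨zz A, h1, ?_⟩
  have h3 := zzB β.t0.hyp hA
  rw [← h2, hK.2] at h3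
  exact h3

theorem exists_OmB : ∃ A, A ∈ OmB Ω z := by
  obtain ⟨a, ha, hc⟩ := β.ex
  obtain ⟨K, hK⟩ := ha
  exact ⟨_, mem_OmB β.wr0 β.hz hK.1 (by rw [hK.2]; exact hc)⟩

theorem nn : ∃ A ∈ OmB Ω z, ¬ NIL A := by
  obtain ⟨A, hA⟩ := β.exists_OmB
  exact ⟨A, hA, β.not_nil hA⟩

variable {H : Type*} [Group H] {f : ↥(centralizer ({z} : Set G)) →* H}

/-- **helper197's provider** -/
theorem qt (hs : Function.Surjective f) (hf : f.ker = NC (OmB Ω z)) : QT (OmB Ω z) f where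
  t0 := β.t0B
  conn := β.conn
  nn := β.nn
  surj := hs
  ker g := by
    rw [← MonoidHom.mem_ker, hf, mem_NC]

/-- the world `WR` of the block -/
theorem wr : WR (OmB Ω z) := WR.of_hyp β.t0B.hyp β.t0B.card

/-- commuting members lie over the same involution or over a C-pair -/
theorem cp_of_cm (hA : A ∈ OmB Ω z) (hB : B ∈ OmB Ω z) (hc : IndDefs.Cm A B) :
    zz (A.map (centralizer {z}).subtype) = zz (B.map (centralizer {z}).subtype) ∨
      RG.CP Ω (zz (A.map (centralizer {z}).subtype)) (zz (B.map (centralizer {z}).subtype)) := by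
  by_cases hne : zz (A.map (centralizer {z}).subtype) = zz (B.map (centralizer {z}).subtype)
  · exact Or.inl hne
  right
  refine β.wr0.CP_of_cen (z := zz (A.map (centralizer {z}).subtype)) ⟨hA.1, rfl⟩ ?_ hne
  rintro _ ⟨a, ha, rfl⟩
  obtain ⟨b, hb, hbz⟩ := β.wr0.zm hB.1
  rw [← hbz]
  exact congrArg Subtype.val (hc a ha b hb).symm

/-- `ONE` for the members -/
theorem oneB : ∀ A ∈ OmB Ω z, ∀ B ∈ OmB Ω z, IndDefs.Cm A B → ∀ M ∈ OmB Ω z, ∀ x ∈ M,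
    zz A * zz B * x = x * (zz A * zz B) := by
  intro A hA B hB hc M hM x hx
  have e1 := zzB β.t0.hyp hA
  have e2 := zzB β.t0.hyp hB
  apply Subtype.ext
  rw [Subgroup.coe_mul, Subgroup.coe_mul, Subgroup.coe_mul, Subgroup.coe_mul, e1, e2]
  rcases β.cp_of_cm hA hB hc with h1 | h1
  · rw [h1, β.wr0.zs hB.1, one_mul, mul_one]
  · have hu : zz (A.map (centralizer {z}).subtype) ∈ BB (ZZ Ω) (RR Ω) z := β.mem_BB.2 ⟨⟨_, hA.1, rfl⟩, hA.2⟩
    have hv : zz (B.map (centralizer {z}).subtype) ∈ BB (ZZ Ω) (RR Ω) z := β.mem_BB.2 ⟨⟨_, hB.1, rfl⟩, hB.2⟩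
    have hm : zz (M.map (centralizer {z}).subtype) ∈ BB (ZZ Ω) (RR Ω) z := β.mem_BB.2 ⟨⟨_, hM.1, rfl⟩, hM.2⟩
    exact β.ao.one z β.hz _ hu.1 hu.2 _ (cl_refl _ _) _ (β.cls_BB hu hv) ((cp_iff_wr β.wr0).2 h1).2 _
      (β.cls_BB hu hm) _ (WR.le_RR ⟨hM.1, rfl⟩ ⟨x, hx, rfl⟩)

/-- the block as a `BQ` -/
theorem bq : BQ (OmB Ω z) where
  w := β.wr
  hyp := β.t0B.hyp
  nn A hA := β.not_nil hA
  one := β.oneB

/-- the image family has `Hyp` -/
theorem hyp_img (hs : Function.Surjective f) (hf : f.ker = NC (OmB Ω z)) : Hyp (img f (OmB Ω z)) :=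
  β.bq.hyp_img hs hf

/-- commuting members of the image have the same involution -/
theorem mone (hf : f.ker = NC (OmB Ω z)) : ∀ P ∈ img f (OmB Ω z), ∀ Q ∈ img f (OmB Ω z),
    (∀ k ∈ P, ∀ l ∈ Q, k * l = l * k) → zz P = zz Q := by
  rintro _ ⟨A, hA, rfl⟩ _ ⟨B, hB, rfl⟩ hc
  exact β.bq.mone hf hA hB hc

theorem card_img (hf : f.ker = NC (OmB Ω z)) : ∀ P ∈ img f (OmB Ω z), Nat.card P = 8 := by
  rintro _ ⟨A, hA, rfl⟩
  exact β.bq.card_img hf hA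

/-- the kernel is the centraliser of `X_z` -/
theorem ker_iff (hf : f.ker = NC (OmB Ω z)) (g : ↥(centralizer ({z} : Set G))) :
    f g = 1 ↔ CeX (ZZ Ω) (RR Ω) z g := by
  rw [← MonoidHom.mem_ker, hf, mem_NC]
  constructor
  · intro h b hb k hk
    refine RG.SS_comm (𝒦 := Ov Ω b) (x := (g : G)) (fun L hL l hl => ?_) hk
    have h1 := (β.mem_BB.1 hb).2
    rw [← hL.2] at h1
    have h2 := le_of_cp β.wr0 β.hz hL.1 h1
    exact congrArg Subtype.val (h _ (mem_OmB β.wr0 β.hz hL.1 h1) ⟨l, h2 hl⟩ hl)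
  · intro h A hA a ha
    apply Subtype.ext
    exact h _ (β.mem_BB.2 ⟨⟨_, hA.1, rfl⟩, hA.2⟩) _ (WR.le_RR ⟨hA.1, rfl⟩ ⟨a, ha, rfl⟩)

/-- the C-pairs of the block are C-pairs of `G` -/
theorem cp_of_cpB (hA : A ∈ OmB Ω z) (hB : B ∈ OmB Ω z) (hc : RG.CP (OmB Ω z) (zz A) (zz B)) :
    RG.CP Ω (zz (A.map (centralizer {z}).subtype)) (zz (B.map (centralizer {z}).subtype)) := by
  refine (β.cp_of_cm hA hB (hc.2 A ⟨hA, rfl⟩ B ⟨hB, rfl⟩)).resolve_left fun h => hc.1 (Subtype.ext ?_)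
  rw [zzB β.t0.hyp hA, zzB β.t0.hyp hB, h]

theorem cpB_of_cp (hA : A ∈ OmB Ω z) (hB : B ∈ OmB Ω z)
    (hc : RG.CP Ω (zz (A.map (centralizer {z}).subtype)) (zz (B.map (centralizer {z}).subtype))) :
    RG.CP (OmB Ω z) (zz A) (zz B) := by
  refine ⟨fun h => hc.1 ?_, fun A' hA' B' hB' a ha b hb => ?_⟩
  · rw [← zzB β.t0.hyp hA, ← zzB β.t0.hyp hB, h]
  · apply Subtype.ext
    refine hc.2 (A'.map (centralizer {z}).subtype) ⟨hA'.1.1, ?_⟩ (B'.map (centralizer {z}).subtype) ⟨hB'.1.1, ?_⟩ _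
      ⟨a, ha, rfl⟩ _ ⟨b, hb, rfl⟩
    · rw [← zzB β.t0.hyp hA, ← hA'.2, zzB β.t0.hyp hA'.1]
    · rw [← zzB β.t0.hyp hB, ← hB'.2, zzB β.t0.hyp hB'.1]

/-- **the members over `f (zz A)`** -/
theorem fibre_ncard (hf : f.ker = NC (OmB Ω z)) (hA : A ∈ OmB Ω z) :
    {M | M ∈ img f (OmB Ω z) ∧ zz M = zz (A.map f)}.ncard =
      {L | L ∈ Ω ∧ RG.CP Ω z (zz L) ∧ (zz (A.map (centralizer {z}).subtype) = zz L ∨
        RG.CP Ω (zz (A.map (centralizer {z}).subtype)) (zz L))}.ncard := by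
  rw [β.bq.zz_map hf hA, β.bq.fibre_ncard hf hA]
  rw [← Set.ncard_image_of_injective _ (map_injective (centralizer ({z} : Set G)).subtype_injective)]
  congr 1
  ext L
  constructor
  · rintro ⟨B, ⟨hB, h1⟩, rfl⟩
    refine ⟨hB.1, hB.2, ?_⟩
    rcases h1 with h1 | h1
    · left
      rw [← zzB β.t0.hyp hA, ← zzB β.t0.hyp hB, h1]
    · exact Or.inr (β.cp_of_cpB hA hB h1)
  · rintro ⟨h1, h2, h3⟩
    have h4 := map_subgroupOf_eq_of_le (le_of_cp β.wr0 β.hz h1 h2)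
    have h5 := mem_OmB β.wr0 β.hz h1 h2
    refine ⟨L.subgroupOf (centralizer {z}), ⟨h5, ?_⟩, h4⟩
    rcases h3 with h3 | h3
    · left
      apply Subtype.ext
      rw [zzB β.t0.hyp hA, zzB β.t0.hyp h5, h4, h3]
    · exact Or.inr (β.cpB_of_cp hA h5 (by rw [h4]; exact h3))

/-- the members over `f (zz A)`, if there is no C-pair in `B(z)` -/
theorem fibre_no (hf : f.ker = NC (OmB Ω z)) (hA : A ∈ OmB Ω z)
    (no : ∀ x ∈ BB (ZZ Ω) (RR Ω) z, ∀ y ∈ BB (ZZ Ω) (RR Ω) z, ¬ CP (RR Ω) x y) :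
    {M | M ∈ img f (OmB Ω z) ∧ zz M = zz (A.map f)}.ncard =
      (Ov Ω (zz (A.map (centralizer {z}).subtype))).ncard := by
  rw [β.fibre_ncard hf hA]
  congr 1
  ext L
  have hu : zz (A.map (centralizer {z}).subtype) ∈ BB (ZZ Ω) (RR Ω) z := β.mem_BB.2 ⟨⟨_, hA.1, rfl⟩, hA.2⟩
  constructor
  · rintro ⟨h1, h2, h3 | h3⟩
    · exact ⟨h1, h3.symm⟩
    · exact absurd ((cp_iff_wr β.wr0).2 h3) (no _ hu _ (β.mem_BB.2 ⟨⟨L, h1, rfl⟩, h2⟩))
  · rintro ⟨h1, h2⟩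
    exact ⟨h1, by rw [h2]; exact hA.2, Or.inl h2.symm⟩

/-! ### one class, (C3) -/

/-- an element of `G` moving a member of the block to a member of the block can be chosen in `C(z)` -/
theorem exists_corr (no : ∀ v ∈ ZZ Ω, ∀ x ∈ BB (ZZ Ω) (RR Ω) v, ∀ y ∈ BB (ZZ Ω) (RR Ω) v, ¬ CP (RR Ω) x y)
    (hK : K ∈ Ω) (hKz : RG.CP Ω z (zz K)) (hL : L ∈ Ω) (hLz : RG.CP Ω z (zz L)) (hg : cj g K = L) :
    ∃ h : G, (∀ l ∈ L, h * l = l * h) ∧ h * g ∈ centralizer ({z} : Set G) := by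
  have hw := β.gw
  have hv : zz L ∈ ZZ Ω := ⟨L, hL, rfl⟩
  have hzv : z ∈ BB (ZZ Ω) (RR Ω) (zz L) := ⟨β.hz, (cp_iff_wr β.wr0).2 hLz.symm⟩
  have hgz : g * z * g⁻¹ ∈ BB (ZZ Ω) (RR Ω) (zz L) := by
    refine ⟨hw.conjZ z β.hz g, (cp_iff_wr β.wr0).2 ?_⟩
    have h1 := β.wr0.CP_cj hKz.symm g
    rwa [← β.wr0.zcj hK, hg] at h1
  obtain ⟨h, h1, h2⟩ := move hw (no _ hv) hv hgz hzv
  refine ⟨h, fun l hl => h1 l (WR.le_RR ⟨hL, rfl⟩ hl), ?_⟩
  rw [mem_centralizer_singleton_iff]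
  have h3 : h * g * z * (h * g)⁻¹ = z := by
    calc h * g * z * (h * g)⁻¹ = h * (g * z * g⁻¹) * h⁻¹ := by group
      _ = z := h2
  rwa [mul_inv_eq_iff_eq_mul] at h3

/-- **one class** -/
theorem cls_eq (no : ∀ v ∈ ZZ Ω, ∀ x ∈ BB (ZZ Ω) (RR Ω) v, ∀ y ∈ BB (ZZ Ω) (RR Ω) v, ¬ CP (RR Ω) x y)
    (h1 : ∀ K ∈ Ω, ∀ L ∈ Ω, ∃ g, cj g K = L) (hA : A ∈ OmB Ω z) : cls A = OmB Ω z := by
  ext B
  constructor
  · rintro ⟨g, rfl⟩
    exact β.conj hA g
  · intro hB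
    obtain ⟨g, hg⟩ := h1 _ hA.1 _ hB.1
    obtain ⟨h, h2, h3⟩ := β.exists_corr no hA.1 hA.2 hB.1 hB.2 hg
    refine ⟨⟨h * g, h3⟩, ?_⟩
    apply map_injective (centralizer ({z} : Set G)).subtype_injective
    rw [cj_map]
    show _ = cj (h * g) _
    rw [cj_mul, hg]
    symm
    ext x
    rw [mem_cj]
    constructor
    · intro hx
      have h4 := h2 _ hx
      have h5 : x = h⁻¹ * x * h := by
        calc x = h * (h⁻¹ * x * h) * h⁻¹ := by group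
          _ = (h⁻¹ * x * h) * h * h⁻¹ := by rw [h4]
          _ = h⁻¹ * x * h := by group
      rw [h5]; exact hx
    · intro hx
      have h4 := h2 _ hx
      have h5 : h⁻¹ * x * h = x := by
        rw [mul_assoc, ← h4, inv_mul_cancel_left]
      rw [h5]; exact hx

/-- **(C3) in `C(z)`** -/
theorem c3 (no : ∀ v ∈ ZZ Ω, ∀ x ∈ BB (ZZ Ω) (RR Ω) v, ∀ y ∈ BB (ZZ Ω) (RR Ω) v, ¬ CP (RR Ω) x y)
    (hA : A ∈ OmB Ω z) (h3 : Nil.C3 (A.map (centralizer {z}).subtype)) : Nil.C3 A := by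
  haveI : Fact (Nat.Prime 3) := ⟨Nat.prime_three⟩
  obtain ⟨Q, hQ, hQ8, c, hcK, -, hc3, q, hq, hcq⟩ := h3
  have hcj := mem_normalizer_iff_cj.1 hcK
  obtain ⟨h, h2, hz⟩ := β.exists_corr no hA.1 hA.2 hA.1 hA.2 hcj
  obtain ⟨n, hn1, hn2⟩ := c3_pow (K := A.map (centralizer {z}).subtype) hcj hc3 h2
  refine ⟨A, ⟨le_rfl, IsPGroup.of_card (n := 3) (by rw [β.t0B.card A hA]; norm_num), by rw [relIndex_self]; norm_num⟩,
    β.t0B.card A hA, ⟨h * c, hz⟩ ^ n, ?_, ?_, ?_, ?_⟩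
  · exact c3_norm hcj hn2
  · exact c3_norm hcj hn2
  · have h4 : zpowers ((⟨h * c, hz⟩ : ↥(centralizer ({z} : Set G))) ^ n) =
        (zpowers ((h * c) ^ n)).subgroupOf (centralizer {z}) := by
      apply map_injective (centralizer ({z} : Set G)).subtype_injective
      rw [MonoidHom.map_zpowers, map_subgroupOf_eq_of_le]
      · rfl
      · rw [zpowers_le]
        exact pow_mem hz n
    rw [h4]
    exact hn1.comap_of_injective _ (centralizer {z}).subtype_injective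
  · obtain ⟨q', hq', rfl⟩ := hQ.1 hq
    refine ⟨q', hq', fun h5 => hcq ?_⟩
    have h6 := congrArg Subtype.val h5
    rw [Subgroup.coe_mul, Subgroup.coe_mul] at h6
    have h7 : (h * c) ^ n * (centralizer {z}).subtype q' * ((h * c) ^ n)⁻¹ = (centralizer {z}).subtype q' := by
      rw [mul_inv_eq_iff_eq_mul]
      exact h6
    rw [hn2 _ ⟨q', hq', rfl⟩] at h7
    exact mul_inv_eq_iff_eq_mul.1 h7

/-- (C3) of the image -/
theorem c3_img (hf : f.ker = NC (OmB Ω z))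
    (no : ∀ v ∈ ZZ Ω, ∀ x ∈ BB (ZZ Ω) (RR Ω) v, ∀ y ∈ BB (ZZ Ω) (RR Ω) v, ¬ CP (RR Ω) x y)
    (hA : A ∈ OmB Ω z) (h3 : Nil.C3 (A.map (centralizer {z}).subtype)) : Nil.C3 (A.map f) :=
  c3_map (β.bq.ker_inf hf hA) (β.t0B.card A hA) (β.c3 no hA h3)

/-- one class of the image -/
theorem oneCls_img (hs : Function.Surjective f)
    (no : ∀ v ∈ ZZ Ω, ∀ x ∈ BB (ZZ Ω) (RR Ω) v, ∀ y ∈ BB (ZZ Ω) (RR Ω) v, ¬ CP (RR Ω) x y)
    (h1 : ∀ K ∈ Ω, ∀ L ∈ Ω, ∃ g, cj g K = L) (hA : A ∈ OmB Ω z) : cls (A.map f) = img f (OmB Ω z) := by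
  ext P
  constructor
  · rintro ⟨g, rfl⟩
    obtain ⟨g, rfl⟩ := hs g
    exact ⟨cj g A, β.conj hA g, cj_map f g A⟩
  · rintro ⟨B, hB, rfl⟩
    rw [← β.cls_eq no h1 hA] at hB
    obtain ⟨g, rfl⟩ := hB
    exact ⟨f g, cj_map f g A⟩

/-- **the world `W2` of `C(z)`** -/
theorem w2B (no : ∀ x ∈ BB (ZZ Ω) (RR Ω) z, ∀ y ∈ BB (ZZ Ω) (RR Ω) z, ¬ CP (RR Ω) x y)
    (h2 : ∀ u ∈ ZZ Ω, (Ov Ω u).ncard = 2) : RTwo.W2 (OmB Ω z) where
  hyp := β.t0B.hyp
  card := β.t0B.card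
  two := by
    intro A hA
    obtain ⟨u, hu⟩ : ∃ u, u = zz (A.map (centralizer {z}).subtype) := ⟨_, rfl⟩
    have huZ : u ∈ ZZ Ω := ⟨_, hA.1, hu.symm⟩
    obtain ⟨K, L, hKL, e⟩ := Set.ncard_eq_two.1 (h2 u huZ)
    have hex : ∃ L ∈ Ov Ω u, L ≠ A.map (centralizer {z}).subtype ∧
        ∀ M ∈ Ov Ω u, M = A.map (centralizer {z}).subtype ∨ M = L := by
      have h3 : A.map (centralizer {z}).subtype ∈ Ov Ω u := ⟨hA.1, hu.symm⟩
      rw [e] at h3 ⊢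
      rcases h3 with h3 | h3
      · exact ⟨L, Or.inr rfl, by rw [h3]; exact hKL.symm, fun M hM => by rw [h3]; exact hM⟩
      · exact ⟨K, Or.inl rfl, by rw [h3]; exact hKL, fun M hM => by rw [h3]; exact hM.symm⟩
    obtain ⟨L, hL, hne, hall⟩ := hex
    have hLz : RG.CP Ω z (zz L) := by rw [hL.2, hu]; exact hA.2
    have h4 := map_subgroupOf_eq_of_le (le_of_cp β.wr0 β.hz hL.1 hLz)
    have h5 := mem_OmB β.wr0 β.hz hL.1 hLz
    refine ⟨_, h5, fun h6 => hne (by rw [← h6, h4]), ?_, ?_⟩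
    · apply Subtype.ext
      rw [zzB β.t0.hyp h5, zzB β.t0.hyp hA, h4, hL.2, hu]
    · intro M hM hMz
      have h6 : M.map (centralizer {z}).subtype ∈ Ov Ω u := by
        refine ⟨hM.1, ?_⟩
        rw [← zzB β.t0.hyp hM, hMz, zzB β.t0.hyp hA, hu]
      rcases hall _ h6 with h7 | h7
      · left
        exact map_injective (centralizer ({z} : Set G)).subtype_injective h7
      · right
        apply map_injective (centralizer ({z} : Set G)).subtype_injective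
        rw [h7, h4]
  one := by
    intro A hA B hB hc
    apply Subtype.ext
    rw [zzB β.t0.hyp hA, zzB β.t0.hyp hB]
    refine (β.cp_of_cm hA hB hc).resolve_right fun h => ?_
    exact no _ (β.mem_BB.2 ⟨⟨_, hA.1, rfl⟩, hA.2⟩) _ (β.mem_BB.2 ⟨⟨_, hB.1, rfl⟩, hB.2⟩) ((cp_iff_wr β.wr0).2 h)

end BlkC

end Cfsg.Agent.Cit.Nil.CompR
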