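import Cfsg.Agent.Cit.Nil.CompR.SecDef
import Cfsg.Agent.Cit.Nil.Three.ExCK

/-!
# S1309 (n6), COMP, `r = 2`, the product situation: no THREE in `C(e)` (helper531's (T3))

* `sec_le_of_two`, `sec_two_mem` : the 2-elements of `J` lie in `K`;
* `sec_jl` : the J-lemma;
* **`SecW.false_of_three`**.
-/

set_option autoImplicit false
set_option linter.style.haveILetI false
set_option linter.unusedSectionVars false
set_option maxHeartbeats 400000

namespace Cfsg.Agent.Cit.Nil.CompR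

open Subgroup Cfsg Cfsg.Agent.Cit Cfsg.Agent.Cit.Nil.RTwo

variable {G : Type*} [Group G] [Finite G] {Om : Set (Subgroup G)} {J K K' P X : Subgroup G} {v e r q x y : G}

theorem sec_perm_key1 : ∀ σ : Equiv.Perm (Fin 3), σ * σ * σ = 1 → σ ≠ 1 → σ = Equiv.addRight (σ 0) ∧ σ 0 ≠ 0 := by
  decide

theorem sec_perm_key2' : ∀ ρ τ : Equiv.Perm (Fin 3), (ρ ≠ 1 ∧ ρ * ρ = 1 ∧ τ * τ * τ = 1 ∧ τ * ρ = ρ * τ) → τ = 1 := by
  decide

theorem sec_perm_key2 (ρ τ : Equiv.Perm (Fin 3)) (h1 : ρ ≠ 1) (h2 : ρ * ρ = 1) (h3 : τ * τ * τ = 1)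
    (h4 : τ * ρ = ρ * τ) : τ = 1 := sec_perm_key2' ρ τ ⟨h1, h2, h3, h4⟩

theorem sec_perm_key3 : ∀ τ : Equiv.Perm (Fin 3), τ * τ * τ = 1 → (∃ i, τ i = i) → τ = 1 := by
  decide

theorem sec_le_of_two (hP : IsPGroup 2 P) (hKP : K ≤ P) (hPJ : P ≤ J) (hK8 : Nat.card K = 8)
    (h16 : ¬ 16 ∣ Nat.card J) : P ≤ K := by
  haveI : Fact (Nat.Prime 2) := ⟨Nat.prime_two⟩
  obtain ⟨m, hm⟩ := hP.exists_card_eq
  have h1 : 8 ∣ 2 ^ m := by rw [← hm, ← hK8]; exact card_dvd_of_le hKP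
  have h2 : 2 ^ m ∣ Nat.card J := by rw [← hm]; exact card_dvd_of_le hPJ
  have h3 : m ≤ 3 := by
    by_contra h4
    apply h16
    refine dvd_trans ?_ h2
    exact pow_dvd_pow 2 (show 4 ≤ m by omega)
  have h4 : 2 ^ m ≤ 8 := by
    calc 2 ^ m ≤ 2 ^ 3 := Nat.pow_le_pow_right (by norm_num) h3
      _ = 8 := by norm_num
  have h5 : K = P := Subgroup.eq_of_le_of_card_ge hKP (by rw [hm, hK8]; exact h4)
  rw [h5]

theorem sec_nor (h : W2 Om) (hK : Mem Om v K) (hKJ : K ≤ J) (hJv : J ≤ centralizer {v}) (h16 : ¬ 16 ∣ Nat.card J)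
    (hy : y ∈ J) : cj y K = K := by
  obtain ⟨L, hL, hne, -⟩ := hK.other h
  have hyv : y * v = v * y := mem_centralizer_singleton_iff.1 (hJv hy)
  rcases hK.cases hL h hne (hK.cj_comm h hyv) with h1 | h1
  · exact h1
  exfalso
  have hLJ : L ≤ J := by
    rw [← h1]
    rintro _ ⟨k, hk, rfl⟩
    exact mul_mem (mul_mem hy (hKJ hk)) (inv_mem hy)
  have hP : IsPGroup 2 (K ⊔ L : Subgroup G) := by
    refine IsPGroup.to_sup_of_normal_right' (h.isPGroup hK.1) (h.isPGroup hL.1) ?_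
    intro k hk
    rw [mem_normalizer_iff]
    intro l
    have h3 : ∀ l ∈ L, k * l * k⁻¹ = l := fun l hl => by rw [hK.comm hL h hne hk hl, mul_inv_cancel_right]
    constructor
    · intro hl; rw [h3 l hl]; exact hl
    · intro hl
      have h4 : l = k⁻¹ * (k * l * k⁻¹) * k := by group
      have h5 : k⁻¹ * (k * l * k⁻¹) * k = k * l * k⁻¹ := by
        have h6 := hK.comm hL h hne (inv_mem hk) hl
        rw [h6, inv_mul_cancel_right]
      rw [h4, h5]; exact hl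
  have h2 := sec_le_of_two hP le_sup_left (sup_le hKJ hLJ) (h.card K hK.1) h16
  have h3 : L ≤ K := le_sup_right.trans h2
  exact hne (Subgroup.eq_of_le_of_card_ge h3 (by rw [h.card K hK.1, h.card L hL.1])).symm

/-- the 2-elements of `J` lie in `K` -/
theorem sec_two_mem (h : W2 Om) (hK : Mem Om v K) (hKJ : K ≤ J) (hJv : J ≤ centralizer {v})
    (h16 : ¬ 16 ∣ Nat.card J) (hy : y ∈ J) {n : ℕ} (hn : y ^ 2 ^ n = 1) : y ∈ K := by
  haveI : Fact (Nat.Prime 2) := ⟨Nat.prime_two⟩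
  have hZ : IsPGroup 2 (zpowers y) := by
    have h3 : Nat.card (zpowers y) ∣ 2 ^ n := by
      rw [Nat.card_zpowers]
      exact orderOf_dvd_of_pow_eq_one hn
    obtain ⟨i, -, hi⟩ := (Nat.dvd_prime_pow Nat.prime_two).1 h3
    exact IsPGroup.of_card hi
  have hnor : ∀ w ∈ zpowers y, w ∈ normalizer (K : Set G) := by
    intro w hw
    have hwJ : w ∈ J := (zpowers_le.2 hy) hw
    exact mem_normalizer_iff_cj.2 (sec_nor h hK hKJ hJv h16 hwJ)
  have hP : IsPGroup 2 (zpowers y ⊔ K : Subgroup G) :=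
    IsPGroup.to_sup_of_normal_right' hZ (h.isPGroup hK.1) hnor
  have h2 := sec_le_of_two hP le_sup_right (sup_le (zpowers_le.2 hy) hKJ) (h.card K hK.1) h16
  exact h2 ((le_sup_left : zpowers y ≤ zpowers y ⊔ K) (mem_zpowers y))

/-- **the J-lemma** -/
theorem sec_jl (hJX : J ≤ X) (hsub : (J.subgroupOf X).IsSubnormal)
    (hJ2 : ∀ y ∈ J, ∀ n : ℕ, y ^ 2 ^ n = 1 → y ∈ K) (hr : r ∈ J) (ho : Odd (orderOf r)) (hq : q ∈ X) {n : ℕ}
    (hn : (q * r * q⁻¹ * r⁻¹) ^ 2 ^ n = 1) : q * r * q⁻¹ * r⁻¹ ∈ K := by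
  have h1 := Three.conj_mem_of_subnormal hsub (c := (⟨r, hJX hr⟩ : X)) (t := ⟨q, hq⟩) (mem_subgroupOf.2 hr)
    (by rw [Subgroup.orderOf_mk]; exact ho) (n := n) (Subtype.ext hn)
  have h2 : q * r * q⁻¹ ∈ J := mem_subgroupOf.1 h1
  exact hJ2 _ (mul_mem h2 (inv_mem hr)) n hn

/-- `⟨Om⟩` is normal -/
theorem sSup_conj (hyp : Hyp Om) (g : G) (hx : x ∈ sSup Om) : g * x * g⁻¹ ∈ sSup Om := by
  have h1 : sSup Om ≤ (sSup Om).comap (MulAut.conj g).toMonoidHom := by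
    refine sSup_le fun L hL k hk => ?_
    have h2 : cj g L ≤ sSup Om := le_sSup (hyp.conj L hL g)
    exact h2 (conj_mem_cj hk)
  exact h1 hx

theorem ZB_conj (hyp : Hyp Om) (g : G) (hx : x ∈ ZB Om) : g * x * g⁻¹ ∈ ZB Om := by
  refine ⟨sSup_conj hyp g hx.1, mem_centralizer_iff.2 ?_⟩
  intro y hy
  have h1 := sSup_conj hyp g⁻¹ (x := y) hy
  have h2 := mem_centralizer_iff.1 hx.2 _ h1
  rw [inv_inv] at h2
  calc y * (g * x * g⁻¹) = g * ((g⁻¹ * y * g) * x) * g⁻¹ := by group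
    _ = g * (x * (g⁻¹ * y * g)) * g⁻¹ := by rw [h2]
    _ = _ := by group

theorem ZB_comm (hx : x ∈ ZB Om) (hy : y ∈ sSup Om) : x * y = y * x := (mem_centralizer_iff.1 hx.2 y hy).symm

/-- **(T3)** -/
theorem SecW.false_of_three (S : SecW Om) (hK : Mem Om v K) {e e' : G} (hev : e * v = v * e) (hee : e * e = 1)
    (heK : ∀ k ∈ K, e * k = k * e) (he' : e' ∈ sSup Om) (he2 : e' * e' = 1)
    (hec : ∀ b ∈ sSup Om, e * b * e⁻¹ = e' * b * e'⁻¹) {J : Subgroup G} (hJ : J ≤ centralizer {v} ⊓ centralizer {e})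
    (hKJ : K ≤ J) (hsub : (J.subgroupOf (centralizer {v} ⊓ centralizer {e})).IsSubnormal)
    (iso : (↥J ⧸ oddCore ↥J) ≃* Matrix.SpecialLinearGroup (Fin 2) (ZMod 3)) : False := by
  haveI : Fact (Nat.Prime 2) := ⟨Nat.prime_two⟩
  have h := S.w
  have h16 := Three.not_16 iso
  have hJv : J ≤ centralizer {v} := hJ.trans inf_le_left
  obtain ⟨K', hK', hne, -⟩ := hK.other h
  obtain ⟨a, qa⟩ := h.exists_q3 hK
  obtain ⟨b, qb⟩ := h.exists_q3 hK'
  have F : Frame Om v K K' a b := ⟨hK, hK', hne, qa, qb⟩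
  have hvv := hK.inZ.z2 h
  have hv1 := hK.inZ.z1 h
  obtain ⟨r, hrJ, ho, k0, hk0, hk0'⟩ := Three.exists_rot_of_sl qa hKJ iso
  have hrv : r * v = v * r := mem_centralizer_singleton_iff.1 (hJ hrJ).1
  have hre : r * e = e * r := mem_centralizer_singleton_iff.1 (hJ hrJ).2
  have hJ2 : ∀ y ∈ J, ∀ n : ℕ, y ^ 2 ^ n = 1 → y ∈ K := fun y hy n hn => sec_two_mem h hK hKJ hJv h16 hy hn
  have hrK : cj r K = K := sec_nor h hK hKJ hJv h16 hrJ
  have hfix : ∀ {g : G}, g * v = v * g → cj g K = K → cj g K' = K' := by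
    intro g hg hgK
    rcases hK.cases hK' h hne (hK'.cj_comm h hg) with h1 | h1
    · exact absurd (cj_inj.1 (h1.trans hgK.symm)).symm hne
    · exact h1
  have hrK' : cj r K' = K' := hfix hrv hrK
  have jl : ∀ {q : G}, q * v = v * q → q * e = e * q → (∃ n : ℕ, (q * r * q⁻¹ * r⁻¹) ^ 2 ^ n = 1) →
      q * r * q⁻¹ * r⁻¹ ∈ K := by
    rintro q h1 h2 ⟨n, hn⟩
    exact sec_jl hJ hsub hJ2 hrJ ho ⟨mem_centralizer_singleton_iff.2 h1, mem_centralizer_singleton_iff.2 h2⟩ hn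
  -- the action on `K`
  obtain ⟨σ, hσ⟩ := qa.exists_act qa hrK hrv
  obtain ⟨τ, hτ⟩ := qb.exists_act qb hrK' hrv
  have hσ3 : σ * σ * σ = 1 := by
    refine Three.odd_perm ho ?_
    have h1 := Three.act_pow hvv hσ hrv (orderOf r)
    rw [pow_orderOf_eq_one] at h1
    exact h1.unique qa (Act.one a v)
  have hτ3 : τ * τ * τ = 1 := by
    refine Three.odd_perm ho ?_
    have h1 := Three.act_pow hvv hτ hrv (orderOf r)
    rw [pow_orderOf_eq_one] at h1
    exact h1.unique qb (Act.one b v)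
  have hσ1 : σ ≠ 1 := by
    rintro rfl
    exact hk0' (Three.comm_of_odd_inn hvv ho hrv (hσ.inner qa hrv k0 hk0))
  obtain ⟨e1, e2⟩ := sec_perm_key1 σ hσ3 hσ1
  -- elements of `K'` commuting with `e`
  have hyr : ∀ y ∈ K', e * y = y * e → r * y = y * r := by
    intro y hy hye
    have h1 : y * r * y⁻¹ * r⁻¹ ∈ K' := by
      have h2 : r * y⁻¹ * r⁻¹ ∈ K' := by
        have := conj_mem_cj (g := r) (inv_mem hy)
        rwa [hrK'] at this
      have h3 : y * r * y⁻¹ * r⁻¹ = y * (r * y⁻¹ * r⁻¹) := by group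
      rw [h3]
      exact mul_mem hy h2
    have h2 := jl (hK'.comm_z h hy) hye.symm (by
      obtain ⟨n, hn⟩ := h.isPGroup hK'.1 ⟨_, h1⟩
      exact ⟨n, congrArg Subtype.val hn⟩)
    refine Three.comm_of_odd_inn hvv ho hrv ?_
    rcases hK.inf hK' h hne h2 h1 with h3 | h3
    · left
      have h4 : y * r * y⁻¹ = r := mul_inv_eq_one.1 h3
      rw [mul_inv_eq_iff_eq_mul] at h4
      rw [← h4, mul_inv_cancel_right]
    · right
      have h4 : y * r * y⁻¹ = v * r := by rwa [mul_inv_eq_iff_eq_mul] at h3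
      rw [mul_inv_eq_iff_eq_mul] at h4
      rw [mul_inv_eq_iff_eq_mul]
      calc r * y = (v * v) * (r * y) := by rw [hvv, one_mul]
        _ = v * (v * r * y) := by group
        _ = v * (y * r) := by rw [h4]
        _ = v * y * r := by group
  -- `r` is trivial on the axes of `K'`
  have hτ1 : τ = 1 := by
    by_cases hex : ∃ i, e * b i = b i * e
    · obtain ⟨i, hi⟩ := hex
      refine sec_perm_key3 τ hτ3 ⟨i, ?_⟩
      have h1 := hyr _ (qb.mem i) hi
      have h2 : r * b i * r⁻¹ = b i := by rw [h1, mul_inv_cancel_right]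
      rcases hτ i with h3 | h3
      · rw [h2] at h3; exact (qb.inj (Or.inl h3)).symm
      · rw [h2] at h3; exact (qb.inj (Or.inr h3)).symm
    · push Not at hex
      have heK1 : cj e K = K := by
        refine Three.cj_eq_of_mem fun k hk => ?_
        rw [heK k hk, mul_inv_cancel_right]; exact hk
      obtain ⟨ρ, hρ⟩ := qb.exists_act qb (hfix hev heK1) hev
      have hρ2 : ρ * ρ = 1 := by
        have h1 := hρ.comp hvv hρ hev
        rw [hee] at h1
        exact h1.unique qb (Act.one b v)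
      have hρ1 : ρ ≠ 1 := by
        rintro rfl
        rcases qb.inner_cases (hρ.inner qb hev) with h1 | ⟨j, h1⟩
        · have h2 := h1 _ (qb.mem 0)
          rw [mul_inv_eq_iff_eq_mul] at h2
          exact hex 0 h2
        · have h2 := h1 _ (qb.mem j)
          rw [mul_inv_cancel_right, mul_inv_eq_iff_eq_mul] at h2
          exact hex j h2
      refine sec_perm_key2 ρ τ hρ1 hρ2 hτ3 ?_
      have h1 := hρ.comp hvv hτ hrv
      have h2 := hτ.comp hvv hρ hev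
      rw [hre] at h1
      exact h1.unique qb h2
  have ht : Tra v a b r (σ 0, 0) := by
    refine ⟨hrv, ?_, ?_⟩
    · change Act v a a r (Equiv.addRight (σ 0))
      rw [← e1]; exact hσ
    · have h1 : Equiv.addRight ((σ 0, (0 : Fin 3)) : Fin 3 × Fin 3).2 = (1 : Equiv.Perm (Fin 3)) := by
        ext i; simp
      rw [h1, ← hτ1]; exact hτ
  have hw : WOne ((σ 0, 0) : Fin 3 × Fin 3) := Or.inl ⟨e2, rfl⟩
  -- `v ∈ B`
  have hKB : K ≤ sSup Om := le_sSup hK.1
  have hvB : v ∈ sSup Om := hKB (hK.zmem h)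
  have hq3 : ∀ k ∈ K, k ∈ ZB Om → k = 1 := by
    intro k hk hkZ
    have hvZ := S.zn v hK.inZ
    rcases qa.cov k hk with h1 | h1 | ⟨i, h1 | h1⟩
    · exact h1
    · exact absurd (h1 ▸ hkZ) hvZ
    · exfalso
      apply hvZ
      rw [← qa.sq i, ← h1]
      exact mul_mem hkZ hkZ
    · exfalso
      apply hvZ
      have h2 : k * k = v := by
        rw [h1, mul_assoc, ← mul_assoc (a i), ← qa.zc, mul_assoc v (a i), qa.sq, ← mul_assoc, qa.z2, one_mul]
      rw [← h2]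
      exact mul_mem hkZ hkZ
  -- `r` centralises `Z(B)`
  have hrZ : ∀ q ∈ ZB Om, r * q = q * r := by
    intro q hq
    have hqv : q * v = v * q := ZB_comm hq hvB
    have hqe : q * e = e * q := by
      have h1 := hec q hq.1
      have h2 : e' * q * e'⁻¹ = q := by rw [← ZB_comm hq he', mul_inv_cancel_right]
      rw [h2, mul_inv_eq_iff_eq_mul] at h1
      exact h1.symm
    have h1 : q * r * q⁻¹ * r⁻¹ ∈ ZB Om := by
      have h3 : q * r * q⁻¹ * r⁻¹ = q * (r * q⁻¹ * r⁻¹) := by group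
      rw [h3]
      exact mul_mem hq (ZB_conj h.hyp r (inv_mem hq))
    have h2 := jl hqv hqe (by
      obtain ⟨n, hn⟩ := S.zb2 ⟨_, h1⟩
      exact ⟨n, congrArg Subtype.val hn⟩)
    have h3 := hq3 _ h2 h1
    have h4 : q * r * q⁻¹ = r := mul_inv_eq_one.1 h3
    rw [mul_inv_eq_iff_eq_mul] at h4
    exact h4.symm
  -- the label
  have he'v : e' * v = v * e' := by
    have h1 := hec v hvB
    rw [hev, mul_inv_cancel_right] at h1
    have h2 := h1.symm
    rwa [mul_inv_eq_iff_eq_mul] at h2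
  obtain ⟨c, hc, hcB, hζ⟩ := S.lab v hK.inZ e' he' he'v he2
  rw [← hec c hcB] at hζ
  obtain ⟨ζ, hζe⟩ : ∃ ζ, ζ = e * c * e⁻¹ * c⁻¹ := ⟨_, rfl⟩
  rw [← hζe] at hζ
  have hec' : e * c * e⁻¹ = ζ * c := by rw [hζe]; group
  have hcX := CC.mem_CX hc
  obtain ⟨d, hd⟩ : ∃ d, d = r * c * r⁻¹ * c⁻¹ := ⟨_, rfl⟩
  have hdB : d ∈ sSup Om := by rw [hd]; exact mul_mem (sSup_conj h.hyp r hcB) (inv_mem hcB)
  have hdX : d ∈ CX Om v := by rw [hd]; exact mul_mem (CX_conj_comm h hrv hcX) (inv_mem hcX)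
  have hde : d * e = e * d := by
    have h1 : e * d * e⁻¹ = d := by
      have h2 : e * (r * c * r⁻¹) * e⁻¹ = ζ * (r * c * r⁻¹) := by
        calc e * (r * c * r⁻¹) * e⁻¹ = (e * r) * c * (e * r)⁻¹ := by group
          _ = (r * e) * c * (r * e)⁻¹ := by rw [hre]
          _ = r * (e * c * e⁻¹) * r⁻¹ := by group
          _ = (r * ζ) * c * r⁻¹ := by rw [hec']; group
          _ = _ := by rw [hrZ ζ hζ]; group
      have h3 : e * c⁻¹ * e⁻¹ = (ζ * c)⁻¹ := by rw [← hec']; group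
      calc e * d * e⁻¹ = (e * (r * c * r⁻¹) * e⁻¹) * (e * c⁻¹ * e⁻¹) := by rw [hd]; group
        _ = ζ * (r * c * r⁻¹ * c⁻¹) * ζ⁻¹ := by rw [h2, h3]; group
        _ = ζ * d * ζ⁻¹ := by rw [← hd]
        _ = d := by rw [ZB_comm hζ hdB, mul_inv_cancel_right]
    rw [mul_inv_eq_iff_eq_mul] at h1
    exact h1.symm
  -- elements of `B ∩ CX v` are 2-elements
  have hA : ∀ x, x ∈ sSup Om → x ∈ CX Om v → ∃ n : ℕ, x ^ 2 ^ n = 1 := by
    intro x hx hxX
    obtain ⟨n, hn⟩ := S.zb2 ⟨_, S.cx v hK.inZ x hx hxX⟩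
    refine ⟨n + 1, ?_⟩
    have h1 : (x * x) ^ 2 ^ n = 1 := congrArg Subtype.val hn
    rw [pow_succ', pow_mul, pow_two]
    exact h1
  have hdv : d * v = v * d := CX_le hK.inZ h hdX
  have hrd : r * d = d * r := by
    have h0 : d * r * d⁻¹ * r⁻¹ = d * (r * d⁻¹ * r⁻¹) := by group
    have hB : d * r * d⁻¹ * r⁻¹ ∈ sSup Om := by
      rw [h0]; exact mul_mem hdB (sSup_conj h.hyp r (inv_mem hdB))
    have hX : d * r * d⁻¹ * r⁻¹ ∈ CX Om v := by
      rw [h0]; exact mul_mem hdX (CX_conj_comm h hrv (inv_mem hdX))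
    have h1 := jl hdv hde (hA _ hB hX)
    have h2 : d * r * d⁻¹ * r⁻¹ = 1 ∨ d * r * d⁻¹ * r⁻¹ = v := by
      have h3 := mem_CX.1 hX K hK
      exact qa.cent h1 (i := 0) (j := 1) (by decide) (h3 _ (qa.mem 0)) (h3 _ (qa.mem 1))
    refine Three.comm_of_odd_inn hvv ho hrv ?_
    rcases h2 with h3 | h3
    · left
      have h4 : d * r * d⁻¹ = r := mul_inv_eq_one.1 h3
      rw [mul_inv_eq_iff_eq_mul] at h4
      rw [← h4, mul_inv_cancel_right]
    · right
      have h4 : d * r * d⁻¹ = v * r := by rwa [mul_inv_eq_iff_eq_mul] at h3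
      rw [mul_inv_eq_iff_eq_mul] at h4
      rw [mul_inv_eq_iff_eq_mul]
      calc r * d = (v * v) * (r * d) := by rw [hvv, one_mul]
        _ = v * (v * r * d) := by group
        _ = v * (d * r) := by rw [h4]
        _ = v * d * r := by group
  -- `rⁿ c r⁻ⁿ = dⁿ c`
  have hrc : r * c * r⁻¹ = d * c := by rw [hd]; group
  have hpow : ∀ n : ℕ, r ^ n * c * (r ^ n)⁻¹ = d ^ n * c := by
    intro n
    induction n with
    | zero => simp
    | succ n ih =>
      have h1 : r * d ^ n = d ^ n * r := (show Commute r d from hrd).pow_right n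
      calc r ^ (n + 1) * c * (r ^ (n + 1))⁻¹ = r * (r ^ n * c * (r ^ n)⁻¹) * r⁻¹ := by rw [pow_succ']; group
        _ = (r * d ^ n) * c * r⁻¹ := by rw [ih]; group
        _ = d ^ n * (r * c * r⁻¹) := by rw [h1]; group
        _ = d ^ n * d * c := by rw [hrc]; group
        _ = d ^ (n + 1) * c := by rw [pow_succ]
  have hd1 : d = 1 := by
    have h1 := hpow (orderOf r)
    rw [pow_orderOf_eq_one, one_mul, inv_one, mul_one] at h1
    have h2 : d ^ orderOf r = 1 := mul_eq_right.1 h1.symm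
    obtain ⟨n, hn⟩ := hA d hdB hdX
    have h3 : orderOf d ∣ orderOf r := orderOf_dvd_of_pow_eq_one h2
    have h4 : orderOf d ∣ 2 ^ n := orderOf_dvd_of_pow_eq_one hn
    have h5 : Nat.Coprime (orderOf r) (2 ^ n) := (Nat.coprime_two_right.2 ho).pow_right n
    exact orderOf_eq_one_iff.1 (Nat.eq_one_of_dvd_coprimes h5 h3 h4)
  have hfin : r * c = c * r := by
    rw [hd1, one_mul, mul_inv_eq_iff_eq_mul] at hrc
    exact hrc
  exact S.nw v K K' a b F c hc r (σ 0, 0) ht hfin hw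

end Cfsg.Agent.Cit.Nil.CompR
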