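import Cfsg.Agent.Cit.Nil.CompR.MThreeF

/-!
# S1309 (n6), `r = 2`, AllOne, (M3): the contradiction in a triple

* `false_of_block` : an element `w` of `⟨Bz⟩` which rotates `A` and is inner on `A'` (`A`, `A'` over `a`) is impossible;
* **`false_of_tri`** : a triple `z`, `a`, `b = z a` of members with commuting members.
-/

set_option autoImplicit false
set_option linter.style.haveILetI false
set_option linter.unusedSectionVars false

namespace Cfsg.Agent.Cit.Nil.CompR.M3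

open Subgroup Cfsg Cfsg.Agent.Cit
open RTwo (Q3 Act)
open RFour.M3 (Rt Nn SecH)
open RTwoM (WM Mem)

universe u

variable {G : Type u} [Group G] [Finite G] {Om : Set (Subgroup G)}

/-- the members over `z` and over `a` commute -/
def Cm (Om : Set (Subgroup G)) (z a : G) : Prop := ∀ K, Mem Om z K → ∀ L, Mem Om a L → ∀ x ∈ K, ∀ y ∈ L, x * y = y * x

theorem Cm.symm {z a : G} (h : Cm Om z a) : Cm Om a z := fun K hK L hL x hx y hy => (h L hL K hK y hy x hx).symm

/-- one block -/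
theorem false_of_block (h : WM Om) {z a b : G} (hab : b * a = z) (hba : b * a = a * b) {Bz Bb : Set (Subgroup G)}
    (cz : ∀ L ∈ Bz, ∀ K, Mem Om z K → ∀ l ∈ L, ∀ k ∈ K, l * k = k * l) (sec : Sec Om b Bb)
    (hcore : Cfsg.pPrimeCore 2 ↥(centralizer ({b} : Set G)) = ⊥)
    (n3 : ∀ L ∈ restr Om (centralizer ({b} : Set G)), ¬ IndDefs.Three L)
    (hb1 : b ≠ 1) (hza : Cm Om z a) (hAb : Cm Om a b) (hb : RTwoM.InZ Om b) (hz : RTwoM.InZ Om z)
    (kz : ∀ L, Mem Om z L → L ∈ Bb) (ka : ∀ L, Mem Om a L → L ∈ Bb)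
    {A A' : Subgroup G} (hA : Mem Om a A) (hA' : Mem Om a A') (hAA : A ≠ A') {w : G} (hw : w ∈ sSup Bz)
    (hwb : w * b = b * w) (hr : Rt a A w) (hn : Nn a A' w) : False := by
  have hwz : ∀ K, Mem Om z K → ∀ k ∈ K, w * k = k * w := by
    intro K hK k hk
    have h1 : sSup Bz ≤ centralizer ({k} : Set G) :=
      sSup_le fun L hL l hl => mem_centralizer_singleton_iff.2 (cz L hL K hK l hl k hk)
    exact mem_centralizer_singleton_iff.1 (h1 hw)
  obtain ⟨q, hq⟩ := h.exists_q3 hA'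
  obtain ⟨m, hm, hma⟩ : ∃ m ∈ A', ∀ l ∈ A', w * l * w⁻¹ = m * l * m⁻¹ := by
    rcases hq.inner_cases hn with h3 | ⟨j, h3⟩
    · exact ⟨1, one_mem A', fun l hl => by rw [h3 l hl]; group⟩
    · exact ⟨q j, hq.mem j, h3⟩
  obtain ⟨w', hw'⟩ : ∃ w', w' = w * m⁻¹ := ⟨_, rfl⟩
  obtain ⟨K, (hK : Mem Om z K)⟩ := hz
  obtain ⟨K', hK', hKK, -⟩ := hK.other h
  obtain ⟨B, (hB : Mem Om b B)⟩ := hb
  have hmb : m * b = b * m := hAb A' hA' B hB m hm b (hB.zmem h)
  have inv : ∀ {u v : G}, u * v = v * u → u⁻¹ * v = v * u⁻¹ := fun {u v} hu => by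
    rw [inv_mul_eq_iff_eq_mul, ← mul_assoc, hu, mul_inv_cancel_right]
  have cm : ∀ {u : G}, w * u = u * w → m * u = u * m → w' * u = u * w' := by
    intro u h1 h2
    rw [hw', mul_assoc, inv h2, ← mul_assoc, h1, mul_assoc]
  refine false_of_weight h hab hba sec hcore n3 hb1 hK hK' hKK hA hA' hAA (kz K hK) (kz K' hK') (ka A hA)
    (ka A' hA') hza (w := w') (cm hwb hmb) (fun P hP p hp => cm (hwz P hP p hp) ?_) ?_ ?_
  · exact (hza P hP A' hA' p hp m hm).symm
  · intro p hp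
    have h1 := hma (m⁻¹ * p * m) (mul_mem (mul_mem (inv_mem hm) hp) hm)
    rw [← mul_inv_eq_iff_eq_mul, hw']
    calc w * m⁻¹ * p * (w * m⁻¹)⁻¹ = w * (m⁻¹ * p * m) * w⁻¹ := by group
      _ = m * (m⁻¹ * p * m) * m⁻¹ := h1
      _ = p := by group
  · have hmA : ∀ y ∈ A, m * y = y * m := fun y hy => (hA.comm hA' h hAA hy hm).symm
    have h1 : ∀ y ∈ A, w' * y * w'⁻¹ = w * y * w⁻¹ := by
      intro y hy
      rw [hw']
      calc w * m⁻¹ * y * (w * m⁻¹)⁻¹ = w * (m⁻¹ * y * m) * w⁻¹ := by group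
        _ = w * (y * m⁻¹ * m) * w⁻¹ := by rw [inv (hmA y hy)]
        _ = _ := by group
    refine ⟨?_, fun y hy hyy => ?_⟩
    · refine RFour.M3.cj_eq_of_mem fun k hk => ?_
      rw [h1 k hk]
      have := conj_mem_cj (g := w) hk
      rwa [hr.1] at this
    · rw [h1 y hy]
      exact hr.2 y hy hyy

/-- **a triple** -/
theorem false_of_tri (h : WM Om) {z a b : G} (hzab : z * a * b = 1) (hz : RTwoM.InZ Om z) (ha : RTwoM.InZ Om a) (hb : RTwoM.InZ Om b)
    (cza : Cm Om z a) (czb : Cm Om z b) (cab : Cm Om a b) {Bz Ba Bb : Set (Subgroup G)} (sz : Sec Om z Bz)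
    (sa : Sec Om a Ba) (sb : Sec Om b Bb) (za : ∀ L, Mem Om a L → L ∈ Bz) (zb : ∀ L, Mem Om b L → L ∈ Bz)
    (az : ∀ L, Mem Om z L → L ∈ Ba) (ab : ∀ L, Mem Om b L → L ∈ Ba) (bz : ∀ L, Mem Om z L → L ∈ Bb)
    (ba : ∀ L, Mem Om a L → L ∈ Bb)
    (core : ∀ t, orderOf t = 2 → Cfsg.pPrimeCore 2 ↥(centralizer ({t} : Set G)) = ⊥)
    (n3 : ∀ t, RTwoM.InZ Om t → ∀ L ∈ restr Om (centralizer ({t} : Set G)), ¬ IndDefs.Three L) : False := by
  obtain ⟨A, (hA : Mem Om a A)⟩ := id ha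
  obtain ⟨A', hA', hAA, -⟩ := hA.other h
  obtain ⟨B, (hB : Mem Om b B)⟩ := id hb
  obtain ⟨B', hB', hBB, -⟩ := hB.other h
  obtain ⟨Z, (hZ : Mem Om z Z)⟩ := id hz
  have hz2 := hz.z2 h
  have ha2 := ha.z2 h
  have hb2 := hb.z2 h
  have c1 : a * b = b * a := cab A hA B hB a (hA.zmem h) b (hB.zmem h)
  have e1 : a * b = z := by
    have h1 : z * (a * b) = 1 := by rw [← mul_assoc]; exact hzab
    have h2 : z⁻¹ = a * b := inv_eq_of_mul_eq_one_right h1
    rw [← h2, hz.inv h]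
  have hab' : a ≠ b := by
    rintro rfl
    exact hz.z1 h (by rw [← e1]; exact ha2)
  obtain ⟨H, _, _, φ, s⟩ := sz.sec
  obtain ⟨P, hP⟩ : ∃ P : Fin 4 → Subgroup G, P = ![A, A', B, B'] := ⟨_, rfl⟩
  have hPB : ∀ i, P i ∈ Bz := by
    rw [hP]; intro i
    fin_cases i
    · exact za A hA
    · exact za A' hA'
    · exact zb B hB
    · exact zb B' hB'
  have hAB : ∀ {L : Subgroup G}, Mem Om a L → ∀ {L' : Subgroup G}, Mem Om b L' → L ≠ L' := by
    rintro L hL L' hL' rfl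
    exact hab' (hL.2.symm.trans hL'.2)
  have hinj : Function.Injective P := by
    rw [hP]
    intro i j hij
    fin_cases i <;> fin_cases j <;> first
      | rfl
      | exact absurd hij hAA
      | exact absurd hij hAA.symm
      | exact absurd hij hBB
      | exact absurd hij hBB.symm
      | exact absurd hij (hAB hA hB)
      | exact absurd hij (hAB hA hB')
      | exact absurd hij (hAB hA' hB)
      | exact absurd hij (hAB hA' hB')
      | exact absurd hij (hAB hA hB).symm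
      | exact absurd hij (hAB hA hB').symm
      | exact absurd hij (hAB hA' hB).symm
      | exact absurd hij (hAB hA' hB').symm
  have haC : a ∈ centralizer ({z} : Set G) :=
    mem_centralizer_singleton_iff.2 (cza Z hZ A hA z (hZ.zmem h) a (hA.zmem h)).symm
  have hbC : b ∈ centralizer ({z} : Set G) :=
    mem_centralizer_singleton_iff.2 (czb Z hZ B hB z (hZ.zmem h) b (hB.zmem h)).symm
  have hzC : z ∈ centralizer ({z} : Set G) := mem_centralizer_singleton_iff.2 rfl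
  have hφz : φ ⟨z, hzC⟩ = 1 := s.ker' _ fun x hx => by
    have h1 : sSup Bz ≤ centralizer ({z} : Set G) := sSup_le s.le
    exact (mem_centralizer_singleton_iff.1 (h1 hx)).symm
  have hφa : φ ⟨a, haC⟩ = φ ⟨b, hbC⟩ := by
    have h1 : (⟨a, haC⟩ : ↥(centralizer ({z} : Set G))) = ⟨z, hzC⟩ * ⟨b, hbC⟩ := by
      refine Subtype.ext ?_
      change a = z * b
      rw [← e1, mul_assoc, hb2, mul_one]
    rw [h1, map_mul, hφz, one_mul]
  have hPz : ∀ i, ∀ y : ↥(centralizer ({z} : Set G)), (y : G) = zz (P i) → φ y = φ ⟨b, hbC⟩ := by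
    intro i y hy
    have h1 : zz (P i) = a ∨ zz (P i) = b := by
      rw [hP]
      fin_cases i
      · exact Or.inl hA.2
      · exact Or.inl hA'.2
      · exact Or.inr hB.2
      · exact Or.inr hB'.2
    rcases h1 with h1 | h1
    · rw [← hφa]
      exact congrArg φ (Subtype.ext (hy.trans h1))
    · exact congrArg φ (Subtype.ext (hy.trans h1))
  obtain ⟨w, hwB, -, hwP, hcase⟩ := s.stepOne hPB hinj hPz
  have p0 : P 0 = A := by rw [hP]; rfl
  have p1 : P 1 = A' := by rw [hP]; rfl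
  have p2 : P 2 = B := by rw [hP]; rfl
  have p3 : P 3 = B' := by rw [hP]; rfl
  rw [p0, p1, p2, p3, hA.2, hA'.2, hB.2, hB'.2] at hcase
  have hwa : w * a = a * w := hA.of_cj h (by rw [← p0]; exact hwP 0)
  have hwb : w * b = b * w := hB.of_cj h (by rw [← p2]; exact hwP 2)
  have oa := ha.orderOf h
  have ob := hb.orderOf h
  rcases hcase with ⟨hr, hn⟩ | ⟨hr, hn⟩ | ⟨hr, hn⟩ | ⟨hr, hn⟩
  · exact false_of_block h (c1.symm.trans e1) c1.symm sz.cen sb (core b ob) (n3 b hb) (hb.z1 h) cza cab hb hz bz ba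
      hA hA' hAA hwB hwb hr hn
  · exact false_of_block h (c1.symm.trans e1) c1.symm sz.cen sb (core b ob) (n3 b hb) (hb.z1 h) cza cab hb hz bz ba
      hA' hA hAA.symm hwB hwb hr hn
  · exact false_of_block h e1 c1 sz.cen sa (core a oa) (n3 a ha) (ha.z1 h) czb cab.symm ha hz az ab
      hB hB' hBB hwB hwa hr hn
  · exact false_of_block h e1 c1 sz.cen sa (core a oa) (n3 a ha) (ha.z1 h) czb cab.symm ha hz az ab
      hB' hB hBB.symm hwB hwa hr hn

end Cfsg.Agent.Cit.Nil.CompR.M3
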