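import Cfsg.Agent.Cit.Nil.CompR.QuoM
import Cfsg.Agent.Cit.Nil.CompR.MThreeG
import Cfsg.Agent.Cit.Nil.RTwo.Asm

/-!
# S1309 (n6), `r = 2`, `AllOne`, (M3): the sections of the block worlds (helper386, over helper981's `MThreeG`)

* `Bz Ω z` : the members over the C-partners of `z`; `im_eq` : its images are `img f (OmB Ω z)`;
* **`BlkC.sec`** : `Sec Ω z (Bz Ω z)`;
* **`false_of_tri3`** : `AllOne` with a 3-clique is impossible.
-/

set_option autoImplicit false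
set_option linter.style.haveILetI false
set_option linter.unusedSectionVars false

namespace Cfsg.Agent.Cit.Nil.CompR

open Subgroup Cfsg Cfsg.Agent.Cit
open Cfsg.Agent.Cit.Nil.ROne (CP FSimp)
open RG (WR Ov RR)
open RTwoM.Quo (QM QT)
open RFour.M3 (SecH)

universe u

/-- the members over the C-partners of `z` -/
def Bz {G : Type*} [Group G] (Ω : Set (Subgroup G)) (z : G) : Set (Subgroup G) := {L | L ∈ Ω ∧ RG.CP Ω z (zz L)}

namespace BlkC

variable {G : Type u} [Group G] [Finite G] {Ω : Set (Subgroup G)} {K L M : Subgroup G} {z u v x y g s a b c : G}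
  {A B : Subgroup ↥(centralizer ({z} : Set G))}

variable (β : BlkC Ω z)

include β

theorem sub_mem (hL : L ∈ Bz Ω z) : L ≤ centralizer {z} ∧ L.subgroupOf (centralizer {z}) ∈ OmB Ω z ∧
    (L.subgroupOf (centralizer {z})).map (centralizer {z}).subtype = L :=
  ⟨le_of_cp β.wr0 β.hz hL.1 hL.2, mem_OmB β.wr0 β.hz hL.1 hL.2,
    map_subgroupOf_eq_of_le (le_of_cp β.wr0 β.hz hL.1 hL.2)⟩

theorem im_eq {H : Type*} [Group H] (f : ↥(centralizer ({z} : Set G)) →* H) :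
    RFour.M3.Im (centralizer {z}) (Bz Ω z) f = img f (OmB Ω z) := by
  ext P
  constructor
  · rintro ⟨L, hL, rfl⟩
    exact ⟨_, (β.sub_mem hL).2.1, rfl⟩
  · rintro ⟨A, hA, rfl⟩
    exact ⟨A.map (centralizer {z}).subtype, ⟨hA.1, hA.2⟩, by rw [← OmB_eq A]⟩

/-- the section as `SecH` -/
theorem secH {H : Type*} [Group H] {f : ↥(centralizer ({z} : Set G)) →* H} (hf : f.ker = NC (OmB Ω z))
    (w4 : RFour.W4 (img f (OmB Ω z)))
    (nc : ∀ z', RFour.InZ (img f (OmB Ω z)) z' → ∃ t t', RFour.TI (img f (OmB Ω z)) z' t ∧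
      RFour.TI (img f (OmB Ω z)) z' t' ∧ t * t' ≠ t' * t) :
    SecH (centralizer ({z} : Set G)) (Bz Ω z) f where
  le L hL := (β.sub_mem hL).1
  conj L hL g hg := by
    refine ⟨β.wr0.conj L hL.1 g, ?_⟩
    rw [β.wr0.zcj hL.1]
    have h1 := β.wr0.CP_cj hL.2 g
    rwa [mem_centralizer_singleton_iff.1 hg, mul_inv_cancel_right] at h1
  ker g hg x hx := by
    have h1 : g ∈ NC (OmB Ω z) := by rw [← hf]; exact hg
    have h2 : sSup (Bz Ω z) ≤ centralizer {(g : G)} := by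
      refine sSup_le fun L hL l hl => ?_
      rw [mem_centralizer_singleton_iff]
      exact (congrArg Subtype.val (mem_NC.1 h1 _ (β.sub_mem hL).2.1 ⟨l, (β.sub_mem hL).1 hl⟩ hl)).symm
    exact (mem_centralizer_singleton_iff.1 (h2 hx)).symm
  ker' g hg := by
    rw [← MonoidHom.mem_ker, hf, mem_NC]
    intro A hA a ha
    apply Subtype.ext
    have h1 : A.map (centralizer {z}).subtype ∈ Bz Ω z := ⟨hA.1, hA.2⟩
    have h2 : A.map (centralizer {z}).subtype ≤ sSup (Bz Ω z) := le_sSup h1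
    exact hg _ (h2 ⟨a, ha, rfl⟩)
  inf L hL x hx hfx := β.bq.inf_NC (β.sub_mem hL).2.1 hx (by rw [← hf]; exact hfx)
  inj L hL L' hL' h := by
    have h1 := β.bq.map_inj hf (β.sub_mem hL).2.1 (β.sub_mem hL').2.1 h
    rw [← (β.sub_mem hL).2.2, ← (β.sub_mem hL').2.2, h1]
  zz L hL x hx := by
    rw [β.bq.zz_map hf (β.sub_mem hL).2.1]
    congr 1
    apply Subtype.ext
    rw [zzB β.t0.hyp (β.sub_mem hL).2.1, (β.sub_mem hL).2.2, hx]
  zc L hL := β.wr0.zm hL.1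
  w4 := by rw [β.im_eq]; exact w4
  nc z' hz' := by
    rw [β.im_eq] at hz' ⊢
    exact nc z' hz'

/-- **the section of `C(z)`** -/
theorem sec (i : RTwo.LIn.{u}) (hev : ∀ (G : Type u) [Group G] [Finite G], Comp.EvQ G) (tri : Tri (RG.ZZ Ω) (RR Ω))
    (h2 : ∀ u ∈ RG.ZZ Ω, (Ov Ω u).ncard = 2) (c3 : ∀ L ∈ Ω, Nil.C3 L) : M3.Sec Ω z (Bz Ω z) where
  sub L hL := hL.1
  sec := by
    haveI hn : (NC (OmB Ω z)).Normal := ⟨fun n hn g => NC_conj β.wr hn g⟩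
    obtain ⟨f, hf⟩ : ∃ f : ↥(centralizer ({z} : Set G)) →* ↥(centralizer ({z} : Set G)) ⧸ NC (OmB Ω z),
        f = QuotientGroup.mk' _ := ⟨_, rfl⟩
    have hs : Function.Surjective f := by rw [hf]; exact QuotientGroup.mk'_surjective _
    have hk : f.ker = NC (OmB Ω z) := by rw [hf]; exact QuotientGroup.ker_mk' _
    refine ⟨_, inferInstance, inferInstance, f, ?_⟩
    have w4 := β.w4 hs hk tri h2
    obtain ⟨A, hA⟩ := β.exists_OmB
    obtain ⟨X, fs, -, h2X⟩ := (β.qt hs hk).fsimp hev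
    haveI := fs.sim
    obtain ⟨-, nc⟩ := RFour.M3.world w4 fs h2X (K := A.map f) ⟨A, hA, rfl⟩ (β.c3_tri_img hk hA (c3 _ hA.1))
      (fun S A h1 h2 h3 => i.gold _ S A h1 h2 h3) (i.bend _)
    exact β.secH hk w4 nc
  cen L hL K hK l hl k hk := (hL.2.2 K ⟨hK.1, hK.2⟩ L ⟨hL.1, rfl⟩ k hk l hl).symm

end BlkC

/-- **`AllOne` with a 3-clique is impossible** -/
theorem false_of_tri3 {G : Type u} [Group G] [Finite G] {Ω : Set (Subgroup G)} (i : RTwo.LIn.{u})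
    (hev : ∀ (G : Type u) [Group G] [Finite G], Comp.EvQ G) (h : RTwoM.WM Ω) (blk : ∀ z ∈ RG.ZZ Ω, BlkC Ω z)
    (h2 : ∀ u ∈ RG.ZZ Ω, (Ov Ω u).ncard = 2) (c3 : ∀ L ∈ Ω, Nil.C3 L) (hn : ¬ No3 (RG.ZZ Ω) (RR Ω)) (hne : (RG.ZZ Ω).Nonempty)
    (core : ∀ t, orderOf t = 2 → Cfsg.pPrimeCore 2 ↥(centralizer ({t} : Set G)) = ⊥)
    (n3 : ∀ t ∈ RG.ZZ Ω, ∀ L ∈ restr Ω (centralizer ({t} : Set G)), ¬ IndDefs.Three L) : False := by
  obtain ⟨z, hz⟩ := hne
  have β := blk z hz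
  have tri := tri_of β.gw β.ao hn
  obtain ⟨a, ha, hca⟩ := β.ex
  have hca' : CP (RR Ω) z a := (cp_iff_wr β.wr0).2 hca
  obtain ⟨hb, t2, t3⟩ := tri z hz a ha hca'
  obtain ⟨b, hbe⟩ : ∃ b, b = z * a := ⟨_, rfl⟩
  rw [← hbe] at hb t2 t3
  have zzc := β.gw.comm_of_cp hz ha hca'
  have hzab : z * a * b = 1 := by
    rw [hbe]
    calc z * a * (z * a) = z * (a * z) * a := by group
      _ = z * (z * a) * a := by rw [zzc]
      _ = (z * z) * (a * a) := by group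
      _ = 1 := by rw [β.gw.sq z hz, β.gw.sq a ha, one_mul]
  have cm : ∀ {x y : G}, CP (RR Ω) x y → M3.Cm Ω x y := fun hc K hK L hL k hk l hl =>
    ((cp_iff_wr β.wr0).1 hc).2 K hK L hL k hk l hl
  have mem : ∀ {x y : G}, CP (RR Ω) x y → ∀ L, RTwoM.Mem Ω y L → L ∈ Bz Ω x := fun hc L hL =>
    ⟨hL.1, by rw [hL.2]; exact (cp_iff_wr β.wr0).1 hc⟩
  exact M3.false_of_tri h hzab hz ha hb (cm hca') (cm t2) (cm t3) (β.sec i hev tri h2 c3)
    ((blk a ha).sec i hev tri h2 c3) ((blk b hb).sec i hev tri h2 c3) (mem hca') (mem t2) (mem hca'.symm) (mem t3)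
    (mem t2.symm) (mem t3.symm) core n3

end Cfsg.Agent.Cit.Nil.CompR
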