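import Cfsg.Agent.Cit.Nil.CompR.SecMap
import Cfsg.Agent.Cit.Nil.CVT.KLOf
import Cfsg.Agent.Cit.Nil.RTwo.Three
import Cfsg.Agent.Cit.Nil.RTwo.SDich
import Cfsg.Agent.Cit.Nil.Ind.Red

/-!
# S1309 (n6), COMP, `r = 2`, the section of a block: `B / Z(B)` is a world (S)

`B = ⟨Om⟩`, `W2 Om`, `O(B) = 1`, `Om` connected, not nil: `F*(B/Z(B))` is simple, all cores of centralisers of
involutions of `B/Z(B)` are trivial (818's `CVT.KLOf.false_of_core`), and `main_three_top` applies.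

* `SecIn` : the inputs;
* `fsimp_quo` : `F*(B/Z(B))` simple;
* `sw_quo` : `SW (img f Om)`.
-/

set_option autoImplicit false
set_option linter.style.haveILetI false
set_option linter.unusedSectionVars false

namespace Cfsg.Agent.Cit.Nil.CompR

open Subgroup Cfsg Cfsg.Agent.Cit Cfsg.Agent.Cit.Nil.RTwo
open IndDefs (T0 comp Adj NIL)

universe u

/-- the inputs -/
structure SecIn : Prop where
  lin : LIn.{u}
  hev : ∀ (G : Type u) [Group G] [Finite G], Comp.EvQ G
  hT : TStmt.{u}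
  hC : LO.ChartOut.{u}
  hC2 : LO.ChartOut2.{u}
  h1311 : ∀ (G : Type u) [Group G] [Finite G], AssemblyNil.FS G → AssemblyNil.St1311 G

variable {G : Type u} [Group G] [Finite G] {Om : Set (Subgroup G)} {K L : Subgroup G} {z t : G}

/-- `F*(B/Z(B))` is simple -/
theorem fsimp_quo (hev : ∀ (G : Type u) [Group G] [Finite G], Comp.EvQ G) (t0 : T0 Om) (top : sSup Om = ⊤)
    (conn : ∀ K ∈ Om, ∀ L ∈ Om, L ∈ comp Om K) (hK : K ∈ Om) (hN : ¬ NIL K) :
    pCore 2 G = center G ∧ (∀ J ∈ Om, zz J ∉ center G) ∧ ∃ X : Subgroup (G ⧸ center G), ROne.FSimp X ∧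
      ∀ J ∈ Om, (QuotientGroup.mk' (center G)) (zz J) ∈ X := by
  haveI : Fact (Nat.Prime 2) := ⟨Nat.prime_two⟩
  obtain ⟨hZ, L, hL, hN, huni, hzL, hz⟩ := Ind.Red.exists_comp t0 top conn (hev G) (hev (G ⧸ center G)) hK hN
  refine ⟨hZ, hz, ?_⟩
  obtain ⟨f, hfd⟩ : ∃ f : G →* G ⧸ center G, f = QuotientGroup.mk' (center G) := ⟨_, rfl⟩
  rw [← hfd]
  have hf : Function.Surjective f := by rw [hfd]; exact QuotientGroup.mk'_surjective _
  have hfk : f.ker = center G := by rw [hfd]; exact QuotientGroup.ker_mk' _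
  have hC : f.ker ≤ center G := hfk.le
  have hCL : centralizer (L : Set G) = center G := Ind.centralizer_eq huni t0.core hZ
  have hperf : Group.IsPerfect L := hL.2.1
  have hCL' : centralizer ((L.map f : Subgroup (G ⧸ center G)) : Set (G ⧸ center G)) = ⊥ := by
    rw [eq_bot_iff]
    intro w hw
    obtain ⟨g, rfl⟩ := hf w
    obtain ⟨X, hX⟩ : ∃ X : Subgroup G, X = (centralizer ((L.map f : Subgroup (G ⧸ center G)) : Set (G ⧸ center G))).comap f :=
      ⟨_, rfl⟩
    have hgX : g ∈ X := by rw [hX]; exact hw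
    have h1 : ⁅X, L⁆ ≤ f.ker := by
      rw [commutator_le]
      intro y hy l hl
      rw [hX, mem_comap, mem_centralizer_iff] at hy
      have h3 := hy (f l) ⟨l, hl, rfl⟩
      rw [MonoidHom.mem_ker, commutatorElement_def, map_mul, map_mul, map_mul, ← h3, map_inv, map_inv]
      group
    have h3 : ⁅⁅X, L⁆, L⁆ = ⊥ := by
      rw [commutator_eq_bot_iff_le_centralizer]
      intro y hy
      rw [mem_centralizer_iff]
      intro l _
      exact mem_center_iff.1 (hC (h1 hy)) l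
    have h4 := SignalizersComponents.Components.commutator_eq_bot_of_commutator_commutator_eq_bot hperf h3
    rw [commutator_eq_bot_iff_le_centralizer, hCL, ← hfk] at h4
    exact MonoidHom.mem_ker.1 (h4 hgX)
  have hLn : (L.map f).Normal := hN.map f hf
  obtain ⟨g, hg⟩ : ∃ g : ↥L →* ↥(L.map f), g = f.subgroupMap L := ⟨_, rfl⟩
  have hgs : Function.Surjective g := by rw [hg]; exact f.subgroupMap_surjective L
  have hgk : g.ker = center ↥L := by
    ext y
    rw [MonoidHom.mem_ker, mem_center_iff, hg]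
    constructor
    · intro h1 w
      have h3 : (y : G) ∈ f.ker := congrArg Subtype.val h1
      exact Subtype.ext (mem_center_iff.1 (hC h3) w)
    · intro h1
      have h3 : (y : G) ∈ centralizer (L : Set G) := by
        rw [mem_centralizer_iff]
        intro w hw
        exact congrArg Subtype.val (h1 ⟨w, hw⟩)
      rw [hCL, ← hfk] at h3
      exact Subtype.ext (MonoidHom.mem_ker.1 h3)
  have hsimp : IsSimpleGroup ↥(L.map f) := by
    have hs : IsSimpleGroup (↥L ⧸ center ↥L) := hL.2.2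
    have e : ↥(L.map f) ≃* ↥L ⧸ center ↥L :=
      ((QuotientGroup.quotientMulEquivOfEq hgk).symm.trans (QuotientGroup.quotientKerEquivOfSurjective g hgs)).symm
    exact e.isSimpleGroup
  refine ⟨L.map f, ⟨hLn, hsimp, ?_, hCL'⟩, fun J hJ => ⟨_, hzL J hJ, rfl⟩⟩
  intro hcm
  have h1 : L.map f ≤ centralizer ((L.map f : Subgroup (G ⧸ center G)) : Set (G ⧸ center G)) := by
    intro a ha
    rw [mem_centralizer_iff]
    intro b hb
    exact hcm b hb a ha
  rw [hCL', le_bot_iff] at h1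
  have h3 : Nontrivial ↥(L.map f) := hsimp.toNontrivial
  rw [h1] at h3
  exact not_nontrivial _ h3

/-- `B/Z(B)` is a world (S) -/
theorem sw_quo (i : SecIn.{u}) (h : W2 Om) (core : pPrimeCore 2 G = ⊥) (top : sSup Om = ⊤)
    (conn : ∀ K ∈ Om, ∀ L ∈ Om, L ∈ comp Om K) (hN : ∀ K ∈ Om, ¬ NIL K)
    (hti : (∃ z t, TI Om z t) → Rot Om)
    (hpr : (TO (img (QuotientGroup.mk' (center G)) Om)) → CF (img (QuotientGroup.mk' (center G)) Om) →
      Rot (img (QuotientGroup.mk' (center G)) Om))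
    (hrot : Rot Om → Rot (img (QuotientGroup.mk' (center G)) Om))
    (hcls : OneCls (img (QuotientGroup.mk' (center G)) Om)) (hne : Om.Nonempty)
    (h3 : ∀ K ∈ Om, ¬ IndDefs.Three K) :
    IsPGroup 2 (center G) ∧ WMap (QuotientGroup.mk' (center G)) Om (img (QuotientGroup.mk' (center G)) Om) ∧
      SW (img (QuotientGroup.mk' (center G)) Om) := by
  haveI : Fact (Nat.Prime 2) := ⟨Nat.prime_two⟩
  obtain ⟨K, hK⟩ := hne
  have t0 : T0 Om := ⟨h.hyp, h.card, core⟩
  obtain ⟨hZ, hz, X, fX, hzX⟩ := fsimp_quo i.hev t0 top conn hK (hN K hK)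
  obtain ⟨f, hfd⟩ : ∃ f : G →* G ⧸ center G, f = QuotientGroup.mk' (center G) := ⟨_, rfl⟩
  rw [← hfd] at hpr hrot hcls hzX ⊢
  have hf : Function.Surjective f := by rw [hfd]; exact QuotientGroup.mk'_surjective _
  have hfk : f.ker = center G := by rw [hfd]; exact QuotientGroup.ker_mk' _
  have m : WMap f Om (img f Om) := WMap.of_central h hf hfk.le (fun J hJ => by rw [hfk]; exact hz J hJ)
  have h2 : IsPGroup 2 (center G) := by rw [← hZ]; exact Lib.Cores.pCore_isPGroup 2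
  refine ⟨h2, m, ?_⟩
  have h8 : Three.H8 Om := ⟨h.hyp, h.card⟩
  have mK : Mem Om (zz K) K := ⟨hK, rfl⟩
  have mK' := m.mem mK
  obtain ⟨L', hL', hne', -⟩ := mK'.other m.w2
  have hord := mK'.inZ.orderOf m.w2
  have hX2 : 2 ∣ Nat.card X := by
    have h5 : orderOf (⟨f (zz K), hzX K hK⟩ : X) = 2 := by rw [← Subgroup.orderOf_coe]; exact hord
    rw [← h5]; exact orderOf_dvd_natCard _
  have fs := CVT.KLOf.fs_of fX hX2
  have hF : CFA (G ⧸ center G) := by
    intro j hj hj1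
    by_contra hO
    exact CVT.KLOf.false_of_core i.hT i.hC i.hC2 fs (i.h1311 _ fs) (Om := img f Om)
      ⟨m.w2.hyp, fun K hK => m.w2.isPGroup hK⟩ mK'.1 hL'.1
      (fun x hx y hy => mK'.comm hL' m.w2 hne' hx hy)
      (orderOf_eq_prime (by rw [pow_two]; exact hj) hj1) hO
  have cf := hF.cf m.w2
  have htop : sSup (img f Om) = ⊤ := by
    rw [eq_top_iff]
    intro w _
    obtain ⟨g, rfl⟩ := hf w
    have h1 : (⊤ : Subgroup G) ≤ (sSup (img f Om)).comap f := by
      rw [← top]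
      refine sSup_le fun K hK => ?_
      rw [← map_le_iff_le_comap]
      exact le_sSup ⟨K, hK, rfl⟩
    exact h1 (mem_top g)
  have hr : Rot (img f Om) := by
    by_cases hT : TO (img f Om)
    · exact hpr hT cf
    · unfold TO at hT
      push Not at hT
      obtain ⟨z', t', hz', ht', hi, hne⟩ := hT
      obtain ⟨z, hz1, rfl⟩ := m.lift_inZ hz'
      obtain ⟨t, ht1, rfl⟩ := m.lift_inZ ht'
      exact hrot (hti ⟨z, t, m.ti_up hz1 ht1 ⟨hz', ht', hne.symm, (hi.comm_z hz' m.w2).symm, hi⟩⟩)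
  rcases main_three_top i.lin m.w2 hcls hr hF ⟨_, mK'.1⟩ fX hX2 htop with h1 | h1
  · exfalso
    obtain ⟨_, ⟨J, hJ, rfl⟩, h4⟩ := h1
    exact h3 J hJ (Ind.three_lift h8 hf hfk.le (by rw [hfk]; exact h2) m.inf hJ h4)
  · exact h1

end Cfsg.Agent.Cit.Nil.CompR
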