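import Cfsg.Agent.Cit.Nil.CompR.MTwoEnd
import Cfsg.Agent.Cit.Nil.CompR.MThreeSec
import Cfsg.Agent.Cit.Nil.CompR.SecQuo
import Cfsg.Agent.Cit.Nil.RTwoM.NodeTwo
import Cfsg.Agent.Cit.Nil.LO.CoreTwo

/-!
# S1309 (n6), `r = 2`: the branch `AllOne` (helper386)

* `aoIn2_of` : the inputs from `SecIn`;
* **`AOW.frame_all`** : every point lies in a frame;
* **`aoTwoStmt`** : `NodeTwo.AOTwoStmt` from `NodeTwo.FrTwoStmt`.
-/

set_option autoImplicit false
set_option linter.style.haveILetI false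
set_option linter.unusedSectionVars false

namespace Cfsg.Agent.Cit.Nil.CompR

open Subgroup Cfsg Cfsg.Agent.Cit
open Cfsg.Agent.Cit.Nil.ROne (CP)
open RG (WR Ov RR)

universe u

/-- the inputs -/
theorem aoIn2_of (i : SecIn.{u}) : AOIn2.{u} where
  lin := i.lin
  hev := i.hev
  cfa := fun _ _ _ _ f h2 _ h card _ hK _ hL hne hz =>
    LO.cfa_of_two i.hT i.hC i.hC2 i.h1311 f h2 h card hK hL hne hz

namespace AOW

variable {G : Type u} [Group G] [Finite G] {K L M : Subgroup G} {z u v a b g : G} (m : AOW G K)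

include m

/-- (C3) for all members -/
theorem c3_all : ∀ L ∈ cls K, Nil.C3 L := by
  rintro _ ⟨g, rfl⟩
  exact ROne.c3_cj m.c3 g

/-- **no 3-clique** -/
theorem no3 (i : AOIn2.{u}) : No3 (RG.ZZ (cls K)) (RR (cls K)) := by
  by_contra hn
  refine false_of_tri3 i.lin i.hev
    (RTwoM.WM.of_ncard m.w.t0.hyp (m.w.t0.card K (self_mem_cls K)) m.h2) (fun z hz => m.blk hz) m.ov2
    m.c3_all hn ⟨zz K, K, self_mem_cls K, rfl⟩ (fun t ht => core_cen m.core ht) fun t ht => m.not_three ht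

/-- **every point lies in a frame** -/
theorem frame_all (i : AOIn2.{u}) :
    ∀ z ∈ RG.ZZ (cls K), ∃ F, Frm (RG.ZZ (cls K)) (RR (cls K)) F ∧ ∃ A ∈ F, z ∈ A :=
  m.frame i (m.no3 i)

end AOW

/-- **the branch `AllOne`** -/
theorem aoTwoStmt (i : SecIn.{u}) (fr : NodeTwo.FrTwoStmt.{u}) : NodeTwo.AOTwoStmt.{u} :=
  fun G _ _ K w h2 tp n3 ao => fr G K w h2 tp n3 (AOW.frame_all ⟨w.scw, w.free, w.c3, n3, h2, ao⟩ (aoIn2_of i))

end Cfsg.Agent.Cit.Nil.CompR
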