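import Cfsg.Agent.Cit.Nil.RTwo.BThree
import Cfsg.Agent.Cit.Nil.RTwoM.AN.QuoA

/-!
# Lifting from the quotient world, `r = 2`, `m = 1`

`Om` : a world `W2` over `M`, `f : M →* Y` with `QM Om f` (kernel = centraliser of the members).

* `QM.w2` : the images form a world `W2`;
* `QM.pt_inj`, `QM.exists_pt`, `QM.comm_lift`, `QM.fx_lift`, `QM.inn_lift`, `QM.ti_lift` : points, commuting, type I;
* `QM.fx_map`, `QM.inn_map`, `QM.ti_map` : the converses;
* **`QM.bth_lift`** : `BTh (img f Om) (f a)` implies `BTh Om a`.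
-/

set_option autoImplicit false
set_option linter.style.haveILetI false
set_option linter.unusedSectionVars false

namespace Cfsg.Agent.Cit.Nil.RTwoM.Quo.QM

open Subgroup Cfsg Cit IndDefs RTwo

variable {M Y : Type*} [Group M] [Group Y] [Finite M] {Om : Set (Subgroup M)} {K L : Subgroup M} {f : M →* Y}
  (q : QM Om f) (h : W2 Om) {a g x y : M}

include q h

/-- the points of `M` inject -/
theorem pt_inj (hx : InZ Om x) (hy : InZ Om y) (e : f x = f y) : x = y := by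
  obtain ⟨K, hK, rfl⟩ := hx
  obtain ⟨L, hL, rfl⟩ := hy
  rcases q.fib hK hL e with h1 | h1
  · rw [h1]
  · exact h.one K hK L hL h1

/-- the images form a world `W2` -/
theorem w2 : W2 (img f Om) where
  hyp := q.hyp_img
  card := by
    rintro _ ⟨K, hK, rfl⟩
    exact q.card_map hK
  two := by
    rintro _ ⟨K, hK, rfl⟩
    obtain ⟨L, hL, hne, hz, hall⟩ := h.two K hK
    refine ⟨L.map f, ⟨L, hL, rfl⟩, fun e => hne (q.map_inj hL hK (by rw [e])), ?_, ?_⟩
    · rw [q.zz_map hK, q.zz_map hL, hz]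
    · rintro _ ⟨N, hN, rfl⟩ e
      rw [q.zz_map hK, q.zz_map hN] at e
      have h1 : zz N = zz K := q.pt_inj h ⟨N, hN, rfl⟩ ⟨K, hK, rfl⟩ e
      rcases hall N hN h1 with h2 | h2
      · left; rw [h2]
      · right; rw [h2]
  one := by
    rintro _ ⟨K, hK, rfl⟩ _ ⟨L, hL, rfl⟩ hc
    rw [q.zz_map hK, q.zz_map hL, h.one K hK L hL (q.cm_lift hK hc)]

omit h in
theorem mem_map (hK : Mem Om x K) : Mem (img f Om) (f x) (K.map f) :=
  ⟨⟨K, hK.1, rfl⟩, by rw [q.zz_map hK.1, hK.2]⟩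

omit h in
theorem inZ_map (hx : InZ Om x) : InZ (img f Om) (f x) := by
  obtain ⟨K, hK⟩ := hx
  exact ⟨_, q.mem_map hK⟩

/-- the members over an image -/
theorem exists_mem (hx : InZ Om x) {A : Subgroup Y} (hA : Mem (img f Om) (f x) A) : ∃ K, Mem Om x K ∧ A = K.map f := by
  obtain ⟨⟨K, hK, rfl⟩, h1⟩ := hA
  rw [q.zz_map hK] at h1
  exact ⟨K, ⟨hK, q.pt_inj h ⟨K, hK, rfl⟩ hx h1⟩, rfl⟩

omit h in
theorem exists_pt {w : Y} (hw : InZ (img f Om) w) : ∃ x, InZ Om x ∧ f x = w := by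
  obtain ⟨_, ⟨K, hK, rfl⟩, rfl⟩ := hw
  exact ⟨zz K, ⟨K, hK, rfl⟩, by rw [q.zz_map hK]⟩

/-- (Q) -/
theorem comm_lift (hx : InZ Om x) (e : f g * f x = f x * f g) : g * x = x * g := by
  have h1 : f (g * x * g⁻¹) = f x := by
    rw [map_mul, map_mul, map_inv, e, mul_inv_cancel_right]
  have h2 := q.pt_inj h (hx.conj h g) hx h1
  rwa [mul_inv_eq_iff_eq_mul] at h2

omit h in
theorem fx_lift (hf : Fx (img f Om) (f x) (f g)) : Fx Om x g := by
  intro K hK
  exact q.cj_lift hK.1 hK.1 (hf _ (q.mem_map hK))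

theorem fx_map (hx : InZ Om x) (hf : Fx Om x g) : Fx (img f Om) (f x) (f g) := by
  intro A hA
  obtain ⟨K, hK, rfl⟩ := q.exists_mem h hx hA
  rw [← cj_map, hf K hK]

theorem inn_lift (hi : Inn (img f Om) (f x) (f g)) : Inn Om x g := by
  haveI : Finite Y := Finite.of_surjective f q.surj
  have h1 : Fx Om x g := q.fx_lift (hi.fx (q.w2 h))
  intro K hK k hk
  have h2 : g * k * g⁻¹ ∈ K := by
    have := conj_mem_cj (g := g) hk
    rwa [h1 K hK] at this
  rcases hi _ (q.mem_map hK) (f k) ⟨k, hk, rfl⟩ with h3 | h3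
  · left
    have h4 : f (g * k * g⁻¹ * k⁻¹) = 1 := by
      rw [map_mul, map_mul, map_mul, map_inv, map_inv, h3, mul_inv_cancel]
    exact mul_inv_eq_one.1 (q.inj hK.1 (mul_mem h2 (inv_mem hk)) h4)
  · right
    have h4 : f (g * k * g⁻¹ * (x * k)⁻¹) = 1 := by
      rw [map_mul, map_mul, map_mul, map_inv, map_inv, h3, map_mul, mul_inv_cancel]
    have hx : x ∈ K := by rw [← hK.2]; exact q.hyp.zz_mem hK.1
    exact mul_inv_eq_one.1 (q.inj hK.1 (mul_mem h2 (inv_mem (mul_mem hx hk))) h4)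

theorem inn_map (hx : InZ Om x) (hi : Inn Om x g) : Inn (img f Om) (f x) (f g) := by
  intro A hA
  obtain ⟨K, hK, rfl⟩ := q.exists_mem h hx hA
  rintro _ ⟨k, hk, rfl⟩
  rcases hi K hK k hk with h1 | h1
  · left; rw [← map_inv, ← map_mul, ← map_mul, h1]
  · right; rw [← map_inv, ← map_mul, ← map_mul, h1, map_mul]

theorem ti_lift (hx : InZ Om x) (hy : InZ Om y) (ht : TI (img f Om) (f x) (f y)) : TI Om x y :=
  ⟨hx, hy, fun e => ht.2.2.1 (by rw [e]), q.comm_lift h hy ht.2.2.2.1, q.inn_lift h ht.2.2.2.2⟩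

theorem ti_map (ht : TI Om x y) : TI (img f Om) (f x) (f y) :=
  ⟨q.inZ_map ht.1, q.inZ_map ht.2.1, fun e => ht.2.2.1 (q.pt_inj h ht.1 ht.2.1 e), by
    rw [← map_mul, ht.2.2.2.1, map_mul], q.inn_map h ht.1 ht.2.2.2.2⟩

/-- **(b3) lifts** -/
theorem bth_lift (ha : InZ Om a) (hb : BTh (img f Om) (f a)) : BTh Om a := by
  haveI : Finite Y := Finite.of_surjective f q.surj
  obtain ⟨s, t, b⟩ := hb
  obtain ⟨x, hx, rfl⟩ := q.exists_pt b.ts.2.1
  obtain ⟨y, hy, rfl⟩ := q.exists_pt b.tt.2.1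
  have hxy : x * y = y * x := q.comm_lift h hy b.comm
  have hfx : Fx Om x y := q.fx_lift b.fx
  have hne : x ≠ y := by
    rintro rfl
    have h1 := b.st.2.1
    rw [b.ts.2.1.z2 (q.w2 h)] at h1
    exact h1.z1 (q.w2 h) rfl
  have hxyZ : InZ Om (x * y) := by
    by_contra hn
    obtain ⟨K, hK⟩ := hx
    exact (pr_of_not h ⟨K, hK⟩ hy hne hxy hn).sw K hK (hfx K hK)
  refine ⟨x, y, q.ti_lift h ha hx b.ts, q.ti_lift h ha hy b.tt, q.ti_lift h ha hxyZ ?_, hxy, hfx⟩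
  rw [map_mul]
  exact b.st

end Cfsg.Agent.Cit.Nil.RTwoM.Quo.QM
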