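import Cfsg.Agent.Cit.Nil.RTwo.CGraph
import Cfsg.Agent.Cit.Nil.RTwo.InnerMain
import Cfsg.Agent.Cit.Nil.CompR.BThLift
import Cfsg.Agent.Cit.Nil.CompR.MTwoA
import Cfsg.Agent.Cit.Nil.CompR.TPm

/-!
# S1309 (n6), COMP, `r = 2`, (M2), (b4) of helper386's proof (bb R18 #20410): the lift

`Cnn Om` : the commuting graph on the points is connected.

* `W2.cnn` : a world `W2` with simple `F*`, one class, rotations, no inner `SL(2,3)`;
* `QM.cnn_lift` : `Cnn (img f Om)` implies `Cnn Om` (197's `QM`, 624's `QM.comm_lift`);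
* `rtg_of_cnn` : from the members of `C(a)` over `B(a)` to `B(a)` = the field `b4` of `M2H`.
-/

set_option autoImplicit false
set_option linter.style.haveILetI false
set_option linter.unusedSectionVars false

namespace Cfsg.Agent.Cit.Nil.RTwo

open Subgroup Cfsg Cfsg.Agent.Cit
open Cfsg.Agent.Cit.Nil.Comp.AO (Adj Rch)

/-- the commuting graph on the points is connected -/
def Cnn {G : Type*} [Group G] (Om : Set (Subgroup G)) : Prop :=
  ∀ z t, InZ Om z → InZ Om t → Relation.ReflTransGen (fun x y => InZ Om x ∧ InZ Om y ∧ x * y = y * x) z t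

universe u

variable {G : Type u} [Group G] [Finite G] {Om : Set (Subgroup G)} {X : Subgroup G}

/-- **(b4)** in the world `H`, without inner `SL(2,3)` -/
theorem W2.cnn (i : LIn.{u}) (h : W2 Om) (hc : OneCls Om) (hr : Rot Om) (hF : CFA G) (hne : Om.Nonempty)
    (f : ROne.FSimp X) (h2 : 2 ∣ Nat.card X) (hno : ¬ IThree Om) : Cnn Om := by
  intro z t hz ht
  have hcls : ∀ z t, InZ Om z → InZ Om t → ∃ g, g * z * g⁻¹ = t := fun z t hz ht => hc.conj h hz ht
  change Rch {z | InZ Om z} z t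
  rcases main_inner' i h hc hr hF hne f h2 hno with ⟨h1, -⟩ | ⟨S, -⟩
  · by_contra hcon
    have c3 := c3e_of_rot h hr
    have cf := hF.cf h
    haveI := f.sim
    have gold : Cit.ROne.Gold ↥X := fun S A h1 h2 h3 => i.gold _ S A h1 h2 h3
    have h1173 : OneF.H1173 G := i.h1173 G (oddCore_eq_bot f h2)
    obtain ⟨hab, -⟩ := closer h hc c3 hr hne f gold (i.bend _) h1173 cf h2
    obtain ⟨H, hH⟩ := CGr.exists_strong (Z := {z | InZ Om z}) (X := X) (fun z hz g => InZ.conj hz h g)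
      (fun z hz => InZ.z2 hz h) (fun z hz => InZ.z1 hz h) (fun z hz => CGr.exists_syl h hne hcls hz)
      (fun z hz t ht hzt hc => CGr.mul_inZ_of_eqEps h h1 hz ht hzt hc) f.nor (fun z hz => h.mem_of_fsimp f h2 hz)
      (i.crit _) hz ht hcon
    exact CGr.false_of_bend (i.bend _) hab f.nor h2 hH
  · have P := S.ppAll S.dich
    exact CGr.rch_of_geo (S.geo P (abel_of i S P hF) hF hne) hz ht

end Cfsg.Agent.Cit.Nil.RTwo

namespace Cfsg.Agent.Cit.Nil.RTwoM.Quo.QM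

open Subgroup Cfsg Cit IndDefs RTwo

variable {M Y : Type*} [Group M] [Group Y] [Finite M] {Om : Set (Subgroup M)} {f : M →* Y}
  (q : QM Om f) (h : W2 Om)

include q h

/-- **(b4) lifts** -/
theorem cnn_lift (c : Cnn (img f Om)) : Cnn Om := by
  intro z t hz ht
  have h1 := c (f z) (f t) (q.inZ_map hz) (q.inZ_map ht)
  have key : ∀ w, Relation.ReflTransGen (fun x y => InZ (img f Om) x ∧ InZ (img f Om) y ∧ x * y = y * x) (f z) w →
      ∀ x, InZ Om x → f x = w →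
      Relation.ReflTransGen (fun x y => InZ Om x ∧ InZ Om y ∧ x * y = y * x) z x := by
    intro w hw
    induction hw with
    | refl =>
      intro x hx e
      rw [q.pt_inj h hx hz e]
    | tail _ hbc ih =>
      intro x hx e
      obtain ⟨h1, _, h3⟩ := hbc
      obtain ⟨y, hy, rfl⟩ := q.exists_pt h1
      exact (ih y hy rfl).tail ⟨hy, hx, q.comm_lift h hx (by rw [e]; exact h3)⟩
  exact key _ h1 t ht rfl

end Cfsg.Agent.Cit.Nil.RTwoM.Quo.QM

namespace Cfsg.Agent.Cit.Nil.CompR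

open Subgroup Cfsg Cfsg.Agent.Cit
open Cfsg.Agent.Cit.Nil.ROne (CP)
open Cfsg.Agent.Cit.Nil.RTwo (InZ Cnn)
open RG (WR Ov RR)

variable {G : Type*} [Group G] [Finite G] {Om : Set (Subgroup G)} {a b z : G} {K : Subgroup G}
  {Ob : Set (Subgroup ↥(centralizer ({a} : Set G)))}

/-- a member over a C-partner of `a` is contained in `C(a)` -/
theorem le_cen_of_cp (ha : a ∈ RG.ZZ Om) (w : WR Om) (hK : K ∈ Om) (hc : RG.CP Om a (zz K)) : K ≤ centralizer ({a} : Set G) := by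
  obtain ⟨L, hL, hLa⟩ := ha
  intro k hk
  rw [mem_centralizer_singleton_iff]
  exact (hc.2 L ⟨hL, hLa⟩ K ⟨hK, rfl⟩ a (by rw [← hLa]; exact w.zm hL) k hk).symm

/-- the points of `C(a)` over `B(a)` -/
theorem inZ_ob_iff (hyp : Hyp Om) (w : WR Om) (ha : a ∈ RG.ZZ Om)
    (hOb : ∀ A, A ∈ Ob ↔ A.map (centralizer {a}).subtype ∈ Om ∧ RG.CP Om a (zz (A.map (centralizer {a}).subtype)))
    (x : ↥(centralizer ({a} : Set G))) : InZ Ob x ↔ (x : G) ∈ BB (RG.ZZ Om) (RR Om) a := by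
  constructor
  · rintro ⟨A, hA, rfl⟩
    obtain ⟨h1, h2⟩ := (hOb A).1 hA
    have h3 : ((zz A : ↥(centralizer {a})) : G) = zz (A.map (centralizer {a}).subtype) :=
      zz_map hyp (mem_restr.2 h1)
    rw [h3]
    exact ⟨⟨_, h1, rfl⟩, (cp_iff_wr w).2 h2⟩
  · rintro ⟨⟨K, hK, hx⟩, h2⟩
    have h3 : RG.CP Om a (zz K) := by rw [hx]; exact (cp_iff_wr w).1 h2
    have hle := le_cen_of_cp ha w hK h3
    have hm := map_subgroupOf_eq_of_le hle
    refine ⟨K.subgroupOf (centralizer {a}), (hOb _).2 ⟨by rw [hm]; exact hK, by rw [hm]; exact h3⟩, Subtype.ext ?_⟩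
    rw [zz_subOf hyp ⟨hK, hle⟩, hx]

/-- **(b4)** of `M2H` from the connected graph in `C(a)` -/
theorem rtg_of_cnn (hyp : Hyp Om) (w : WR Om) (ha : a ∈ RG.ZZ Om)
    (hOb : ∀ A, A ∈ Ob ↔ A.map (centralizer {a}).subtype ∈ Om ∧ RG.CP Om a (zz (A.map (centralizer {a}).subtype)))
    (c : Cnn Ob) (hz : z ∈ BB (RG.ZZ Om) (RR Om) a) (hb : b ∈ BB (RG.ZZ Om) (RR Om) a) :
    Relation.ReflTransGen (fun x y => x ∈ BB (RG.ZZ Om) (RR Om) a ∧ y ∈ BB (RG.ZZ Om) (RR Om) a ∧ x * y = y * x) z b := by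
  have hC : ∀ x ∈ BB (RG.ZZ Om) (RR Om) a, x ∈ centralizer ({a} : Set G) := by
    rintro x ⟨⟨K, hK, rfl⟩, h2⟩
    exact le_cen_of_cp ha w hK ((cp_iff_wr w).1 h2) (w.zm hK)
  have h1 := c ⟨z, hC z hz⟩ ⟨b, hC b hb⟩ ((inZ_ob_iff hyp w ha hOb _).2 hz) ((inZ_ob_iff hyp w ha hOb _).2 hb)
  have key : ∀ v, Relation.ReflTransGen (fun x y => InZ Ob x ∧ InZ Ob y ∧ x * y = y * x) ⟨z, hC z hz⟩ v →
      Relation.ReflTransGen (fun x y => x ∈ BB (RG.ZZ Om) (RR Om) a ∧ y ∈ BB (RG.ZZ Om) (RR Om) a ∧ x * y = y * x) z (v : G) := by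
    intro v hv
    induction hv with
    | refl => exact Relation.ReflTransGen.refl
    | tail _ hbc ih =>
      obtain ⟨h1, h2, h3⟩ := hbc
      exact ih.tail ⟨(inZ_ob_iff hyp w ha hOb _).1 h1, (inZ_ob_iff hyp w ha hOb _).1 h2, congrArg Subtype.val h3⟩
  exact key _ h1

end Cfsg.Agent.Cit.Nil.CompR
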