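import Cfsg.Agent.Cit.Nil.CompR.QuoC
import Cfsg.Agent.Cit.Nil.RTwo.InnerLift

/-!
# S1309 (n6), COMP, `r = 2`, `AllOne`, (M2): (b1), (b2) of helper386's proof (bb R18 #20410)

`OmB Om z` : the members of `C(z)` over the C-partners of `z`;
`PV Om z f` : `f : C(z) → Y` is the quotient by the centraliser of the members of `OmB Om z`, the image is a world `W2`;

* `PV.not_ithree` : no member has `Three` in `C(z)`: no `IThree` in `Y`;
* `PV.ceX_of_odd` : **(b2)** an element of odd order of `C(z)` centralising `R_a` centralises `X_z`;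
* `b1_of` : **(b1)**.
-/

set_option autoImplicit false
set_option linter.style.haveILetI false
set_option linter.unusedSectionVars false

namespace Cfsg.Agent.Cit.Nil.CompR

open Subgroup Cfsg Cfsg.Agent.Cit
open Cfsg.Agent.Cit.Nil.AN (Ce Cm)
open RTwo (BX IThree)
open RTwoM.Quo (QM)
open RG (RR WR Ov)

variable {G : Type*} [Group G] {Om : Set (Subgroup G)} {z a b t g x y : G}

/-- the quotient world at `z` -/
structure PV {Y : Type*} [Group Y] (Om : Set (Subgroup G)) (z : G) (f : ↥(centralizer ({z} : Set G)) →* Y) :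
    Prop where
  qm : QM (OmB Om z) f
  w2 : RTwo.W2 (img f (OmB Om z))
  inj : ∀ K ∈ OmB Om z, ∀ L ∈ OmB Om z, f (zz K) = f (zz L) → zz K = zz L
  odd : ∀ x ∈ sSup (OmB Om z), f x = 1 → Odd (orderOf x) → x = 1

/-- elements of odd order of `Z(⟨Om⟩)` are trivial -/
theorem odd_of_core {M Y : Type*} [Group M] [Finite M] [Group Y] {O : Set (Subgroup M)} {f : M →* Y}
    (q : QM O f) (core : pPrimeCore 2 M = ⊥) : ∀ x ∈ sSup O, f x = 1 → Odd (orderOf x) → x = 1 := by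
  intro x hx hfx ho
  have hxZ : x ∈ ZB O := by
    refine ⟨hx, mem_centralizer_iff.2 fun y hy => ?_⟩
    have h1 := (q.ker x).1 hfx
    have h2 : sSup O ≤ centralizer {x} := sSup_le fun K hK k hk => mem_centralizer_singleton_iff.2 (h1 K hK k hk).symm
    exact mem_centralizer_singleton_iff.1 (h2 hy)
  have hN : (ZB O).Normal := ⟨fun y hy g => ZB_conj q.hyp g hy⟩
  have h1 : OO (ZB O) = ⊥ := by
    have h2 : (OO (ZB O)).Normal := by
      refine ⟨fun y hy g => ?_⟩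
      have h3 : cj g (ZB O) = ZB O := by
        rw [← mem_normalizer_iff_cj, normalizer_eq_top_iff.2 hN]; exact mem_top g
      rw [← LB.cj_OO_eq h3]
      exact conj_mem_cj hy
    have h3 := Lib.Cores.le_pPrimeCore (p := 2) h2
      ((Nat.Prime.coprime_iff_not_dvd Nat.prime_two).2 (odd_OO _)).symm
    rw [core] at h3
    exact le_bot_iff.1 h3
  have h2 : zpowers x ≤ OO (ZB O) := by
    refine le_OO (zpowers_le.2 hxZ) ?_ ?_
    · intro y hy
      have h3 : ∀ u ∈ zpowers x, y * u * y⁻¹ = u := by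
        intro u hu
        have h4 : u ∈ sSup O := (zpowers_le.2 hx) hu
        rw [ZB_comm hy h4, mul_inv_cancel_right]
      rw [mem_normalizer_iff]
      intro u
      constructor
      · intro hu; rw [h3 u hu]; exact hu
      · intro hu
        have h4 := (zpowers_le.2 hx) hu
        have h5 : u ∈ sSup O := by
          have h6 := (RTwo.sSup_conj_mem q.hyp y⁻¹ h4)
          have h7 : y⁻¹ * (y * u * y⁻¹) * y⁻¹⁻¹ = u := by group
          rwa [h7] at h6
        rw [ZB_comm hy h5, mul_inv_cancel_right] at hu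
        exact hu
    · rw [Nat.card_zpowers]
      intro h3
      exact (Nat.not_even_iff_odd.2 ho) (even_iff_two_dvd.2 h3)
  rw [h1, le_bot_iff, zpowers_eq_bot] at h2
  exact h2

namespace PV

variable [Finite G] {Y : Type*} [Group Y] [Finite Y] {f : ↥(centralizer ({z} : Set G)) →* Y} (P : PV Om z f)

include P

/-- no `Three` in `C(z)`: no `IThree` in `Y` -/
theorem not_ithree (no : ∀ K ∈ restr Om (centralizer {z}), ¬ IndDefs.Three K) : ¬ IThree (img f (OmB Om z)) := by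
  intro h
  obtain ⟨K, hK, h3⟩ := h.lift P.qm P.w2 P.inj P.odd
  exact no K hK.1 h3

omit [Finite Y] P in
theorem mem_ob (hyp : Hyp Om) (hz : z ∈ RG.ZZ Om) {K : Subgroup G} (hK : K ∈ Ov Om b) (hc : RG.CP Om z b) :
    K ≤ centralizer {z} ∧ K.subgroupOf (centralizer {z}) ∈ OmB Om z := by
  obtain ⟨K₀, hK₀⟩ := hz
  have h1 : K ≤ centralizer ({z} : Set G) := by
    intro k hk
    rw [mem_centralizer_singleton_iff]
    exact (hc.2 K₀ hK₀ K hK z (by rw [← hK₀.2]; exact hyp.zz_mem hK₀.1) k hk).symm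
  refine ⟨h1, ?_⟩
  show (K.subgroupOf (centralizer ({z} : Set G))).map _ ∈ Om ∧ RG.CP Om z (zz ((K.subgroupOf (centralizer ({z} : Set G))).map _))
  rw [map_subgroupOf_eq_of_le h1, hK.2]
  exact ⟨hK.1, hc⟩

/-- `f g ∈ CX (f a)` if `g` centralises the members over `a` -/
theorem mem_cx (hyp : Hyp Om) (hz : z ∈ RG.ZZ Om) (ha : a ∈ RG.ZZ Om) (hc : RG.CP Om z a) (haz : a ∈ centralizer ({z} : Set G))
    {g : ↥(centralizer ({z} : Set G))} (hg : Ce (g : G) (RR Om a)) :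
    f g ∈ RTwo.CX (img f (OmB Om z)) (f ⟨a, haz⟩) ∧ RTwo.InZ (img f (OmB Om z)) (f ⟨a, haz⟩) := by
  obtain ⟨K, hK⟩ := ha
  have hK' : K ∈ Ov Om a := hK
  obtain ⟨h1, h2⟩ := mem_ob hyp hz hK' hc
  have e1 : zz (K.subgroupOf (centralizer ({z} : Set G))) = ⟨a, haz⟩ := by
    apply Subtype.ext
    rw [zz_map hyp h2.1, map_subgroupOf_eq_of_le h1]
    exact hK.2
  refine ⟨?_, ⟨_, ⟨_, h2, rfl⟩, by rw [P.qm.zz_map h2, e1]⟩⟩
  rw [RTwo.mem_CX]
  rintro _ ⟨⟨L, hL, rfl⟩, hLz⟩ _ ⟨l, hl, rfl⟩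
  rw [P.qm.zz_map hL, ← e1] at hLz
  have h3 := P.inj L hL _ h2 hLz
  rw [e1] at h3
  have h4 : (L.map (centralizer ({z} : Set G)).subtype) ∈ Ov Om a := by
    refine ⟨hL.1, ?_⟩
    rw [← zz_map hyp hL.1, h3]
  have h5 : g * l = l * g := Subtype.ext (hg _ (WR.le_RR h4 ⟨l, hl, rfl⟩))
  rw [← map_mul, h5, map_mul]

/-- the kernel of `f` centralises `X_z` -/
theorem ceX_of_ker (hyp : Hyp Om) (hz : z ∈ RG.ZZ Om) (w : WR Om) {g : ↥(centralizer ({z} : Set G))} (hg : f g = 1) :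
    CeX (RG.ZZ Om) (RR Om) z g := by
  intro b hb
  have hcp := (cp_iff_wr w).1 hb.2
  intro k hk
  refine RG.SS_comm (𝒦 := Ov Om b) (x := (g : G)) (fun L hL l hl => ?_) hk
  obtain ⟨h1, h2⟩ := mem_ob hyp hz hL hcp
  exact congrArg Subtype.val ((P.qm.ker g).1 hg _ h2 ⟨l, h1 hl⟩ (mem_subgroupOf.2 hl))

/-- **(b2)** -/
theorem ker_of_odd (bx : BX (img f (OmB Om z))) (hyp : Hyp Om) (hz : z ∈ RG.ZZ Om) (ha : a ∈ RG.ZZ Om) (hc : RG.CP Om z a)
    {g : ↥(centralizer ({z} : Set G))} (ho : Odd (orderOf (g : G))) (hg : Ce (g : G) (RR Om a)) : f g = 1 := by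
  have haz : a ∈ centralizer ({z} : Set G) := by
    obtain ⟨K, hK⟩ := ha
    exact (mem_ob hyp hz (b := a) hK hc).1 (by rw [← hK.2]; exact hyp.zz_mem hK.1)
  obtain ⟨h1, h2⟩ := P.mem_cx hyp hz ha hc haz hg
  have h3 := bx.sq _ _ h2 h1
  have h4 : orderOf (f g) ∣ orderOf g := orderOf_map_dvd f g
  have h5 : orderOf (f g) ∣ 2 := orderOf_dvd_of_pow_eq_one (by rw [pow_two]; exact h3)
  rw [orderOf_coe] at ho
  exact orderOf_eq_one_iff.1 (Nat.eq_one_of_dvd_coprimes (Nat.coprime_two_right.2 ho) h4 h5)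

end PV

/-- **(b1)** -/
theorem b1_step [Finite G] {Y Y' : Type*} [Group Y] [Finite Y] [Group Y'] [Finite Y'] (w : WR Om) (hyp : Hyp Om)
    {f : ↥(centralizer ({z} : Set G)) →* Y} {f' : ↥(centralizer ({a} : Set G)) →* Y'} (P : PV Om z f) (P' : PV Om a f')
    (bx : BX (img f (OmB Om z))) (bx' : BX (img f' (OmB Om a))) (hz : z ∈ RG.ZZ Om) (ha : a ∈ RG.ZZ Om) (hc : RG.CP Om z a)
    (ht : t ∈ RG.ZZ Om) (hat : RG.CP Om a t) (htz : t * z = z * t) :
    CeX (RG.ZZ Om) (RR Om) z t ∨ CeX (RG.ZZ Om) (RR Om) z (t * a) := by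
  have hca : RG.CP Om a z := ⟨hc.1.symm, fun K hK L hL k hk l hl => (hc.2 L hL K hK l hl k hk).symm⟩
  have haz : a ∈ centralizer ({z} : Set G) := by
    obtain ⟨K, hK⟩ := ha
    exact (PV.mem_ob hyp hz (b := a) hK hc).1 (by rw [← hK.2]; exact hyp.zz_mem hK.1)
  have htzC : t ∈ centralizer ({z} : Set G) := mem_centralizer_singleton_iff.2 htz
  have hta : Ce t (RR Om a) := by
    intro k hk
    exact (w.CP_RR hat hk (w.RR_mem ht)).symm
  obtain ⟨h1, h2⟩ := P.mem_cx (g := ⟨t, htzC⟩) hyp hz ha hc haz hta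
  have h3 := bx.fix _ _ h2 h1 (by
    intro c' hc' hca' ho'
    obtain ⟨c₀, hc₀, rfl⟩ := RTwo.sSup_img_le hc'
    obtain ⟨s, m, hm, hsm⟩ : ∃ s m : ℕ, Odd m ∧ orderOf c₀ = 2 ^ s * m := by
      obtain ⟨n, m, hm, hnm⟩ := Nat.exists_eq_two_pow_mul_odd (orderOf_pos c₀).ne'
      exact ⟨n, m, hm, hnm⟩
    obtain ⟨c, hce⟩ : ∃ c, c = c₀ ^ 2 ^ s := ⟨_, rfl⟩
    have hcS : c ∈ sSup (OmB Om z) := by rw [hce]; exact pow_mem hc₀ _
    have hco : Odd (orderOf c) := by
      have h1 : c ^ m = 1 := by rw [hce, ← pow_mul, ← hsm, pow_orderOf_eq_one]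
      exact hm.of_dvd_nat (orderOf_dvd_of_pow_eq_one h1)
    have hfc : f c = f c₀ ^ 2 ^ s := by rw [hce, map_pow]
    -- `c` commutes with `a`
    have hcomm : (c : G) * a = a * c := by
      obtain ⟨K, hK⟩ := ha
      obtain ⟨e1, e2⟩ := PV.mem_ob hyp hz (b := a) hK hc
      have e3 : zz (K.subgroupOf (centralizer ({z} : Set G))) = ⟨a, haz⟩ := by
        apply Subtype.ext
        rw [zz_map hyp e2.1, map_subgroupOf_eq_of_le e1]
        exact hK.2
      have e4 : f c * f ⟨a, haz⟩ = f ⟨a, haz⟩ * f c := by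
        rw [hfc]
        exact ((show Commute (f c₀) (f ⟨a, haz⟩) from hca').pow_left _).eq
      have e5 := RTwo.QMcom P.qm P.inj e2 (g := c) (by rw [e3]; exact e4)
      rw [e3] at e5
      exact congrArg Subtype.val e5
    -- `c` centralises `R_z`
    have hcz : Ce (c : G) (RR Om z) := by
      have h1 : sSup (OmB Om z) ≤ (centralizer ((RR Om z : Subgroup G) : Set G)).comap
          (centralizer ({z} : Set G)).subtype := by
        refine sSup_le fun A hA x hx => ?_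
        rw [mem_comap, mem_centralizer_iff]
        intro k hk
        exact w.CP_RR hA.2 hk (WR.le_RR (K := A.map (centralizer ({z} : Set G)).subtype) ⟨hA.1, rfl⟩ ⟨x, hx, rfl⟩)
      intro k hk
      exact (mem_centralizer_iff.1 (h1 hcS) k hk).symm
    have hcaC : (c : G) ∈ centralizer ({a} : Set G) := mem_centralizer_singleton_iff.2 hcomm
    have h4 : f' ⟨c, hcaC⟩ = 1 := P'.ker_of_odd bx' hyp ha hz hca (g := ⟨c, hcaC⟩) (by
      show Odd (orderOf (c : G)); rw [orderOf_coe]; exact hco) hcz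
    have h5 := P'.ceX_of_ker hyp ha w h4 t ⟨ht, (cp_iff_wr w).2 hat⟩ t (w.RR_mem ht)
    -- back
    have h6 : c * (⟨t, htzC⟩ : ↥(centralizer ({z} : Set G))) = ⟨t, htzC⟩ * c := Subtype.ext h5
    refine (Three.comm_of_pow_two ho' (n := s) ?_).eq
    rw [← hfc]
    show f c * f ⟨t, htzC⟩ = f ⟨t, htzC⟩ * f c
    rw [← map_mul, h6, map_mul])
  rcases h3 with h3 | h3
  · left
    exact P.ceX_of_ker hyp hz w h3
  · right
    have h4 : f (⟨t, htzC⟩ * ⟨a, haz⟩) = 1 := by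
      rw [map_mul, h3, ← map_mul]
      have h5 : (⟨a, haz⟩ : ↥(centralizer ({z} : Set G))) * ⟨a, haz⟩ = 1 := Subtype.ext (w.zz_sq ha)
      rw [h5, map_one]
    exact P.ceX_of_ker hyp hz w h4

end Cfsg.Agent.Cit.Nil.CompR
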