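import Cfsg.Agent.Cit.Nil.CompR.BThLift
import Cfsg.Agent.Cit.Nil.CompR.MTwoB

/-!
# S1309 (n6), COMP, `r = 2`: the world of the C-partners of `z` in `C(z)`, and (b3)

`MB Om z OmB` : `OmB` is the set of the members of `C(z)` over the C-partners of `z`.

* `MB.inZ_iff` : the points of `OmB` are the elements of `BB (RG.ZZ Om) (RR Om) z`;
* **`MB.w2`** : `W2 OmB` if `(Ov Om u).ncard = 2` and there is no C-pair inside `BB z`;
* **`MB.b3`** : (b3) at `(z, a)` from `BTh` of the quotient;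
* `bth_of_inner` : `BTh` from the output of `main_inner'`; **`PV.b3`** : (b3) at `(z, a)`.
-/

set_option autoImplicit false
set_option linter.style.haveILetI false
set_option linter.unusedSectionVars false

namespace Cfsg.Agent.Cit.Nil.CompR

open Subgroup Cfsg Cfsg.Agent.Cit
open Cfsg.Agent.Cit.Nil.ROne (CP)
open RG (WR Ov RR)
open RTwo (W2 BTh BThX InZ TI)
open RTwoM.Quo (QM)

variable {G : Type*} [Group G] {Om : Set (Subgroup G)} {z u v x y g a : G} {K L : Subgroup G}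

/-- `OmB` is the set of the members of `C(z)` over the C-partners of `z` -/
structure MB (Om : Set (Subgroup G)) (z : G) (OmB : Set (Subgroup ↥(centralizer ({z} : Set G)))) : Prop where
  w : WR Om
  hyp : Hyp Om
  hz : z ∈ RG.ZZ Om
  mem : ∀ A, A ∈ OmB ↔ A.map (centralizer {z}).subtype ∈ Om ∧
    RG.CP Om z (zz (A.map (centralizer {z}).subtype))

namespace MB

variable [Finite G] {OmB : Set (Subgroup ↥(centralizer ({z} : Set G)))} (o : MB Om z OmB)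
  {A B : Subgroup ↥(centralizer ({z} : Set G))}

include o

/-- a member over a C-partner lies in `C(z)` -/
theorem le (hK : K ∈ Om) (hc : RG.CP Om z (zz K)) : K ≤ centralizer {z} := by
  obtain ⟨L, hL⟩ := o.hz
  intro k hk
  rw [mem_centralizer_singleton_iff]
  have h1 := hc.2 L ⟨hL.1, hL.2⟩ K ⟨hK, rfl⟩ z (by rw [← hL.2]; exact o.w.zm hL.1) k hk
  exact h1.symm

theorem sub_mem (hK : K ∈ Om) (hc : RG.CP Om z (zz K)) : K.subgroupOf (centralizer {z}) ∈ OmB := by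
  rw [o.mem, map_subgroupOf_eq_of_le (o.le hK hc)]
  exact ⟨hK, hc⟩

theorem zz_coe (hA : A ∈ OmB) : ((zz A : ↥(centralizer ({z} : Set G))) : G) = zz (A.map (centralizer {z}).subtype) :=
  Cit.zz_map o.hyp ((o.mem A).1 hA).1

/-- the points of `OmB` -/
theorem inZ_iff {p : ↥(centralizer ({z} : Set G))} : InZ OmB p ↔ (p : G) ∈ BB (RG.ZZ Om) (RR Om) z := by
  constructor
  · rintro ⟨A, hA, rfl⟩
    have h1 := (o.mem A).1 hA
    rw [o.zz_coe hA]
    exact ⟨⟨_, h1.1, rfl⟩, (cp_iff_wr o.w).2 h1.2⟩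
  · rintro ⟨⟨K, hK, hKp⟩, hc⟩
    rw [cp_iff_wr o.w, ← hKp] at hc
    have h1 := o.sub_mem hK hc
    refine ⟨_, h1, Subtype.ext ?_⟩
    rw [o.zz_coe h1, map_subgroupOf_eq_of_le (o.le hK hc), hKp]

theorem hyp' : Hyp OmB := by
  have h := o.hyp.restr (centralizer {z})
  have hs : ∀ A ∈ OmB, A ∈ restr Om (centralizer {z}) := fun A hA => ((o.mem A).1 hA).1
  refine ⟨?_, fun K hK => h.quat K (hs K hK), fun K hK => h.uniq K (hs K hK), fun K hK => h.sub K (hs K hK),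
    fun K hK L hL => h.h2 K (hs K hK) L (hs L hL), fun K hK L hL => h.h3 K (hs K hK) L (hs L hL)⟩
  intro A hA g
  have h1 := (o.mem A).1 hA
  rw [o.mem, cj_map]
  have e : cj ((centralizer {z}).subtype g) (A.map (centralizer {z}).subtype) ∈ Om := o.hyp.conj _ h1.1 _
  refine ⟨e, ?_⟩
  have hg : (g : G) * z = z * g := mem_centralizer_singleton_iff.1 g.2
  have h2 : RG.CP Om (g * z * (g : G)⁻¹) (g * zz (A.map (centralizer {z}).subtype) * (g : G)⁻¹) :=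
    o.w.CP_cj h1.2 g
  rw [hg, mul_inv_cancel_right] at h2
  rw [o.hyp.zz_cj h1.1]
  exact h2

/-- **the world `W2`** -/
theorem w2 (h2 : ∀ K ∈ Om, (Ov Om (zz K)).ncard = 2)
    (no : ∀ u ∈ BB (RG.ZZ Om) (RR Om) z, ∀ v ∈ BB (RG.ZZ Om) (RR Om) z, ¬ CP (RR Om) u v) : W2 OmB where
  hyp := o.hyp'
  card := by
    intro A hA
    have h1 := ((o.mem A).1 hA).1
    rw [← card_map_of_injective (centralizer {z}).subtype_injective, o.w.card h1]
  two := by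
    intro A hA
    obtain ⟨hK, hc⟩ := (o.mem A).1 hA
    obtain ⟨B, C, hBC, h3⟩ := Set.ncard_eq_two.1 (h2 _ hK)
    have hsymm : ∃ L ∈ Om, L ≠ A.map (centralizer {z}).subtype ∧ zz L = zz (A.map (centralizer {z}).subtype) ∧
        ∀ M ∈ Om, zz M = zz (A.map (centralizer {z}).subtype) → M = A.map (centralizer {z}).subtype ∨ M = L := by
      have hB : B ∈ Ov Om (zz (A.map (centralizer {z}).subtype)) := by rw [h3]; exact Set.mem_insert _ _
      have hC : C ∈ Ov Om (zz (A.map (centralizer {z}).subtype)) := by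
        rw [h3]; exact Set.mem_insert_of_mem _ (Set.mem_singleton _)
      have hA' : A.map (centralizer {z}).subtype ∈ Ov Om (zz (A.map (centralizer {z}).subtype)) := ⟨hK, rfl⟩
      have hall : ∀ M ∈ Om, zz M = zz (A.map (centralizer {z}).subtype) → M = B ∨ M = C := by
        intro M hM hz
        have h6 : M ∈ Ov Om (zz (A.map (centralizer {z}).subtype)) := ⟨hM, hz⟩
        rw [h3] at h6
        simpa using h6
      rw [h3] at hA'
      rcases hA' with hA' | hA'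
      · refine ⟨C, hC.1, ?_, hC.2, ?_⟩
        · rw [hA']; exact hBC.symm
        · intro M hM hz
          rcases hall M hM hz with h4 | h4
          · left; rw [h4, hA']
          · right; exact h4
      · rw [Set.mem_singleton_iff] at hA'
        refine ⟨B, hB.1, ?_, hB.2, ?_⟩
        · rw [hA']; exact hBC
        · intro M hM hz
          rcases hall M hM hz with h4 | h4
          · right; exact h4
          · left; rw [h4, hA']
    obtain ⟨L, hL, hne, hLz, hall⟩ := hsymm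
    have hcL : RG.CP Om z (zz L) := by rw [hLz]; exact hc
    have hLm := o.sub_mem hL hcL
    have hLe := map_subgroupOf_eq_of_le (o.le hL hcL)
    refine ⟨_, hLm, ?_, ?_, ?_⟩
    · intro e
      apply hne
      rw [← hLe, e]
    · apply Subtype.ext
      rw [o.zz_coe hLm, o.zz_coe hA, hLe, hLz]
    · intro B' hB' hz'
      have h5 : zz (B'.map (centralizer {z}).subtype) = zz (A.map (centralizer {z}).subtype) := by
        rw [← o.zz_coe hB', ← o.zz_coe hA, hz']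
      rcases hall _ ((o.mem B').1 hB').1 h5 with h6 | h6
      · left; exact Subgroup.map_injective (centralizer {z}).subtype_injective h6
      · right
        apply Subgroup.map_injective (centralizer {z}).subtype_injective
        rw [h6, hLe]
  one := by
    intro A hA B hB hcm
    obtain ⟨hK, hcK⟩ := (o.mem A).1 hA
    obtain ⟨hL, hcL⟩ := (o.mem B).1 hB
    apply Subtype.ext
    rw [o.zz_coe hA, o.zz_coe hB]
    by_contra hne
    refine no _ ⟨⟨_, hK, rfl⟩, (cp_iff_wr o.w).2 hcK⟩ _ ⟨⟨_, hL, rfl⟩, (cp_iff_wr o.w).2 hcL⟩ ?_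
    rw [cp_iff_wr o.w]
    refine o.w.CP_of_cen (K := A.map (centralizer {z}).subtype) ⟨hK, rfl⟩ ?_ hne
    rintro _ ⟨k, hk, rfl⟩
    obtain ⟨l, hl, hle⟩ := o.w.zm hL
    rw [← hle]
    exact (congrArg Subtype.val (hcm k hk l hl)).symm

/-- (b3) in `G` from `BTh` in `C(z)` -/
theorem b3_of_bth (h : W2 OmB) {p : ↥(centralizer ({z} : Set G))} (hb : BTh OmB p) :
    ∃ x₁ x₂ : G, x₁ ∈ BB (RG.ZZ Om) (RR Om) z ∧ x₂ ∈ BB (RG.ZZ Om) (RR Om) z ∧ x₁ * x₂ ∈ BB (RG.ZZ Om) (RR Om) z ∧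
      x₁ * p = p * x₁ ∧ x₂ * p = p * x₂ ∧ x₁ * p ∈ RG.ZZ Om ∧ x₂ * p ∈ RG.ZZ Om ∧ x₁ * x₂ * p ∈ RG.ZZ Om := by
  obtain ⟨s, t, b⟩ := hb
  have key : ∀ {x : ↥(centralizer ({z} : Set G))}, TI OmB p x → (x : G) ∈ BB (RG.ZZ Om) (RR Om) z ∧
      (x : G) * p = p * x ∧ (x : G) * p ∈ RG.ZZ Om := by
    intro x hx
    have h1 : p * x = x * p := hx.2.2.2.1
    have h2 := o.inZ_iff.1 (hx.mul_inZ h)
    rw [h1] at h2
    exact ⟨o.inZ_iff.1 hx.2.1, (congrArg Subtype.val h1).symm, h2.1⟩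
  obtain ⟨s1, s2, s3⟩ := key b.ts
  obtain ⟨t1, t2, t3⟩ := key b.tt
  obtain ⟨r1, r2, r3⟩ := key b.st
  exact ⟨s, t, s1, t1, r1, s2, t2, s3, t3, r3⟩

/-- **(b3) at `(z, a)` from `BTh` of the quotient** -/
theorem b3 (h2 : ∀ K ∈ Om, (Ov Om (zz K)).ncard = 2)
    (no : ∀ u ∈ BB (RG.ZZ Om) (RR Om) z, ∀ v ∈ BB (RG.ZZ Om) (RR Om) z, ¬ CP (RR Om) u v)
    {Y : Type*} [Group Y] {f : ↥(centralizer ({z} : Set G)) →* Y} (q : QM OmB f)
    (hb : ∀ y, InZ (img f OmB) y → BTh (img f OmB) y) (ha : a ∈ RG.ZZ Om) (hc : CP (RR Om) z a) :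
    ∃ x₁ x₂ : G, x₁ ∈ BB (RG.ZZ Om) (RR Om) z ∧ x₂ ∈ BB (RG.ZZ Om) (RR Om) z ∧ x₁ * x₂ ∈ BB (RG.ZZ Om) (RR Om) z ∧
      x₁ * a = a * x₁ ∧ x₂ * a = a * x₂ ∧ x₁ * a ∈ RG.ZZ Om ∧ x₂ * a ∈ RG.ZZ Om ∧ x₁ * x₂ * a ∈ RG.ZZ Om := by
  have h := o.w2 h2 no
  have haC : a ∈ centralizer ({z} : Set G) := by
    rw [mem_centralizer_singleton_iff]
    exact ((GW.of_wr o.w o.hyp).comm_of_cp o.hz ha hc).symm
  have hp : InZ OmB ⟨a, haC⟩ := o.inZ_iff.2 ⟨ha, hc⟩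
  exact o.b3_of_bth h (q.bth_lift h hp (hb _ (q.inZ_map hp)))

end MB

/-- `BTh` from the output of `main_inner'` -/
theorem bth_of_inner {Y : Type*} [Group Y] [Finite Y] {Om : Set (Subgroup Y)}
    (h : (RTwo.EqEps Om ∧ RTwo.AW Om ∧ RTwo.SCe Om) ∨ (RTwo.SW Om ∧ RTwo.SB Om ∧ RTwo.SCe Om)) {y : Y}
    (hy : InZ Om y) : BTh Om y := by
  rcases h with ⟨he, W, -⟩ | ⟨S, -, -⟩
  · exact W.bth_eps he hy
  · exact S.bth hy

/-- **(b3) at `(z, a)`** -/
theorem PV.b3 [Finite G] {Y : Type*} [Group Y] {f : ↥(centralizer ({z} : Set G)) →* Y} (P : PV Om z f) (w : WR Om)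
    (hyp : Hyp Om) (h2 : ∀ K ∈ Om, (Ov Om (zz K)).ncard = 2) (hz : z ∈ RG.ZZ Om)
    (no : ∀ u ∈ BB (RG.ZZ Om) (RR Om) z, ∀ v ∈ BB (RG.ZZ Om) (RR Om) z, ¬ CP (RR Om) u v)
    (hb : (RTwo.EqEps (img f (OmB Om z)) ∧ RTwo.AW (img f (OmB Om z)) ∧ RTwo.SCe (img f (OmB Om z))) ∨
      (RTwo.SW (img f (OmB Om z)) ∧ RTwo.SB (img f (OmB Om z)) ∧ RTwo.SCe (img f (OmB Om z))))
    (ha : a ∈ RG.ZZ Om) (hc : CP (RR Om) z a) :
    ∃ x₁ x₂ : G, x₁ ∈ BB (RG.ZZ Om) (RR Om) z ∧ x₂ ∈ BB (RG.ZZ Om) (RR Om) z ∧ x₁ * x₂ ∈ BB (RG.ZZ Om) (RR Om) z ∧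
      x₁ * a = a * x₁ ∧ x₂ * a = a * x₂ ∧ x₁ * a ∈ RG.ZZ Om ∧ x₂ * a ∈ RG.ZZ Om ∧ x₁ * x₂ * a ∈ RG.ZZ Om := by
  haveI : Finite Y := Finite.of_surjective f P.qm.surj
  exact MB.b3 ⟨w, hyp, hz, fun A => Iff.rfl⟩ h2 no P.qm (fun _ hy => bth_of_inner hb hy) ha hc

end Cfsg.Agent.Cit.Nil.CompR
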