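import Cfsg.Agent.Cit.Nil.CompR.ProdFour

/-!
# S1309 (6b), COMP, any `r`, the product situation: `C(e) ≤ M` for an element centralising two blocks (helper531, (E1))

`Fram.om_sub_of_tps`, `Fram.cent_le_of_tps` : `e` centralises `K n`, `K n'`, `n` and `n'` in different blocks of the frame
of `z`, and `C(e)` has `T'`: then the members of `C(e)` are in the frame and `C(e) ≤ M`.
-/

set_option autoImplicit false
set_option linter.style.haveILetI false
set_option linter.unusedSectionVars false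

namespace Cfsg.Agent.Cit.Nil.CompR

open Subgroup Cfsg Cfsg.Agent.Cit
open Cfsg.Agent.Cit.Nil.AN (Om Cl OneC Ce Cm)
open Cfsg.Agent.Cit.Nil.ROne (CP CS TT OneCls)
open Cfsg.Agent.OddOrderLocal.NilParts Cfsg.Agent.StdEven.Syl

namespace Fram

variable {G : Type*} [Group G] {Z : Set G} {K : G → Subgroup G} {Sg Kl : G → Set G} {z n n' e g : G}

/-- **(E1)**, members: the members of `C(e)` are in the frame -/
theorem om_sub_of_tps [Finite G] (f : Fram Z K Sg Kl) (w : GW Z K)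
    (tp : ∀ S : Sylow 2 G, TPS Z K (S : Subgroup G)) (m2 : ∀ S : Sylow 2 G, MTwo Z K (S : Subgroup G))
    (hz : z ∈ Z) (hn : n ∈ Sg z) (hn' : n' ∈ Sg z) (hnn : n' ∉ Kl n) (he : Ce e (K n)) (he' : Ce e (K n'))
    (hT : TPs Z K e) : Om Z K e ⊆ Sg z := by
  intro x hx
  have hnZ := f.mem_Z hz hn
  have hnZ' := f.mem_Z hz hn'
  have hnO : n ∈ Om Z K e := ⟨hnZ, he⟩
  have hnO' : n' ∈ Om Z K e := ⟨hnZ', he'⟩
  have hcp : CP K n n' := f.cm' hz hn hn' hnn
  -- a point outside the class of a point of the frame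
  have key : ∀ u, u ∈ Sg z → u ∈ Om Z K e → x ∉ Cl Z K e u → x ∈ Sg z := by
    intro u hu huO hxu
    have h1 : CP K u x := ⟨fun e1 => hxu (e1 ▸ AN.cl_refl e u), AN.cl_cm (AN.cl_refl e u) hx hxu⟩
    have h2 := f.f1 u huO.1 x hx.1 h1
    rwa [f.sgEq z hz u hu] at h2
  by_cases c1 : x ∈ Cl Z K e n
  swap
  · exact key n hn hnO c1
  by_cases c2 : x ∈ Cl Z K e n'
  swap
  · exact key n' hn' hnO' c2
  have c3 : n' ∈ Cl Z K e n := AN.cl_trans c1 (AN.cl_symm hnO' c2)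
  rcases hT n hnO with h1 | h1
  · -- nil
    have hKx : K x ≤ centralizer {e} := fun k hk => mem_centralizer_singleton_iff.2 (hx.2 k hk).symm
    have hP : IsPGroup 2 (K x ⊔ oP 2 (centralizer {e}) : Subgroup G) :=
      OneBasic.isPGroup_sup_of_normalizes (w.two hx.1) (isPGroup_oP 2 _) (hKx.trans (le_normalizer_oP 2 _))
    have hnP : n ∈ (K x ⊔ oP 2 (centralizer {e}) : Subgroup G) := mem_sup_right h1
    have h2 : K (n * x * n⁻¹) ≤ (K x ⊔ oP 2 (centralizer {e}) : Subgroup G) := by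
      rw [w.conjK x hx.1]
      intro y hy
      rw [mem_cj] at hy
      have h3 : y = n * (n⁻¹ * y * n) * n⁻¹ := by group
      rw [h3]
      exact mul_mem (mul_mem hnP (mem_sup_left hy)) (inv_mem hnP)
    by_cases hne : x = n * x * n⁻¹
    · refine f.mem_of_comm hz hn hx.1 ?_
      rw [eq_mul_inv_iff_mul_eq] at hne
      exact hne
    · have h3 := w.com _ hP hx.1 (w.conjZ x hx.1 n) le_sup_left h2 hne
      have h4 := f.sg_symm hx.1 (f.f2 n hnZ x hx.1 h3)
      rwa [f.sgEq z hz n hn] at h4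
  · -- `ONE`
    obtain ⟨S, hS, hS'⟩ := w.exists_sylow_of_cp hnZ hnZ' hcp
    have h2 : x ∈ Om Z K (n * n') := ⟨hx.1, h1 n (AN.cl_refl e n) n' c3 hcp.2 x c1⟩
    have h3 := f.om_sub w S hS (mul_mem (subset_closure hS) (subset_closure hS')) (w.cp_mul_ne hnZ' hcp) (tp S)
      (m2 S) h2
    rwa [f.sgEq z hz n hn] at h3

/-- **(E1)**: `C(e) ≤ M` -/
theorem cent_le_of_tps [Finite G] (f : Fram Z K Sg Kl) (w : GW Z K)
    (tp : ∀ S : Sylow 2 G, TPS Z K (S : Subgroup G)) (m2 : ∀ S : Sylow 2 G, MTwo Z K (S : Subgroup G))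
    (hz : z ∈ Z) (hn : n ∈ Sg z) (hn' : n' ∈ Sg z) (hnn : n' ∉ Kl n) (he : Ce e (K n)) (he' : Ce e (K n'))
    (hT : TPs Z K e) : ∀ g, g * e = e * g → g ∈ f.MM hz := by
  intro g hg
  have hnZ := f.mem_Z hz hn
  refine f.mem_MM_of hz hn (f.om_sub_of_tps w tp m2 hz hn hn' hnn he he' hT ⟨w.conjZ n hnZ g, ?_⟩)
  have h1 : Ce (g * e * g⁻¹) (K (g * n * g⁻¹)) := w.ce_conj hnZ g he
  rwa [hg, mul_inv_cancel_right] at h1

/-- **(E1)** in the form with `TP` -/
theorem cent_le_of_tp [Finite G] (f : Fram Z K Sg Kl) (w : GW Z K) (tp : TP Z K)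
    (m2 : ∀ S : Sylow 2 G, MTwo Z K (S : Subgroup G))
    (hz : z ∈ Z) (hn : n ∈ Sg z) (hn' : n' ∈ Sg z) (hnn : n' ∉ Kl n) (he : Ce e (K n)) (he' : Ce e (K n'))
    (hT : TPs Z K e) : centralizer {e} ≤ f.MM hz := fun g hg =>
  f.cent_le_of_tps w (fun S => tp.tps S) m2 hz hn hn' hnn he he' hT g (mem_centralizer_singleton_iff.1 hg)

end Fram

end Cfsg.Agent.Cit.Nil.CompR
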