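import Cfsg.Agent.Cit.Nil.CompR.World
import Cfsg.Agent.Cit.Nil.ROne.Count

/-!
# S1309 (6b), COMP, any `r`: the count of step (4) of `AN(s)` (helper472), for the world of points

`CnZ Z K` : the centre of `K z` is `⟨z⟩`; `CnZ.of_wr`, `CnZ.of_one`.

`Mv Z K S S' b` : `b ∈ S` is an involution commuting with no point of `C_S`; the elements `k * b k b⁻¹`,
`k ∈ K y`, `y ∈ C_S`, are in `S'`; the nontrivial products of the elements `y * b y b⁻¹`, `y ∈ C_S`, commute with no point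
of `C_S'`.

**`Mv.false`** : this is impossible (`ROne/Count.lean` for `GW`).
-/

set_option autoImplicit false
set_option linter.style.haveILetI false
set_option linter.unusedSectionVars false

namespace Cfsg.Agent.Cit.Nil.CompR

open Subgroup Cfsg Cfsg.Agent.Cit Cfsg.Agent.Cit.Nil.AN
open Cfsg.Agent.Cit.Nil.ROne (CP CS TT OneCls)

variable {G : Type*} [Group G] {Z : Set G} {K : G → Subgroup G} {z u v x y g s a b c : G}

/-- the centre of `K z` is `⟨z⟩` -/
def CnZ (Z : Set G) (K : G → Subgroup G) : Prop :=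
  ∀ z ∈ Z, ∀ x ∈ K z, (∀ k ∈ K z, x * k = k * x) → x = 1 ∨ x = z

theorem CnZ.of_wr [Finite G] {Om : Set (Subgroup G)} (h : RG.WR Om) : CnZ (RG.ZZ Om) (RG.RR Om) :=
  fun _ _ _ hx hc => h.RR_center hx fun _ hK k hk => hc k (RG.WR.le_RR hK hk)

theorem CnZ.of_one [Finite G] (h : ROne.W Z K) : CnZ Z K := by
  intro z hz x hx hc
  have h1 := Cfsg.Agent.Cit.ROne.eq_of_center h.hyp (K := K z) ⟨z, hz, rfl⟩ (h.two hz) hx hc
  rwa [h.zz_K hz] at h1

namespace GW

theorem conj_mem_K (w : GW Z K) (hz : z ∈ Z) (g : G) (hx : x ∈ K z) : g * x * g⁻¹ ∈ K (g * z * g⁻¹) := by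
  rw [w.conjK z hz g]
  exact conj_mem_cj hx

theorem K_inj (w : GW Z K) (hz : z ∈ Z) (hu : u ∈ Z) (he : K z = K u) : z = u := by
  by_contra hne
  have h1 : Ce u (K z) := by
    intro k hk
    rw [he] at hk
    exact (w.cent hu hk).symm
  have h2 := w.csymm hz hu hne h1
  apply w.nab hz
  intro k hk l hl
  exact h2.2 k hk l (he ▸ hl)

theorem ce_conj (w : GW Z K) (hz : z ∈ Z) (g : G) (hc : Ce x (K z)) : Ce (g * x * g⁻¹) (K (g * z * g⁻¹)) := by
  rw [w.conjK z hz]
  exact hc.cj g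

/-- `K z` has at least 8 elements -/
theorem eight_le [Finite G] (w : GW Z K) (hz : z ∈ Z) : 8 ≤ Nat.card (K z) := by
  haveI : Fact (Nat.Prime 2) := ⟨Nat.prime_two⟩
  obtain ⟨n, hn⟩ := IsPGroup.iff_card.1 (w.two hz)
  by_contra hlt
  rw [not_le, hn] at hlt
  have h3 : n < 3 := by
    by_contra h4
    rw [not_lt] at h4
    have h5 := Nat.pow_le_pow_right (n := 2) (by norm_num) h4
    omega
  apply w.nab hz
  have key : ∀ a b : K z, a * b = b * a := by
    interval_cases n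
    · have h1 : Nat.card (K z) = 1 := by rw [hn, pow_zero]
      haveI := (Nat.card_eq_one_iff_unique.1 h1).1
      exact fun a b => Subsingleton.elim _ _
    · haveI : IsCyclic (K z) := isCyclic_of_prime_card (p := 2) (by rw [hn, pow_one])
      intro a b
      obtain ⟨g, hg⟩ := IsCyclic.exists_generator (α := K z)
      obtain ⟨i, rfl⟩ := hg a
      obtain ⟨j, rfl⟩ := hg b
      show g ^ i * g ^ j = g ^ j * g ^ i
      rw [← zpow_add, ← zpow_add, add_comm]
    · haveI : IsMulCommutative (K z) := IsPGroup.isMulCommutative_of_card_eq_prime_sq (p := 2) (by rw [hn])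
      exact fun a b => mul_comm' a b
  intro k hk l hl
  exact congrArg Subtype.val (key ⟨k, hk⟩ ⟨l, hl⟩)

end GW

/-- see the head of the file -/
structure Mv [Finite G] (Z : Set G) (K : G → Subgroup G) (S S' : Sylow 2 G) (b : G) : Prop where
  w : GW Z K
  cn : CnZ Z K
  ne : (CS Z K (S : Subgroup G)).Nonempty
  mem : b ∈ (S : Subgroup G)
  sq : b * b = 1
  mv : ∀ y ∈ CS Z K (S : Subgroup G), b * y * b⁻¹ ≠ y
  le : ∀ y ∈ CS Z K (S : Subgroup G), ∀ k ∈ K y, k * (b * k * b⁻¹) ∈ (S' : Subgroup G)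
  fx : ∀ x ∈ Subgroup.closure {x | ∃ y ∈ CS Z K (S : Subgroup G), x = y * (b * y * b⁻¹)}, x ≠ 1 →
    ∀ y ∈ CS Z K (S' : Subgroup G), x * y * x⁻¹ ≠ y

namespace Mv

variable [Finite G] {S S' : Sylow 2 G}

theorem conj_CS (w : GW Z K) {S : Subgroup G} {s : G} (hs : s ∈ S) (hy : y ∈ CS Z K S) : s * y * s⁻¹ ∈ CS Z K S := by
  refine ⟨w.conjZ y hy.1 s, ?_⟩
  rw [w.conjK y hy.1]
  intro x hx
  rw [mem_cj] at hx
  have h1 : x = s * (s⁻¹ * x * s) * s⁻¹ := by group
  rw [h1]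
  exact mul_mem (mul_mem hs (hy.2 hx)) (inv_mem hs)

/-- `b` permutes `C_S` -/
theorem cj_mem (h : Mv Z K S S' b) (hy : y ∈ CS Z K (S : Subgroup G)) : b * y * b⁻¹ ∈ CS Z K (S : Subgroup G) :=
  conj_CS h.w h.mem hy

theorem cj_cj (h : Mv Z K S S' b) (y : G) : b * (b * y * b⁻¹) * b⁻¹ = y := by
  have h1 : b⁻¹ = b := inv_eq_of_mul_eq_one_right h.sq
  rw [h1]
  calc b * (b * y * b) * b = (b * b) * y * (b * b) := by group
    _ = y := by rw [h.sq, one_mul, mul_one]

/-- members of different points of `C_S` commute -/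
theorem comm (h : Mv Z K S S' b) (hy : y ∈ CS Z K (S : Subgroup G)) (hu : u ∈ CS Z K (S : Subgroup G)) (hne : y ≠ u)
    {p q : G} (hp : p ∈ K y) (hq : q ∈ K u) : p * q = q * p :=
  (h.w.com S S.isPGroup' hy.1 hu.1 hy.2 hu.2 hne).2 p hp q hq

/-- the homomorphism `k ↦ k * b k b⁻¹` -/
def ph (h : Mv Z K S S' b) (y : G) (hy : y ∈ CS Z K (S : Subgroup G)) : ↥(K y) →* G where
  toFun k := k * (b * k * b⁻¹)
  map_one' := by simp
  map_mul' p q := by
    have h1 := h.comm (h.cj_mem hy) hy (h.mv y hy) (h.w.conj_mem_K hy.1 b p.2) q.2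
    change (p : G) * q * (b * (p * q) * b⁻¹) = p * (b * p * b⁻¹) * (q * (b * q * b⁻¹))
    calc (p : G) * q * (b * (p * q) * b⁻¹) = p * (q * (b * p * b⁻¹)) * (b * q * b⁻¹) := by group
      _ = p * ((b * p * b⁻¹) * q) * (b * q * b⁻¹) := by rw [h1]
      _ = _ := by group

theorem ph_apply (h : Mv Z K S S' b) (hy : y ∈ CS Z K (S : Subgroup G)) (k : K y) :
    h.ph y hy k = k * (b * k * b⁻¹) := rfl

theorem ph_comm (h : Mv Z K S S' b) (hy : y ∈ CS Z K (S : Subgroup G)) (hu : u ∈ CS Z K (S : Subgroup G)) (h1 : y ≠ u)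
    (h2 : b * y * b⁻¹ ≠ u) (p : K y) (q : K u) : Commute (h.ph y hy p) (h.ph u hu q) := by
  have h3 : y ≠ b * u * b⁻¹ := fun e => h2 (by rw [e, h.cj_cj])
  have h4 : b * y * b⁻¹ ≠ b * u * b⁻¹ := fun e => h1 (mul_left_cancel (mul_right_cancel e))
  have c1 : Commute (p : G) q := h.comm hy hu h1 p.2 q.2
  have c2 : Commute (p : G) (b * q * b⁻¹) := h.comm hy (h.cj_mem hu) h3 p.2 (h.w.conj_mem_K hu.1 b q.2)
  have c3 : Commute (b * p * b⁻¹) (q : G) := h.comm (h.cj_mem hy) hu h2 (h.w.conj_mem_K hy.1 b p.2) q.2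
  have c4 : Commute (b * p * b⁻¹) (b * q * b⁻¹) :=
    h.comm (h.cj_mem hy) (h.cj_mem hu) h4 (h.w.conj_mem_K hy.1 b p.2) (h.w.conj_mem_K hu.1 b q.2)
  exact (c1.mul_right c2).mul_left (c3.mul_right c4)

theorem ph_injective (h : Mv Z K S S' b) (hy : y ∈ CS Z K (S : Subgroup G)) : Function.Injective (h.ph y hy) := by
  rw [injective_iff_map_eq_one]
  intro k hk
  rw [h.ph_apply hy] at hk
  have h1 : (k : G)⁻¹ ∈ K (b * y * b⁻¹) := by
    rw [inv_eq_of_mul_eq_one_right hk]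
    exact h.w.conj_mem_K hy.1 b k.2
  have h3 : ∀ l ∈ K y, (k : G)⁻¹ * l = l * (k : G)⁻¹ := fun l hl => h.comm (h.cj_mem hy) hy (h.mv y hy) h1 hl
  rcases h.cn y hy.1 _ ((K y).inv_mem k.2) h3 with h4 | h4
  · exact Subtype.ext (inv_eq_one.1 h4)
  · exfalso
    have h5 : (k : G) = y := by rw [← inv_inv (k : G), h4, h.w.inv hy.1]
    rw [h5, mul_eq_one_iff_eq_inv', h.w.inv hy.1] at hk
    exact h.mv y hy hk

/-! ### The representatives -/

variable (Z K S) in
/-- the points of `S` -/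
abbrev Al : Type _ := ↥(CS Z K (S : Subgroup G))

/-- the action of `b` -/
def sg (h : Mv Z K S S' b) (y : Al Z K S) : Al Z K S := ⟨b * y.1 * b⁻¹, h.cj_mem y.2⟩

theorem sg_sg (h : Mv Z K S S' b) (y : Al Z K S) : h.sg (h.sg y) = y := Subtype.ext (h.cj_cj y.1)

theorem sg_ne (h : Mv Z K S S' b) (y : Al Z K S) : h.sg y ≠ y := fun e => h.mv y.1 y.2 (congrArg Subtype.val e)

/-- representatives of the orbits of `b` -/
def Rp (h : Mv Z K S S' b) : Type _ := {y : Al Z K S // Finite.equivFin _ y < Finite.equivFin _ (h.sg y)}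

instance (h : Mv Z K S S' b) : Finite h.Rp :=
  inferInstanceAs (Finite {y : Al Z K S // Finite.equivFin _ y < Finite.equivFin _ (h.sg y)})

theorem card_le (h : Mv Z K S S' b) : Nat.card (Al Z K S) ≤ 2 * Nat.card h.Rp := by
  have h1 : Function.Surjective (fun x : h.Rp × Bool => if x.2 then x.1.1 else h.sg x.1.1) := by
    intro y
    rcases lt_trichotomy (Finite.equivFin _ y) (Finite.equivFin _ (h.sg y)) with h2 | h2 | h2
    · exact ⟨(⟨y, h2⟩, true), rfl⟩
    · exact absurd ((Finite.equivFin _).injective h2).symm (h.sg_ne y)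
    · refine ⟨(⟨h.sg y, by rw [h.sg_sg]; exact h2⟩, false), ?_⟩
      change h.sg (h.sg y) = y
      exact h.sg_sg y
  have h2 := Nat.card_le_card_of_surjective _ h1
  rw [Nat.card_prod, Nat.card_eq_fintype_card (α := Bool), Fintype.card_bool] at h2
  omega

theorem Rp.ne (h : Mv Z K S S' b) {i j : h.Rp} (hij : i ≠ j) : i.1.1 ≠ j.1.1 := fun e =>
  hij (Subtype.ext (Subtype.ext e))

theorem Rp.ne' (h : Mv Z K S S' b) (i j : h.Rp) : b * i.1.1 * b⁻¹ ≠ j.1.1 := by
  intro e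
  have h1 : h.sg i.1 = j.1 := Subtype.ext e
  have h2 := i.2
  have h3 := j.2
  rw [← h1, h.sg_sg] at h3
  exact lt_asymm h2 h3

theorem pairwise (h : Mv Z K S S' b) : Pairwise fun i j : h.Rp => ∀ (p : K i.1.1) (q : K j.1.1),
    Commute (h.ph i.1.1 i.1.2 p) (h.ph j.1.1 j.1.2 q) := fun i j hij p q =>
  h.ph_comm i.1.2 j.1.2 (Rp.ne h hij) (Rp.ne' h i j) p q

noncomputable instance (h : Mv Z K S S' b) : Fintype h.Rp := Fintype.ofFinite _

/-- the homomorphism `(k_i) ↦ ∏ k_i * b k_i b⁻¹` -/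
noncomputable def Ph (h : Mv Z K S S' b) : ((i : h.Rp) → K i.1.1) →* G :=
  MonoidHom.noncommPiCoprod (fun i => h.ph i.1.1 i.1.2) h.pairwise

theorem Ph_mem (h : Mv Z K S S' b) (H : Subgroup G) (f : (i : h.Rp) → K i.1.1)
    (hf : ∀ i, h.ph i.1.1 i.1.2 (f i) ∈ H) : h.Ph f ∈ H := by
  rw [Ph, MonoidHom.noncommPiCoprod_apply]
  exact Subgroup.noncommProd_mem H _ fun i _ => hf i

open Classical in
theorem Ph_eq (h : Mv Z K S S' b) (f : (i : h.Rp) → K i.1.1) (j : h.Rp) :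
    h.Ph f = h.ph j.1.1 j.1.2 (f j) * h.Ph (Function.update f j 1) := by
  have h1 : f = Pi.mulSingle j (f j) * Function.update f j 1 := by
    ext i
    by_cases hij : i = j
    · subst hij
      simp
    · simp [hij]
  conv_lhs => rw [h1, map_mul]
  congr 1
  exact MonoidHom.noncommPiCoprod_mulSingle (ϕ := fun i : h.Rp => h.ph i.1.1 i.1.2) (hcomm := h.pairwise) j (f j)

/-- an element of `Π K_i` whose image commutes with the image of `K_j` -/
theorem eq_of_comm (h : Mv Z K S S' b) {f : (i : h.Rp) → K i.1.1} (j : h.Rp)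
    (hf : ∀ l : K j.1.1, Commute (h.Ph f) (h.ph j.1.1 j.1.2 l)) : (f j : G) = 1 ∨ (f j : G) = j.1.1 := by
  classical
  have h1 : ∀ l : K j.1.1, Commute (h.Ph (Function.update f j 1)) (h.ph j.1.1 j.1.2 l) := by
    intro l
    have h2 : h.Ph (Function.update f j 1) ∈ centralizer {h.ph j.1.1 j.1.2 l} := by
      refine h.Ph_mem _ _ fun i => ?_
      rw [mem_centralizer_singleton_iff]
      by_cases hij : i = j
      · subst hij
        simp
      · rw [Function.update_of_ne hij]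
        exact ((h.ph_comm i.1.2 j.1.2 (Rp.ne h hij) (Rp.ne' h i j) _ _).symm).symm
    rw [mem_centralizer_singleton_iff] at h2
    exact h2
  have h3 : ∀ l : K j.1.1, Commute (h.ph j.1.1 j.1.2 (f j)) (h.ph j.1.1 j.1.2 l) := by
    intro l
    have h4 : h.ph j.1.1 j.1.2 (f j) = h.Ph f * (h.Ph (Function.update f j 1))⁻¹ := by
      rw [h.Ph_eq f j, mul_inv_cancel_right]
    rw [h4]
    exact (hf l).mul_left (h1 l).inv_left
  refine h.cn j.1.1 j.1.2.1 (f j) (f j).2 fun y hy => ?_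
  have h5 := h3 ⟨y, hy⟩
  have h6 : f j * ⟨y, hy⟩ = ⟨y, hy⟩ * f j := by
    apply h.ph_injective j.1.2
    rw [map_mul, map_mul]
    exact h5
  exact congrArg Subtype.val h6

/-- the order of the kernel -/
theorem card_ker_le (h : Mv Z K S S' b) : Nat.card h.Ph.ker ≤ 2 ^ Nat.card h.Rp := by
  classical
  have h1 : Function.Injective (fun (f : h.Ph.ker) (i : h.Rp) => decide (f.1 i = 1)) := by
    intro f g hfg
    refine Subtype.ext (funext fun i => ?_)
    have hf := h.eq_of_comm (f := f.1) i fun l => by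
      rw [(MonoidHom.mem_ker).1 f.2]
      exact Commute.one_left _
    have hg := h.eq_of_comm (f := g.1) i fun l => by
      rw [(MonoidHom.mem_ker).1 g.2]
      exact Commute.one_left _
    have h2 := congrFun hfg i
    simp only [decide_eq_decide] at h2
    rcases hf with hf | hf
    · have h3 : f.1 i = 1 := Subtype.ext hf
      rw [h3, h2.1 h3]
    · rcases hg with hg | hg
      · have h3 : g.1 i = 1 := Subtype.ext hg
        rw [h3, h2.2 h3]
      · exact Subtype.ext (hf.trans hg.symm)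
  refine (Nat.card_le_card_of_injective _ h1).trans ?_
  rw [Nat.card_fun, Nat.card_eq_fintype_card (α := Bool), Fintype.card_bool]

theorem eight_le (h : Mv Z K S S' b) (i : h.Rp) : 8 ≤ Nat.card (K i.1.1) := h.w.eight_le i.1.2.1

theorem isPGroup_range (h : Mv Z K S S' b) : IsPGroup 2 h.Ph.range :=
  S'.isPGroup'.to_le (by
    rintro _ ⟨f, rfl⟩
    exact h.Ph_mem _ _ fun i => h.le _ i.1.2 _ (f i).2)

/-- `2 ^ m` divides the order of the image -/
theorem two_pow_dvd (h : Mv Z K S S' b) : 2 ^ Nat.card (Al Z K S) ∣ Nat.card h.Ph.range := by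
  classical
  have h1 : Nat.card ((i : h.Rp) → K i.1.1) = Nat.card h.Ph.ker * Nat.card h.Ph.range := by
    rw [← Subgroup.card_mul_index h.Ph.ker, Subgroup.index_ker]
  have h2 : 8 ^ Nat.card h.Rp ≤ Nat.card ((i : h.Rp) → K i.1.1) := by
    rw [Nat.card_pi, Nat.card_eq_fintype_card]
    exact Finset.pow_card_le_prod _ _ _ fun i _ => h.eight_le i
  have h3 := h.card_ker_le
  obtain ⟨e, he⟩ := IsPGroup.iff_card.1 h.isPGroup_range
  rw [he]
  refine pow_dvd_pow 2 ?_
  by_contra hlt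
  rw [not_le] at hlt
  have h4 := h.card_le
  have h5 : 2 ^ e < 4 ^ Nat.card h.Rp := by
    have h6 : (4 : ℕ) ^ Nat.card h.Rp = 2 ^ (2 * Nat.card h.Rp) := by rw [pow_mul]; norm_num
    rw [h6]
    exact Nat.pow_lt_pow_right (by norm_num) (by omega)
  rw [h1, he] at h2
  have h7 : (8 : ℕ) ^ Nat.card h.Rp = 2 ^ Nat.card h.Rp * 4 ^ Nat.card h.Rp := by rw [← mul_pow]; norm_num
  rw [h7] at h2
  have h8 : 0 < 2 ^ Nat.card h.Rp := by positivity
  have h9 : Nat.card h.Ph.ker * 2 ^ e < 2 ^ Nat.card h.Rp * 4 ^ Nat.card h.Rp := by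
    calc Nat.card h.Ph.ker * 2 ^ e ≤ 2 ^ Nat.card h.Rp * 2 ^ e := Nat.mul_le_mul_right _ h3
      _ < 2 ^ Nat.card h.Rp * 4 ^ Nat.card h.Rp := Nat.mul_lt_mul_of_pos_left h5 h8
  exact absurd h2 (not_le.2 h9)

/-- the action of `S'` on `C_S'` -/
noncomputable def act (h : Mv Z K S S' b) : ↥(S' : Subgroup G) →* Equiv.Perm (Al Z K S') where
  toFun s :=
    { toFun := fun y => ⟨(s : G) * y.1 * (s : G)⁻¹, conj_CS h.w s.2 y.2⟩
      invFun := fun y => ⟨(s : G)⁻¹ * y.1 * (s : G)⁻¹⁻¹, conj_CS h.w (inv_mem s.2) y.2⟩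
      left_inv := fun y => Subtype.ext (by
        change (s : G)⁻¹ * ((s : G) * y.1 * (s : G)⁻¹) * (s : G)⁻¹⁻¹ = y.1
        group)
      right_inv := fun y => Subtype.ext (by
        change (s : G) * ((s : G)⁻¹ * y.1 * (s : G)⁻¹⁻¹) * (s : G)⁻¹ = y.1
        group) }
  map_one' := Equiv.ext fun y => Subtype.ext (by
    change (1 : G) * y.1 * (1 : G)⁻¹ = y.1
    rw [one_mul, inv_one, mul_one])
  map_mul' s t := Equiv.ext fun y => Subtype.ext (by
    change ((s : G) * t) * y.1 * ((s : G) * t)⁻¹ = (s : G) * ((t : G) * y.1 * (t : G)⁻¹) * (s : G)⁻¹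
    group)

theorem act_apply (h : Mv Z K S S' b) (s : ↥(S' : Subgroup G)) (y : Al Z K S') :
    (h.act s y).1 = (s : G) * y.1 * (s : G)⁻¹ := rfl

theorem range_le (h : Mv Z K S S' b) : h.Ph.range ≤ (S' : Subgroup G) := by
  rintro _ ⟨f, rfl⟩
  exact h.Ph_mem _ _ fun i => h.le _ i.1.2 _ (f i).2

/-- `|C_S| = |C_S'|` -/
theorem card_eq (h : Mv Z K S S' b) : Nat.card (Al Z K S') = Nat.card (Al Z K S) := by
  obtain ⟨g, hg⟩ := MulAction.exists_smul_eq G S S'
  have h1 : (S' : Subgroup G) = cj g (S : Subgroup G) := by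
    rw [← hg]
    rfl
  have h2 := h.w.ncard_CS_cj g (S : Subgroup G)
  rw [← h1] at h2
  rw [Set.ncard, Set.encard, Set.ncard, Set.encard] at h2
  exact h2

/-- **the count** -/
protected theorem false (h : Mv Z K S S' b) : False := by
  classical
  haveI : Nonempty (Al Z K S) := h.ne.to_subtype
  have hm : Nat.card (Al Z K S) ≠ 0 := Nat.card_pos.ne'
  haveI : Nonempty (Al Z K S') := by
    have h1 : Nat.card (Al Z K S') ≠ 0 := by rw [h.card_eq]; exact hm
    exact (Nat.card_pos_iff.1 (Nat.pos_of_ne_zero h1)).1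
  obtain ⟨L⟩ := this
  -- the action of the image
  let ρ : h.Ph.range →* Equiv.Perm (Al Z K S') := h.act.comp (inclusion h.range_le)
  have hinj : ρ.ker = ⊥ := by
    by_contra hne
    haveI := h.isPGroup_range.isNilpotent
    obtain ⟨x, hx, hx1⟩ := (Subgroup.bot_or_exists_ne_one _).resolve_left
      (Lib.NormalAbelian.normal_inf_center_ne_bot ρ.ker hne)
    obtain ⟨f, hf⟩ := x.2
    have hcen : ∀ y : h.Ph.range, y * x = x * y := mem_center_iff.1 hx.2
    have h3 : ∀ j : h.Rp, (f j : G) = 1 ∨ (f j : G) = j.1.1 := by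
      intro j
      refine h.eq_of_comm j fun l => ?_
      have h4 : h.ph j.1.1 j.1.2 l ∈ h.Ph.range :=
        ⟨Pi.mulSingle j l, MonoidHom.noncommPiCoprod_mulSingle (ϕ := fun i : h.Rp => h.ph i.1.1 i.1.2)
          (hcomm := h.pairwise) j l⟩
      rw [hf]
      exact (congrArg Subtype.val (hcen ⟨_, h4⟩)).symm
    have h5 : (x : G) ∈ Subgroup.closure {x | ∃ y ∈ CS Z K (S : Subgroup G), x = y * (b * y * b⁻¹)} := by
      rw [← hf]
      refine h.Ph_mem _ _ fun i => ?_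
      rw [h.ph_apply]
      rcases h3 i with h6 | h6
      · rw [h6]
        simp
      · rw [h6]
        exact subset_closure ⟨_, i.1.2, rfl⟩
    have h7 : (x : G) ≠ 1 := fun e => hx1 (Subtype.ext e)
    refine h.fx x h5 h7 L.1 L.2 ?_
    have h8 : ρ x = 1 := hx.1
    have h9 := congrArg (fun σ : Equiv.Perm (Al Z K S') => (σ L).1) h8
    exact h9
  have h1 : Nat.card h.Ph.range ∣ Nat.card (Equiv.Perm (Al Z K S')) :=
    Subgroup.card_dvd_of_injective ρ ((MonoidHom.ker_eq_bot_iff ρ).1 hinj)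
  rw [Nat.card_perm, h.card_eq] at h1
  have h2 := h.two_pow_dvd.trans h1
  have h3 := Nat.emultiplicity_two_factorial_lt hm
  exact absurd (le_emultiplicity_of_pow_dvd h2) (not_le.2 h3)

end Mv

end Cfsg.Agent.Cit.Nil.CompR
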