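import Cfsg.Agent.Cit.Nil.CompR.Prod
import Cfsg.Agent.Cit.Nil.CompR.TPm

/-!
# S1309 (6b), COMP, any `r`: the block lemma for members (helper472's Fact 3)

`PW.fact` : `s` centralises the block `B`, a member `Ky` over a point `y` which is C-related to all points of `B`, and a
member `Kx` which does not commute with `Ky`. Then the point of `Kx` is C-related to all points of `B`.
`PW.fact'` : so `x` lies in the frame.
-/

set_option autoImplicit false
set_option linter.style.haveILetI false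
set_option linter.unusedSectionVars false

namespace Cfsg.Agent.Cit.Nil.CompR

open Subgroup Cfsg Cfsg.Agent.Cit
open Cfsg.Agent.Cit.Nil.ROne (CP CS TT OneCls)
open Cfsg.Agent.Cit.Nil.AN (Cm Ce Om Cl OneC St cl_sub cl_symm cl_refl)
open Cfsg.Agent.OddOrderLocal.NilParts
open RG (WR ZZ Ov RR)

universe u

variable {G : Type u} [Group G] {Ω : Set (Subgroup G)} {K L M : Subgroup G} {z v w x y g s a b c : G}
  {A B : Set G} {F F' : Set (Set G)}

namespace PW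

variable [Finite G] (p : PW (ZZ Ω) (RR Ω)) (h : WR Ω)

include p h

/-- **the block lemma for members** -/
theorem fact (f : Frm (ZZ Ω) (RR Ω) F) (hB : B ∈ F) (hT : TPm Ω s) (hs : ∀ b ∈ B, Ce s (RR Ω b))
    (hyB : ∀ b ∈ B, Cm (RR Ω y) (RR Ω b)) (hK : K ∈ Ov Ω y) (hKs : K ≤ centralizer {s}) (hL : L ∈ Ov Ω x)
    (hLs : L ≤ centralizer {s}) (hn : ¬ Cm L K) : ∀ b ∈ B, Cm (RR Ω x) (RR Ω b) := by
  obtain ⟨C, hC, hCB⟩ := f.other hB
  obtain ⟨c, hc⟩ := f.ne C hC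
  intro b hb
  have hBc : B ∈ NN (ZZ Ω) (RR Ω) c := by
    rw [f.nn C hC c hc]
    exact ⟨hB, fun e => hCB (Set.mem_singleton_iff.1 e).symm⟩
  obtain ⟨h1, h2, h3⟩ := NN_cl p.w hBc hb
  have hsub : Cl (ZZ Ω) (RR Ω) c b ⊆ Om (ZZ Ω) (RR Ω) s := fun y hy => ⟨(cl_sub h1 hy).1, hs y (by rw [h3]; exact hy)⟩
  have hin : B ⊆ Cl (ZZ Ω) (RR Ω) s b := by
    rw [h3]
    exact cl_mono hsub
  have hbs : b ∈ Om (ZZ Ω) (RR Ω) s := ⟨f.sub B hB hb, hs b hb⟩
  have hnn : b ∉ oP 2 (centralizer {s}) := fun h4 => h2 (nil_down p.w h1 (isPGroup_oP 2 _) fun y hy =>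
    (nil_cl p.w hbs (hin (by rw [h3]; exact hy))).2 h4)
  obtain ⟨y', hy', hyb, hny⟩ := f.exists_not_cm p.w hB hb
  obtain ⟨Kb, hKb⟩ := hbs.1
  have hKbs := mem_MOm h hbs hKb
  have hone : OneM Ω s Kb := by
    rcases hT Kb hKbs with h4 | h4
    · rw [hKb.2] at h4
      exact absurd h4 hnn
    · exact h4
  -- the members over the points of `B` lie in the class of `Kb`
  have hall : ∀ v ∈ B, ∀ M ∈ Ov Ω v, M ∈ MCl Ω s Kb := fun v hv M hM =>
    mcl_all h hbs hKb (hin hy') hyb (hin hv) hM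
  have hzn : K ∉ MCl Ω s Kb := by
    intro h4
    apply hny
    obtain ⟨Ky, hKy⟩ := f.sub B hB hy'
    have c1 : Cm K Ky := fun k hk l hl => hyB y' hy' k (WR.le_RR hK hk) l (WR.le_RR hKy hl)
    have h5 := hone K h4 Ky (hall y' hy' Ky hKy) c1
    -- `y y'` centralises the members over `b`, as does `y`
    have h6 : Ce y' (RR Ω b) := fun k hk => by
      refine RG.SS_comm (𝒦 := Ov Ω b) (x := y') (fun M hM l hl => ?_) hk
      have h7 := h5 M (hall b hb M hM) l hl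
      rw [hK.2, hKy.2] at h7
      have h8 : y * l = l * y := hyB b hb y (h.RR_mem ⟨K, hK⟩) l (WR.le_RR hM hl)
      have h9 : y * (y' * l) = y * (l * y') := by
        calc y * (y' * l) = y * y' * l := by group
          _ = l * (y * y') := h7
          _ = l * y * y' := by group
          _ = y * (l * y') := by rw [← h8]; group
      exact mul_left_cancel h9
    exact (p.w.csymm (f.sub B hB hb) (f.sub B hB hy') hyb.symm h6).2
  have hxn : L ∉ MCl Ω s Kb := fun h4 => hzn (mcl_step h4 ⟨hK.1, hKs⟩ hn)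
  have h5 : Cm Kb L := mcl_cm mcl_refl ⟨hL.1, hLs⟩ hxn
  have hbx : b ≠ x := by
    rintro rfl
    exact hxn (hall b hb L hL)
  have h6 : RG.CP Ω b x := h.CP_of_cen hKb (fun k hk => (h5 k hk x (h.Ov_mem hL)).symm) hbx
  exact fun k hk l hl => (h.CP_RR h6 hl hk).symm

/-- `x` lies in the frame -/
theorem fact' (f : Frm (ZZ Ω) (RR Ω) F) (hB : B ∈ F) (hT : TPm Ω s) (hs : ∀ b ∈ B, Ce s (RR Ω b))
    (hyB : ∀ b ∈ B, Cm (RR Ω y) (RR Ω b)) (hK : K ∈ Ov Ω y) (hKs : K ≤ centralizer {s}) (hL : L ∈ Ov Ω x)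
    (hLs : L ≤ centralizer {s}) (hn : ¬ Cm L K) (hA : A ∈ F) (ha : a ∈ A) : SF (ZZ Ω) (RR Ω) a x := by
  obtain ⟨b, hb⟩ := f.ne B hB
  have h1 := p.fact h f hB hT hs hyB hK hKs hL hLs hn b hb
  have hx : x ∈ ZZ Ω := ⟨L, hL⟩
  have h2 := p.cp hx (f.sub B hB hb) ((cp_iff p.w hx).2 h1)
  exact p.sf_trans ⟨F, f, ⟨A, hA, ha⟩, B, hB, hb⟩ h2.symm

end PW

end Cfsg.Agent.Cit.Nil.CompR
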