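import Cfsg.Agent.Cit.Nil.CompR.ProdM
import Cfsg.Agent.Cit.Nil.Comp.ProdTwo
import Cfsg.Agent.Cit.Nil.RTwoM.JArg

/-!
# S1309 (6b), COMP, `r = 2`: the product situation, (F3), part 2: two blocks, `C_S = {z, u}` (helper724, bb R18)

* `loc_two` : `t`, `e` commuting involutions centralising the same elements of `R_x`: `t e` is inner on `R_x`;
* `PW.exists_bad` : Z* : `C(zu) ≤ M`, or a bad `x = z^g`, `g ∈ C(zu)`, commuting with `z` and `u`;
* `BlkD Om A`, `BlkQ Om A` : the two facts on the block `A`;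
* `PW.false_of_bad` : contradiction; **`PW.sf_of_mem`** : **(F3)**, `r = 2`.
-/

set_option autoImplicit false
set_option linter.style.haveILetI false
set_option linter.unusedSectionVars false

namespace Cfsg.Agent.Cit.Nil.CompR

open Subgroup Cfsg Cfsg.Agent.Cit
open Cfsg.Agent.Cit.Nil.AN (Om Cl OneC Ce Cm)
open Cfsg.Agent.Cit.Nil.ROne (CP CS TT OneCls CSw)
open Cfsg.Agent.Cit.Nil.RTwoM.L1 (WG WS)
open Cfsg.Agent.OddOrderLocal.NilParts Cfsg.Agent.StdEven.Syl

section loc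

open RTwoM

variable {G : Type*} [Group G] [Finite G] {Om : Set (Subgroup G)} {K L : Subgroup G} {x u e v w a t : G}

/-- inner on one member -/
theorem inn_of_as (h : WM Om) (hK : Mem Om x K) (ha : As K v a) : ∀ k ∈ K, v * k * v⁻¹ = k ∨ v * k * v⁻¹ = x * k := by
  intro k hk
  rw [ha.2 k hk]
  exact hK.comm_or h hk ha.1

/-- an inner and a transposition -/
theorem as_tr (h : WM Om) (hK : Mem Om x K) (ht : As K t a) (he : RG.Tr e K w)
    (H : ∀ k ∈ K, t * k = k * t → e * k = k * e) : False := by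
  have hx1 := hK.inZ.z1 h
  have hxx := hK.inZ.z2 h
  have cmi : ∀ {g k : G}, g * k = k * g → g * k * g⁻¹ = k := fun h3 => by rw [h3, mul_inv_cancel_right]
  -- an element of order 4 commuting with `t`
  obtain ⟨y, hy, hyy, hty⟩ : ∃ y ∈ K, y * y = x ∧ t * y = y * t := by
    rcases hK.sq_cases h ht.1 with h3 | h3 | h3
    · refine ⟨w, he.mem, Tr.sq' he hK, ?_⟩
      rw [h3] at ht
      exact As.one_iff.1 ht _ he.mem
    · refine ⟨w, he.mem, Tr.sq' he hK, ?_⟩
      have h4 := ht.2 _ he.mem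
      rw [h3, ← hK.comm_z h he.mem, mul_inv_cancel_right, mul_inv_eq_iff_eq_mul] at h4
      exact h4
    · exact ⟨a, ht.1, h3, ht.comm⟩
  rcases Tr.comm_iff he hK h hy (cmi (H y hy hty)) with h5 | h5
  · rw [h5, one_mul] at hyy; exact hx1 hyy.symm
  · rw [h5, hxx] at hyy; exact hx1 hyy.symm

/-- **the second local lemma** -/
theorem loc_two (h : WM Om) (hx : InZ Om x) (ht2 : t * t = 1) (he2 : e * e = 1) (hte : t * e = e * t)
    (htx : t * x = x * t) (hex : e * x = x * e) (H : ∀ k ∈ RZ Om x, t * k = k * t ↔ e * k = k * e) :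
    Inn Om x (t * e) := by
  obtain ⟨K, hK⟩ := hx
  obtain ⟨L, hL, hne, -⟩ := hK.other h
  -- both fix the members
  have key : ∀ M, Mem Om x M → cj t M = M → cj e M = M →
      ∀ k ∈ M, t * e * k * (t * e)⁻¹ = k ∨ t * e * k * (t * e)⁻¹ = x * k := by
    intro M hM htM heM
    rcases loc_cases h hM htM ht2 with ⟨y, hy⟩ | ⟨a, ha⟩ <;> rcases loc_cases h hM heM he2 with ⟨y', hy'⟩ | ⟨b, hb⟩
    · exact inn_of_as h hM (hy.mul hy')
    · exact (as_tr h hM hy hb fun k hk => (H k (hM.le_RZ hk)).1).elim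
    · exact (as_tr h hM hy' ha fun k hk => (H k (hM.le_RZ hk)).2).elim
    · have hb' := Tr.same h hM htM hte hb ha
      rcases Tr.mul_cases h hM htM heM ha hb' with h3 | h3
      · exact inn_of_as h hM h3
      · exact inn_of_as h hM h3
  rcases cj_cases h hK hL hne htx with ⟨c1, c2⟩ | ⟨c1, c2⟩ <;>
    rcases cj_cases h hK hL hne hex with ⟨d1, d2⟩ | ⟨d1, d2⟩
  · intro M hM
    rcases hK.cases hL h hne hM with h3 | h3
    · rw [h3] at hM ⊢; exact key K hK c1 d1
    · rw [h3] at hM ⊢; exact key L hL c2 d2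
  · exact (no_swap h hK (swp_of h hK hL hne hex d1) he2 c1 (fun k hk => (H k hk).2)
      (fun k hk => (H k (hK.le_RZ hk)).1)).elim
  · exact (no_swap h hK (swp_of h hK hL hne htx c1) ht2 d1 (fun k hk => (H k hk).1)
      (fun k hk => (H k (hK.le_RZ hk)).2)).elim
  · have hs := swp_of h hK hL hne htx c1
    have h3 : cj (t * e) K = K := by rw [cj_mul, d1, c2]
    obtain ⟨a, -, ha, hb⟩ := hs.cent_fix h hK h3 fun k hk => by
      have e1 := qq_comm hs h ht2 hK hk
      have e2 := (H _ (qq_mem hs h hK hk)).1 e1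
      rw [mul_assoc, e2, ← mul_assoc, e1, mul_assoc]
    intro M hM
    rcases hK.cases hL h hne hM with h4 | h4
    · rw [h4] at hM ⊢; exact inn_of_as h hM ha
    · rw [h4, ← c1] at hM ⊢; exact inn_of_as h hM hb

end loc

variable {G : Type*} [Group G] {Z : Set G} {K : G → Subgroup G} {z u v x y g s t e a b c k : G} {A B : Set G}
  {F F' : Set (Set G)}

namespace PW

section two

variable [Finite G] (p : PW Z K)

include p

/-- with two blocks and `C_S = {z, u}`: the points `c` of the frame centralised by `zu` are `z` and `u` -/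
theorem eq_of_ce (f : Frm Z K F) (hA : A ∈ F) (hB : B ∈ F) (hAB : A ≠ B) (hF : ∀ C ∈ F, C = A ∨ C = B)
    (hzA : z ∈ A) (huB : u ∈ B) {S : Sylow 2 G} (hCS : CS Z K (S : Subgroup G) = {z, u}) (hc : SF Z K z c)
    (hch : Ce (z * u) (K c)) : c = z ∨ c = u := by
  have w := p.w
  have hzZ := f.sub A hA hzA
  have huZ := f.sub B hB huB
  have hcZ := hc.mem_right
  have hzu : z * u = u * z := w.comm_of_cp hzZ huZ (p.cp_of f hA hB hAB hzA huB)
  obtain ⟨C, hC, hcC⟩ := p.exists_block f hA hzA hc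
  have h3 : c ∈ CS Z K (S : Subgroup G) := by
    refine w.mem_CS_of_clique S hcZ fun y hy => ?_
    rw [hCS] at hy
    rcases hF C hC with h1 | h1
    · rw [h1] at hcC
      have h4 : CP K c u := p.cp_of f hA hB hAB hcC huB
      rcases hy with hy | hy
      · rw [hy]
        have h5 : Ce (z * u * u) (K c) := hch.mul (w.cen_of_cp huZ h4)
        rw [mul_assoc, w.sq u huZ, mul_one] at h5
        rcases (w.cen_iff hcZ hzZ).1 h5 with h6 | h6
        · exact Or.inl h6.symm
        · exact Or.inr h6.symm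
      · have hy' : y = u := hy
        rw [hy']
        exact Or.inr h4.symm
    · rw [h1] at hcC
      have h4 : CP K c z := p.cp_of f hB hA (Ne.symm hAB) hcC hzA
      rcases hy with hy | hy
      · rw [hy]
        exact Or.inr h4.symm
      · have hy' : y = u := hy
        rw [hy']
        have h5 : Ce (u * z * z) (K c) := by
          rw [← hzu]
          exact hch.mul (w.cen_of_cp hzZ h4)
        rw [mul_assoc, w.sq z hzZ, mul_one] at h5
        rcases (w.cen_iff hcZ huZ).1 h5 with h6 | h6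
        · exact Or.inl h6.symm
        · exact Or.inr h6.symm
  rw [hCS] at h3
  exact h3

/-- **Z*** -/
theorem exists_bad (ws : WS Z K) (f : Frm Z K F) (hA : A ∈ F) (hB : B ∈ F) (hAB : A ≠ B)
    (hF : ∀ C ∈ F, C = A ∨ C = B) (hz : z ∈ Z) (hzA : z ∈ A) (huB : u ∈ B) {S : Sylow 2 G}
    (hCS : CS Z K (S : Subgroup G) = {z, u})
    (cf : ∀ N : Subgroup G, N ≤ centralizer {z * u} → centralizer {z * u} ≤ normalizer (N : Set G) →
      Odd (Nat.card N) → N = ⊥) (hbad : ¬ centralizer {z * u} ≤ p.PM z hz) :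
    ∃ g, g * (z * u) = (z * u) * g ∧ g * z * g⁻¹ ∈ p.PM z hz ∧ ¬ SF Z K z (g * z * g⁻¹) ∧
      (g * z * g⁻¹) * z = z * (g * z * g⁻¹) := by
  have w := p.w
  have huZ := f.sub B hB huB
  have hcp := p.cp_of f hA hB hAB hzA huB
  have hzu : z * u = u * z := w.comm_of_cp hz huZ hcp
  have hzz := w.sq z hz
  have huu := w.sq u huZ
  by_contra hcon
  push Not at hcon
  apply hbad
  set h := z * u with hh
  have h_ne : h ≠ 1 := w.cp_mul_ne huZ hcp
  have hh2 : h * h = 1 := by
    rw [hh]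
    calc z * u * (z * u) = z * (u * z) * u := by group
      _ = z * (z * u) * u := by rw [← hzu]
      _ = (z * z) * (u * u) := by group
      _ = 1 := by rw [hzz, huu, one_mul]
  have e1 : h * z = u := by rw [hzu, mul_assoc, hzz, mul_one]
  have e3 : z * h = u := by rw [hh, ← mul_assoc, hzz, one_mul]
  have hz1h : z * h = h * z := e3.trans e1.symm
  have hsu : SF Z K z u := p.cp hz huZ hcp
  have hCez : Ce h (K z) := (ce_self w hz).mul (w.cen_of_cp huZ hcp)
  have inv : ∀ g : G, g * h = h * g → g * z * g⁻¹ = z ∨ g * z * g⁻¹ = h * z := by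
    intro g hg
    refine Comp.zstar_mod hh2 h_ne cf hz1h hzz (w.ne z hz) (fun h3 => w.ne u huZ ?_) ?_ g hg
    · rw [← e3, ← h3, hzz]
    · intro g hg h3
      rw [e1]
      have hcZ : g * z * g⁻¹ ∈ Z := w.conjZ z hz g
      have hce : Ce h (K (g * z * g⁻¹)) := by
        have h4 := w.ce_conj hz g hCez
        have e : g * h * g⁻¹ = h := by rw [hg, mul_inv_cancel_right]
        rwa [e] at h4
      refine p.eq_of_ce f hA hB hAB hF hzA huB hCS ?_ hce
      rcases h3 with h3 | h3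
      · -- commuting
        by_contra hn
        exact hcon g hg (p.centralizer_le hz (p.sf_refl hz) (mem_centralizer_singleton_iff.2 h3.symm)) hn h3.symm
      · -- a C-swap
        have hci : (g * z * g⁻¹)⁻¹ = g * z * g⁻¹ := w.inv hcZ
        refine p.csw ws hz hcZ ?_
        have h4 : g * z * g⁻¹ * z = h * (z * (g * z * g⁻¹)) := by
          rw [h3, ← mul_assoc, hh2, one_mul]
        have h5 : g * z * g⁻¹ * z * (g * z * g⁻¹)⁻¹ = u := by
          rw [h4, ← mul_assoc, e1, mul_assoc u, mul_inv_cancel, mul_one]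
        change CP K z (g * z * g⁻¹ * z * (g * z * g⁻¹)⁻¹)
        rw [h5]
        exact hcp
  intro g hg
  have hg' := mem_centralizer_singleton_iff.1 hg
  refine (p.mem_PM_iff hz).2 ?_
  rcases inv g hg' with h3 | h3
  · rw [h3]; exact p.sf_refl hz
  · rw [h3, e1]; exact hsu

end two

end PW

/-! ### The block facts -/

/-- (D) : an outer `x ∈ Z` commuting with `z ∈ A` commutes with a type I partner of `z` in `A` -/
def BlkD (Om : Set (Subgroup G)) (A : Set G) : Prop :=
  ∀ z ∈ A, ∀ x, RTwoM.InZ Om x → x * z = z * x → RTwoM.Out Om z x → ∃ t ∈ A, RTwoM.TI Om z t ∧ x * t = t * x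

/-- (Q) : an involution of `R_z`, not a point, is inner at a type I partner of `z` in `A` -/
def BlkQ (Om : Set (Subgroup G)) (A : Set G) : Prop :=
  ∀ z ∈ A, ∀ q ∈ RTwoM.RZ Om z, q * q = 1 → q ≠ 1 → q ≠ z → ¬ RTwoM.InZ Om q →
    ∃ t ∈ A, RTwoM.TI Om z t ∧ RTwoM.Inn Om t q

namespace PW

section om

open RTwoM (WM Mem InZ RZ CX Inn Swp Ff Out As mem_CX z_mem_CX z_mem_RZ)

variable [Finite G] {Om : Set (Subgroup G)} (h : WM Om) (p : PW (RG.ZZ Om) (RG.RR Om))

include h p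

/-- points commuting with `z` modulo the frame: not C, hence type I or outer -/
theorem ti_or_out (hz : z ∈ RG.ZZ Om) (hx : x ∈ RG.ZZ Om) (hn : ¬ SF (RG.ZZ Om) (RG.RR Om) z x) (hc : x * z = z * x) :
    RTwoM.TI Om x z ∨ (Out Om x z ∧ Out Om z x) := by
  rcases RTwoM.tri h hx hz (fun e => hn (by rw [e]; exact p.sf_refl hz)) hc with h1 | h1 | h1
  · exact (hn (p.cp hx hz ((cp_iff_wr h.wr).2 h1)).symm).elim
  · exact Or.inl h1
  · exact Or.inr h1

/-- a point inner at a point of the frame is of type I there -/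
theorem ti_of_inn (ht : SF (RG.ZZ Om) (RG.RR Om) z t) (hx : x ∈ RG.ZZ Om)
    (hn : ¬ SF (RG.ZZ Om) (RG.RR Om) z x) (hi : Inn Om t x) : RTwoM.TI Om t x := by
  rcases hi.cases h ht.mem_right hx with h1 | h1 | h1
  · exact (hn (h1 ▸ ht)).elim
  · exact (hn (p.sf_trans ht (p.cp ht.mem_right hx ((cp_iff_wr h.wr).2 h1)))).elim
  · exact h1

/-- the product of a type I pair of the block lies in the frame -/
theorem sf_mul (f : Frm (RG.ZZ Om) (RG.RR Om) F) (hA : A ∈ F) (hB : B ∈ F) (hAB : A ≠ B) (hzA : z ∈ A) (huB : u ∈ B)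
    (htA : t ∈ A) (hti : RTwoM.TI Om z t) : SF (RG.ZZ Om) (RG.RR Om) z (z * t) := by
  have w := p.w
  have hzZ := f.sub A hA hzA
  have huZ := f.sub B hB huB
  have heZ : z * t ∈ RG.ZZ Om := hti.inZ_mul h
  have hsu : SF (RG.ZZ Om) (RG.RR Om) z u := ⟨F, f, ⟨A, hA, hzA⟩, B, hB, huB⟩
  have hce : Ce (z * t) (RG.RR Om u) :=
    (w.cen_of_cp hzZ (p.cp_of f hB hA (Ne.symm hAB) huB hzA)).mul
      (w.cen_of_cp (f.sub A hA htA) (p.cp_of f hB hA (Ne.symm hAB) huB htA))
  rcases (w.cen_iff huZ heZ).1 hce with h1 | h1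
  · rw [← h1]; exact hsu
  · exact p.sf_trans hsu (p.cp huZ heZ h1)

/-- **contradiction** from a bad `x = z^g`, `g ∈ C(zu)` -/
theorem false_of_bad (hD : BlkD Om A) (hQ : BlkQ Om A) (f : Frm (RG.ZZ Om) (RG.RR Om) F) (hA : A ∈ F) (hB : B ∈ F)
    (hAB : A ≠ B) (hF : ∀ C ∈ F, C = A ∨ C = B) (hz : z ∈ RG.ZZ Om) (hzA : z ∈ A) (huB : u ∈ B) {S : Sylow 2 G}
    (hCS : CS (RG.ZZ Om) (RG.RR Om) (S : Subgroup G) = {z, u}) (hg : g * (z * u) = (z * u) * g)
    (hxM : g * z * g⁻¹ ∈ p.PM z hz) (hn : ¬ SF (RG.ZZ Om) (RG.RR Om) z (g * z * g⁻¹))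
    (hxz : (g * z * g⁻¹) * z = z * (g * z * g⁻¹)) : False := by
  have w := p.w
  have cn : CnZ (RG.ZZ Om) (RG.RR Om) := CnZ.of_wr h.wr
  have huZ := f.sub B hB huB
  have hcp := p.cp_of f hA hB hAB hzA huB
  have hzu : z * u = u * z := w.comm_of_cp hz huZ hcp
  have hzz := w.sq z hz
  have huu := w.sq u huZ
  have hzS : z ∈ CS (RG.ZZ Om) (RG.RR Om) (S : Subgroup G) := by rw [hCS]; exact Or.inl rfl
  have huS : u ∈ CS (RG.ZZ Om) (RG.RR Om) (S : Subgroup G) := by rw [hCS]; exact Or.inr rfl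
  have hsu : SF (RG.ZZ Om) (RG.RR Om) z u := p.cp hz huZ hcp
  obtain ⟨x, hxe⟩ : ∃ x, x = g * z * g⁻¹ := ⟨_, rfl⟩
  obtain ⟨x', hxe'⟩ : ∃ x', x' = g * u * g⁻¹ := ⟨_, rfl⟩
  rw [← hxe] at hxM hn hxz
  have hxZ : x ∈ RG.ZZ Om := by rw [hxe]; exact w.conjZ z hz g
  have hxZ' : x' ∈ RG.ZZ Om := by rw [hxe']; exact w.conjZ u huZ g
  have hxx := w.sq x hxZ
  have hx1 := w.ne x hxZ
  have hcpx : CP (RG.RR Om) x x' := by
    rw [hxe, hxe']
    have h1 := p.w.conjK z hz g
    have h2 := p.w.conjK u huZ g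
    refine (cp_iff w (w.conjZ z hz g)).2 ?_
    exact cm_conj w hz huZ g hcp.2
  -- `zu` centralises `R_x`
  have hch : Ce (z * u) (RG.RR Om x) := by
    have h4 := w.ce_conj hz g ((ce_self w hz).mul (w.cen_of_cp huZ hcp))
    have e : g * (z * u) * g⁻¹ = z * u := by rw [hg, mul_inv_cancel_right]
    rwa [e, ← hxe] at h4
  have hx_ne : x ≠ z := fun e => hn (by rw [e]; exact p.sf_refl hz)
  -- `z` and `u` centralise the same elements of `R_x`
  have huz : ∀ k ∈ RG.RR Om x, z * k = k * z → u * k = k * u := by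
    intro k hk h1
    have h2 := hch k hk
    have h3 : z * (u * k) = z * (k * u) := by
      rw [← mul_assoc, h2, ← mul_assoc, ← mul_assoc, ← h1]
    exact mul_left_cancel h3
  -- `R_x ∩ M` commutes with `z`
  have hP : ∀ k ∈ RG.RR Om x, k ∈ p.PM z hz → z * k = k * z := by
    intro k hk hkM
    have h1 : SF (RG.ZZ Om) (RG.RR Om) z (k * z * k⁻¹) := (p.mem_PM_iff hz).1 hkM
    have hkh : k * (z * u) = (z * u) * k := (hch k hk).symm
    have h2 : Ce (z * u) (RG.RR Om (k * z * k⁻¹)) := by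
      have h4 := w.ce_conj hz k ((ce_self w hz).mul (w.cen_of_cp huZ hcp))
      have e : k * (z * u) * k⁻¹ = z * u := by rw [hkh, mul_inv_cancel_right]
      rwa [e] at h4
    rcases p.eq_of_ce f hA hB hAB hF hzA huB hCS h1 h2 with h3 | h3
    · rw [mul_inv_eq_iff_eq_mul] at h3
      exact h3.symm
    · exfalso
      -- `zu ∈ R_x`
      have h5 : k * z * k⁻¹ * z⁻¹ ∈ RG.RR Om x := by
        have e1 : k * z * k⁻¹ * z⁻¹ = k * (z * k⁻¹ * z⁻¹) := by group
        rw [e1]
        exact mul_mem hk ((mem_normalizer_iff.1 (w.mem_norm hxZ hxz.symm) k⁻¹).1 (inv_mem hk))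
      rw [h3, w.inv hz, ← hzu] at h5
      rcases cn x hxZ _ h5 hch with h6 | h6
      · exact w.cp_mul_ne huZ hcp h6
      · have h7 : x ∈ TT (RG.ZZ Om) (RG.RR Om) (S : Subgroup G) := by
          rw [← h6]
          exact mul_mem (subset_closure hzS) (subset_closure huS)
        exact hn (p.sf_CS S.isPGroup' hzS (w.mem_CS_of_mem_TT S hxZ h7))
  -- good elements
  have hgd : ∀ v, SF (RG.ZZ Om) (RG.RR Om) z v → ∀ k ∈ RG.RR Om x, v * k = k * v → z * k = k * z :=
    fun v hv k hk h1 => hP k hk (p.centralizer_le hz hv (mem_centralizer_singleton_iff.2 h1.symm))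
  have hsA : ∀ t ∈ A, SF (RG.ZZ Om) (RG.RR Om) z t := fun t ht => ⟨F, f, ⟨A, hA, hzA⟩, A, hA, ht⟩
  rcases p.ti_or_out h hz hxZ hn hxz with hti | ⟨ho, ho'⟩
  · -- type I
    have hxu : x * u = u * x := (huz x (w.mem x hxZ) hxz.symm).symm
    have hnu : ¬ SF (RG.ZZ Om) (RG.RR Om) u x := fun h1 => hn (p.sf_trans hsu h1)
    have hiu : RTwoM.TI Om x u := by
      rcases p.ti_or_out h huZ hxZ hnu hxu with h1 | ⟨h1, -⟩
      · exact h1
      · exfalso
        obtain ⟨L, hL⟩ := hti.inZ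
        obtain ⟨y, hy, hyy⟩ := hti.exists_as h hL
        have hyx : y ∈ RG.RR Om x := by rw [RTwoM.RR_eq]; exact hL.le_RZ hy.1
        have h2 := huz y hyx hy.comm
        have hxx' := hL.inZ.z2 h
        have hfin : y = 1 ∨ y = x → False := by
          rintro (h3 | h3)
          · rw [h3, one_mul] at hyy; exact hx1 hyy.symm
          · rw [h3, hxx] at hyy; exact hx1 hyy.symm
        rcases h1.cases with h3 | h3
        · have h4 : y ∈ cj u L := by
            have := conj_mem_cj (g := u) hy.1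
            rwa [h2, mul_inv_cancel_right] at this
          exact hfin (h3.inf h hL hy.1 h4 rfl)
        · obtain ⟨a, ha⟩ := h3.exists_tr h huu hL
          exact hfin (RTwoM.Tr.comm_iff ha hL h hy.1 (by rw [h2, mul_inv_cancel_right]))
    obtain ⟨q, hq, q', hq', hqx, -, hqq, -, -, -, hxq, -, hxqq⟩ :=
      RTwoM.link h ((cp_iff_wr h.wr).1 hcp) hti hiu
    have hxCX : x ∉ CX Om z := hti.not_mem_CX h
    have hq1 : q ≠ 1 := by
      rintro rfl
      rw [mul_one] at hxq
      exact hxCX hxq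
    have hqz : q ≠ z := by
      rintro rfl
      apply hxCX
      have := mul_mem hxq (z_mem_CX (Om := Om) (z := q) h)
      rwa [mul_assoc, hzz, mul_one] at this
    have hqZ : ¬ InZ Om q := by
      intro hqZ
      -- `q` in the frame
      have h1 : q ∈ CX Om u := by
        rw [mem_CX]
        exact fun M hM k hk => RTwoM.cp_RZ h ((cp_iff_wr h.wr).1 hcp) hq (hM.le_RZ hk)
      have h2 : SF (RG.ZZ Om) (RG.RR Om) z q := by
        rcases (RTwoM.cen_iff h huZ hqZ).1 h1 with h3 | h3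
        · rw [← h3]; exact hsu
        · exact p.sf_trans hsu (p.cp huZ hqZ ((cp_iff_wr h.wr).2 h3))
      refine p.not_le_PM hz hxZ' (fun h3 => hn (p.sf_trans h3 (p.cp hxZ hxZ' hcpx).symm)) fun k hk => ?_
      refine p.centralizer_le hz h2 (mem_centralizer_singleton_iff.2 ?_)
      exact (hcpx.2 q (by rw [RTwoM.RR_eq]; exact hqx) k hk).symm
    obtain ⟨t, htA, hzt, hit⟩ := hQ z hzA q hq hqq hq1 hqz hqZ
    have hst := hsA t htA
    have htZ := f.sub A hA htA
    have hcpt : CP (RG.RR Om) t u := p.cp_of f hA hB hAB htA huB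
    have hitx : Inn Om t x := by
      rw [hxqq]
      refine hit.mul (Inn.of_CX ?_) htZ h
      rw [mem_CX]
      exact fun M hM k hk => (RTwoM.cp_RZ h ((cp_iff_wr h.wr).1 hcpt) (hM.le_RZ hk) hq').symm
    have htx := (p.ti_of_inn h hst hxZ hn hitx).symm h
    -- `t` and `z` act in the same way on `R_x`
    obtain ⟨L, hL⟩ := hti.inZ
    obtain ⟨y, hy, hyy⟩ := hti.exists_as h hL
    obtain ⟨y₁, hy₁, hyy₁⟩ := htx.exists_as h hL
    have h1 : z * y₁ = y₁ * z := hgd t hst y₁ (by rw [RTwoM.RR_eq]; exact hL.le_RZ hy₁.1) hy₁.comm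
    have h2 : y * y₁ = y₁ * y := by
      have h3 := hy.2 y₁ hy₁.1
      rw [h1, mul_inv_cancel_right, eq_mul_inv_iff_mul_eq] at h3
      exact h3.symm
    have h3 : y * y₁ = 1 ∨ y * y₁ = x := by
      rcases hL.of_comm h hy.1 hyy hy₁.1 h2 with h4 | h4 | h4 | h4
      · rw [h4, one_mul] at hyy₁; exact (hx1 hyy₁.symm).elim
      · rw [h4, hxx] at hyy₁; exact (hx1 hyy₁.symm).elim
      · right; rw [h4, hyy]
      · left; rw [h4, ← mul_assoc, hL.comm_z h hy.1, mul_assoc, hyy, hxx]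
    have h4 : ∀ k ∈ L, z * t * k = k * (z * t) := by
      have h5 := hy.mul hy₁
      rcases h3 with h6 | h6
      · rw [h6] at h5
        exact As.one_iff.1 h5
      · intro k hk
        have h7 := h5.2 k hk
        rw [h6, ← hL.comm_z h hk, mul_inv_cancel_right, mul_inv_eq_iff_eq_mul] at h7
        exact h7
    have hs := p.sf_mul h f hA hB hAB hzA huB htA hzt
    have hne : x ≠ z * t := fun e => hn (e ▸ hs)
    have h5 := RTwoM.cp_of_cen h hL (hzt.inZ_mul h) hne h4
    exact hn (p.sf_trans hs (p.cp hxZ hs.mem_right ((cp_iff_wr h.wr).2 h5)).symm)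
  · -- outer
    obtain ⟨t, htA, hzt, hxt⟩ := hD z hzA x hxZ hxz ho'
    have hst := hsA t htA
    have htZ := f.sub A hA htA
    have hse := p.sf_mul h f hA hB hAB hzA huB htA hzt
    have htt := w.sq t htZ
    have hztc := hzt.comm
    have hee := w.sq _ hse.mem_right
    have e1 : t * (z * t) = z := by rw [hztc, ← mul_assoc, htt, one_mul]
    have e2 : z * t * t = z := by rw [mul_assoc, htt, mul_one]
    have h1 := loc_two h hxZ htt hee (by rw [e1, e2]) hxt.symm (by
      rw [mul_assoc, ← hxt, ← mul_assoc, ← hxz, mul_assoc]) (fun k hk => by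
      rw [← RTwoM.RR_eq] at hk
      constructor
      · intro h2
        have h3 := hgd t hst k hk h2
        rw [mul_assoc, h2, ← mul_assoc, h3, mul_assoc]
      · intro h2
        have h3 := hgd _ hse k hk h2
        rw [mul_assoc, ← mul_assoc k, ← h3, mul_assoc] at h2
        exact mul_left_cancel h2)
    rw [e1] at h1
    exact ho.not_inn h hxZ h1

/-- **(F3)** `Z ∩ M = Σ`, `r = 2` -/
theorem sf_of_mem (cf : ∀ z ∈ RG.ZZ Om, ∀ u ∈ RG.ZZ Om, CP (RG.RR Om) z u → ∀ N : Subgroup G,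
      N ≤ centralizer {z * u} → centralizer {z * u} ≤ normalizer (N : Set G) → Odd (Nat.card N) → N = ⊥)
    (blk : ∀ F, Frm (RG.ZZ Om) (RG.RR Om) F → ∀ A ∈ F, (∀ a ∈ A, ∀ b ∈ A, ¬ CP (RG.RR Om) a b) →
      BlkD Om A ∧ BlkQ Om A)
    (hz : z ∈ RG.ZZ Om) (hx : x ∈ RG.ZZ Om) (hxM : x ∈ p.PM z hz) : SF (RG.ZZ Om) (RG.RR Om) z x := by
  by_contra hn
  have w := p.w
  have ws : WS (RG.ZZ Om) (RG.RR Om) := by
    have h1 : RG.RR Om = RZ Om := funext fun z => RTwoM.RR_eq z
    rw [h1]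
    exact h.ws
  have loc := loc_of_wm h
  have cn : CnZ (RG.ZZ Om) (RG.RR Om) := CnZ.of_wr h.wr
  obtain ⟨S, hzS⟩ := w.exists_sylow hz
  obtain ⟨F, f, A, hA, B, hB, hAB, hzA, hF, u, huB, hCS⟩ := p.sf_or_two ws loc cn hzS hx hxM hn
  have huZ := f.sub B hB huB
  have hcp := p.cp_of f hA hB hAB hzA huB
  have huS : u ∈ CS (RG.ZZ Om) (RG.RR Om) (S : Subgroup G) := by rw [hCS]; exact Or.inr rfl
  have hbad : ¬ centralizer {z * u} ≤ p.PM z hz := fun h1 =>
    hn (p.sf_of_good ws loc cn hzS hzS huS hcp.1 h1 hx hxM)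
  obtain ⟨g, h1, h2, h3, h4⟩ := p.exists_bad ws f hA hB hAB hF hz hzA huB hCS (cf z hz u huZ hcp) hbad
  -- no C-pairs in the block `A`
  have hno : ∀ a ∈ A, ∀ b ∈ A, ¬ CP (RG.RR Om) a b := by
    intro a ha b hb hab
    obtain ⟨S', haS, hbS⟩ := w.exists_sylow_of_cp (f.sub A hA ha) (f.sub A hA hb) hab
    have hcard : (CS (RG.ZZ Om) (RG.RR Om) (S' : Subgroup G)).ncard = 2 := by
      rw [w.ncard_CS_eq S S', hCS]
      exact Set.ncard_pair hcp.1
    have h5 : CS (RG.ZZ Om) (RG.RR Om) (S' : Subgroup G) = {a, b} := by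
      symm
      refine Set.eq_of_subset_of_ncard_le ?_ ?_ (Set.toFinite _)
      · rintro y (rfl | rfl)
        · exact haS
        · exact hbS
      · rw [hcard, Set.ncard_pair hab.1]
    have h6 : u ∈ CS (RG.ZZ Om) (RG.RR Om) (S' : Subgroup G) := w.mem_CS_of_clique S' huZ fun y hy => by
      rw [h5] at hy
      right
      rcases hy with rfl | rfl
      · exact p.cp_of f hA hB hAB ha huB
      · exact p.cp_of f hA hB hAB hb huB
    have huA : u ∉ A := fun h7 => hAB (f.disj w hA hB h7 huB)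
    rw [h5] at h6
    rcases h6 with h7 | h7
    · exact huA (h7 ▸ ha)
    · have h8 : u = b := h7
      exact huA (h8 ▸ hb)
  obtain ⟨hD, hQ⟩ := blk F f A hA hno
  exact p.false_of_bad h hD hQ f hA hB hAB hF hz hzA huB hCS h1 h2 h3 h4

end om

end PW

end Cfsg.Agent.Cit.Nil.CompR
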