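import Cfsg.Agent.Cit.Nil.CompR.SecDQ
import Cfsg.Agent.Cit.Nil.CompR.ProdTwoM

/-!
# S1309 (n6), COMP, `r = 2`: the facts (D) and (Q) for the blocks without C-pairs; (F3)

* `blk_of_frm` : a block without C-pairs is a `Blk`; `mem_NB_of_conj`; `oneCls_PB`; `core_NB` : `O(NB A) = 1`;
* **`blkDQ`** : `BlkD Om A ∧ BlkQ Om A`;
* **`PW.sf`** : **(F3)**.
-/

set_option autoImplicit false
set_option linter.style.haveILetI false
set_option linter.unusedSectionVars false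

namespace Cfsg.Agent.Cit.Nil.CompR

open Subgroup Cfsg Cfsg.Agent.Cit
open RTwoM (WM)
open Cfsg.Agent.Cit.Nil.ROne (CP)
open Cfsg.Agent.OddOrderLocal.NilParts Cfsg.Agent.StdEven.Syl

universe u

section frm

variable {G : Type u} [Group G] [Finite G] {Om : Set (Subgroup G)} {A B : Set G} {F : Set (Set G)} {a g : G}

/-- the elements which move a point of the block into the block -/
theorem mem_NB_of_conj (h : GW (RG.ZZ Om) (RG.RR Om)) (f : Frm (RG.ZZ Om) (RG.RR Om) F) (hA : A ∈ F) (ha : a ∈ A)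
    (hg : g * a * g⁻¹ ∈ A) : g ∈ NB A := by
  obtain ⟨-, h3⟩ := f.uniq h (f.conj h g) hA ⟨A, hA, rfl⟩ hg ⟨a, ha, rfl⟩
  replace h3 : A = (fun x => g * x * g⁻¹) '' A := h3
  rw [mem_NB]
  intro x
  constructor
  · intro hx
    have h4 : g * x * g⁻¹ ∈ (fun x => g * x * g⁻¹) '' A := ⟨x, hx, rfl⟩
    rw [← h3] at h4
    exact h4
  · intro hx
    have h5 : g * x * g⁻¹ ∈ (fun x => g * x * g⁻¹) '' A := by rw [← h3]; exact hx
    obtain ⟨y, hy, hyx⟩ := h5
    have h4 : y = x := mul_left_cancel (mul_right_cancel hyx)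
    rwa [← h4]

theorem blk_of_frm (h : WM Om) (f : Frm (RG.ZZ Om) (RG.RR Om) F) (hA : A ∈ F)
    (no : ∀ a ∈ A, ∀ b ∈ A, ¬ CP (RG.RR Om) a b) : Blk Om A where
  w := h
  sub := f.sub A hA
  cen a ha g hg := by
    have h1 : g * a = a * g := mem_centralizer_singleton_iff.1 hg
    exact mem_NB_of_conj (GW.of_wr h.wr h.hyp) f hA ha (by rw [h1, mul_inv_cancel_right]; exact ha)
  nc K hK L hL hc := by
    by_contra hne
    refine no _ hK.2 _ hL.2 ((cp_iff_wr h.wr).2 ?_)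
    exact h.wr.CP_of_cen (z := zz K) ⟨hK.1, rfl⟩ (fun k hk => (hc k hk _ (h.wr.zm hL.1)).symm) hne

/-- the members over the block are one class of the stabiliser -/
theorem oneCls_PB (h : WM Om) (cls : RTwoM.OneCls Om) (f : Frm (RG.ZZ Om) (RG.RR Om) F) (hA : A ∈ F) :
    RTwo.OneCls (PB Om A) := by
  intro K hK L hL
  have hK' : K.map (NB A).subtype ∈ OBl Om A := hK
  have hL' : L.map (NB A).subtype ∈ OBl Om A := hL
  obtain ⟨g, hg⟩ := cls _ hK'.1 _ hL'.1
  have h1 : g * zz (K.map (NB A).subtype) * g⁻¹ ∈ A := by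
    rw [← h.hyp.zz_cj hK'.1, hg]
    exact hL'.2
  have hgN := mem_NB_of_conj (GW.of_wr h.wr h.hyp) f hA hK'.2 h1
  refine ⟨⟨g, hgN⟩, map_injective (NB A).subtype_injective ?_⟩
  have h2 : (cj (⟨g, hgN⟩ : ↥(NB A)) K).map (NB A).subtype = cj g (K.map (NB A).subtype) := cj_map _ _ K
  rw [h2, hg]

/-- `O(NB A) = 1` -/
theorem core_NB (b : Blk Om A) (bw : SBlk (PB Om A)) (core : ∀ t : G, orderOf t = 2 → centralizerPPrimeCore 2 t = ⊥)
    (hne : A.Nonempty) : pPrimeCore 2 ↥(NB A) = ⊥ := by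
  obtain ⟨a, ha⟩ := hne
  obtain ⟨K, hK⟩ := b.sub ha
  have haZ : a * a = 1 := by rw [← hK.2]; exact b.wr.zs hK.1
  have ha1 : a ≠ 1 := by rw [← hK.2]; exact b.wr.zn hK.1
  have hK' : K ∈ OBl Om A := ⟨hK.1, by rw [hK.2]; exact ha⟩
  have hKP := b.subgroupOf_mem hK'
  obtain ⟨O, hO⟩ : ∃ O : Subgroup ↥(NB A), O = pPrimeCore 2 ↥(NB A) := ⟨_, rfl⟩
  haveI hOn : O.Normal := by rw [hO]; exact Lib.Cores.pPrimeCore_normal 2
  have hOc : (Nat.card O).Coprime 2 := by rw [hO]; exact Lib.Cores.pPrimeCore_coprime 2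
  haveI hBn : (sSup (PB Om A)).Normal := RTwo.sSup_normal b.w2.hyp
  -- `O ∩ B = 1`
  have h1 : O ⊓ sSup (PB Om A) = ⊥ := by
    have h2 : O.subgroupOf (sSup (PB Om A)) ≤ pPrimeCore 2 ↥(sSup (PB Om A)) := by
      refine Lib.Cores.le_pPrimeCore inferInstance ?_
      exact Nat.Coprime.coprime_dvd_left (card_comap_dvd_of_injective _ _ (subtype_injective _)) hOc
    rw [bw.core, le_bot_iff, subgroupOf_eq_bot, disjoint_iff] at h2
    exact h2
  have h2 : ⁅O, sSup (PB Om A)⁆ = ⊥ := by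
    rw [eq_bot_iff, ← h1]
    exact commutator_le_inf _ _
  rw [commutator_eq_bot_iff_le_centralizer] at h2
  have h3 : O.map (NB A).subtype ≤ centralizer {a} := by
    rintro _ ⟨o, ho, rfl⟩
    rw [mem_centralizer_singleton_iff]
    have h4 := mem_centralizer_iff.1 (h2 ho) (zz (K.subgroupOf (NB A)))
      ((le_sSup hKP : K.subgroupOf (NB A) ≤ _) (b.w2.hyp.zz_mem hKP))
    have h5 := congrArg Subtype.val h4
    change ((zz (K.subgroupOf (NB A)) : ↥(NB A)) : G) * (o : G) = (o : G) * ((zz (K.subgroupOf (NB A)) : ↥(NB A)) : G) at h5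
    rw [b.zz_subOf hK', hK.2] at h5
    exact h5.symm
  have h4 : O.map (NB A).subtype = oP' 2 (NB A) := by rw [oP'_def, hO]
  have h5 : O.map (NB A).subtype ≤ oP' 2 (centralizer {a}) := by
    refine le_oP' h3 ?_ ?_
    · rw [h4]; exact coprime_oP' 2 _
    · rw [h4]
      exact (b.cen a ha).trans (le_normalizer.trans (normalizer_le_oP' 2 _))
  have h6 : oP' 2 (centralizer ({a} : Set G)) = ⊥ := core a (orderOf_eq_prime (by rw [pow_two]; exact haZ) ha1)
  rw [h6, le_bot_iff, Subgroup.map_eq_bot_iff_of_injective _ (Subgroup.subtype_injective _), hO] at h5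
  exact h5

end frm

section dict

variable {G : Type*} [Group G] [Finite G] {Om : Set (Subgroup G)} {A : Set G} {K L : Subgroup G} {v t g : ↥(NB A)}
  {x y z w k l : G}

theorem Blk.inn_of (b : Blk Om A) (hv : (v : G) ∈ A) (h : RTwo.Inn (PB Om A) v g) : RTwoM.Inn Om (v : G) (g : G) := by
  intro K hK k hk
  have h1 : K ∈ OBl Om A := ⟨hK.1, by rw [hK.2]; exact hv⟩
  rcases h _ (b.mem_of hv ⟨hK.1, hK.2⟩) ⟨k, b.le h1 hk⟩ hk with h2 | h2
  · left; exact congrArg Subtype.val h2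
  · right; exact congrArg Subtype.val h2

theorem Blk.ti_of (b : Blk Om A) (hti : RTwo.TI (PB Om A) v t) :
    (t : G) ∈ A ∧ RTwoM.TI Om (v : G) (t : G) := by
  have hv : (v : G) ∈ A := b.inZ_iff.1 hti.1
  have ht : (t : G) ∈ A := b.inZ_iff.1 hti.2.1
  have hz : ∀ a ∈ A, RTwoM.InZ Om a := by
    intro a ha
    obtain ⟨K, hK⟩ := b.sub ha
    exact ⟨K, hK.1, hK.2⟩
  refine ⟨ht, hz _ hv, hz _ ht, fun e => hti.2.2.1 (Subtype.ext e), congrArg Subtype.val hti.2.2.2.1,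
    b.inn_of hv hti.2.2.2.2, ?_⟩
  intro K hK hc
  apply hti.2.2.1
  have h1 : K ∈ OBl Om A := ⟨hK.1, by rw [hK.2]; exact hv⟩
  refine (hti.2.1.eq_of_cent (b.mem_of hv ⟨hK.1, hK.2⟩) b.w2 fun k hk => ?_).symm
  exact Subtype.ext (hc k hk)

theorem Blk.rz_of (b : Blk Om A) (hz : z ∈ A) (hx : x ∈ RTwoM.RZ Om z) :
    ∃ hx' : x ∈ NB A, (⟨x, hx'⟩ : ↥(NB A)) ∈ RTwo.RZ (PB Om A) ⟨z, b.point_mem hz⟩ := by
  have h1 : RTwoM.RZ Om z ≤ (RTwo.RZ (PB Om A) ⟨z, b.point_mem hz⟩).map (NB A).subtype := by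
    refine sSup_le fun K hK => ?_
    have h2 : K ∈ OBl Om A := ⟨hK.1, by rw [hK.2]; exact hz⟩
    rw [← map_subgroupOf_eq_of_le (b.le h2)]
    exact Subgroup.map_mono (RTwo.Mem.le_RZ (b.mem_of (v := ⟨z, b.point_mem hz⟩) hz ⟨hK.1, hK.2⟩))
  obtain ⟨y, hy, e⟩ := h1 hx
  have e' : (y : G) = x := e
  subst e'
  exact ⟨y.2, hy⟩

/-- an involution which is outer at `z` does not move a type I partner `t` to `z t` -/
theorem out_not_mul (h : WM Om) (hti : RTwoM.TI Om z y) (ho : RTwoM.Out Om z x) (hxx : x * x = 1) :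
    x * y * x⁻¹ ≠ z * y := by
  intro e
  have hzt : z * y = y * z := hti.comm
  rcases ho.cases with hs | hf
  · exact (hti.symm h).key2_swp h hs hxx (by rw [e, hzt])
  obtain ⟨K, hK⟩ := hti.inZ
  obtain ⟨L, hL, hne, hall⟩ := hK.other h
  have hxz : x * z = z * x := hf.1
  obtain ⟨k, hk, hkk⟩ := hti.exists_as h hK
  obtain ⟨l, hl, hll⟩ := hti.exists_as h hL
  -- `x` inverts `k`
  have key : ∀ {K : Subgroup G} {k : G}, RTwoM.Mem Om z K → RTwoM.As K y k → k * k = z → x * k * x⁻¹ = z * k := by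
    intro K k hK hk hkk
    have hxK : cj x K = K := (hf.2 K hK).1
    obtain ⟨a, ha⟩ := hf.exists_tr h hxx hK
    have hzK := hK.inZ.z2 h
    have h1 : x * k * x⁻¹ ∈ K := by
      have := conj_mem_cj (g := x) hk.1
      rwa [hxK] at this
    -- the actions agree
    have h2 : ∀ m ∈ K, (x * k * x⁻¹) * m * (x * k * x⁻¹)⁻¹ = k * m * k⁻¹ := by
      intro m hm
      have hm' : x⁻¹ * m * x ∈ K := by
        have := mem_cj.1 (show m ∈ cj x K by rw [hxK]; exact hm)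
        exact this
      have h3 := hk.2 _ hm'
      have h4 := hk.2 m hm
      have h5 : x * (y * (x⁻¹ * m * x) * y⁻¹) * x⁻¹ = (z * y) * m * (z * y)⁻¹ := by
        rw [← e]; group
      have h6 : (z * y) * m * (z * y)⁻¹ = z * (y * m * y⁻¹) * z⁻¹ := by group
      have hykm : y * m * y⁻¹ ∈ K := by rw [h4]; exact mul_mem (mul_mem hk.1 hm) (inv_mem hk.1)
      have h7 : z * (y * m * y⁻¹) * z⁻¹ = y * m * y⁻¹ := by
        rw [← hK.comm_z h hykm, mul_inv_cancel_right]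
      calc (x * k * x⁻¹) * m * (x * k * x⁻¹)⁻¹ = x * (k * (x⁻¹ * m * x) * k⁻¹) * x⁻¹ := by group
        _ = x * (y * (x⁻¹ * m * x) * y⁻¹) * x⁻¹ := by rw [h3]
        _ = k * m * k⁻¹ := by rw [h5, h6, h7, h4]
    have h3 : x * k * x⁻¹ = k ∨ x * k * x⁻¹ = z * k := by
      have h4 : ∀ m ∈ K, (k⁻¹ * (x * k * x⁻¹)) * m = m * (k⁻¹ * (x * k * x⁻¹)) := by
        intro m hm
        have h5 := h2 m hm
        rw [mul_inv_eq_iff_eq_mul] at h5
        calc (k⁻¹ * (x * k * x⁻¹)) * m = k⁻¹ * ((x * k * x⁻¹) * m) := by group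
          _ = k⁻¹ * (k * m * k⁻¹ * (x * k * x⁻¹)) := by rw [h5]
          _ = _ := by group
      rcases h.wr.central hK.1 (mul_mem (inv_mem hk.1) h1) (fun m hm => h4 m hm) with h5 | h5
      · left
        rw [inv_mul_eq_one] at h5
        exact h5.symm
      · right
        rw [inv_mul_eq_iff_eq_mul, hK.2] at h5
        rw [h5, hK.comm_z h hk.1]
    rcases RTwoM.Tr.cases ha hK h hk.1 h3 with h4 | h4 | h4 | h4
    · exfalso
      rw [h4, one_mul] at hkk
      exact hK.inZ.z1 h hkk.symm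
    · exfalso
      rw [h4, hzK] at hkk
      exact hK.inZ.z1 h hkk.symm
    · rw [h4]; exact RTwoM.Tr.inv' ha hK h
    · rw [h4]; exact RTwoM.Tr.inv' (RTwoM.Tr.symm' ha hK h) hK h
  have hkx := key hK hk hkk
  have hlx := key hL hl hll
  have hz2 := hK.inZ.z2 h
  have hz1 := hK.inZ.z1 h
  have hw : k * l ∈ RTwoM.RZ Om z := mul_mem (hK.le_RZ hk.1) (hL.le_RZ hl.1)
  have hkl : k * l = l * k := hK.comm hL h hne hk.1 hl.1
  -- `y k l` centralises `R_z`
  have hside : ∀ {K L : Subgroup G} {k l : G}, RTwoM.Mem Om z K → RTwoM.Mem Om z L → K ≠ L → RTwoM.As K y k →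
      k * k = z → l ∈ L → ∀ m ∈ K, y * (k * l) * m = m * (y * (k * l)) := by
    intro K L k l hK hL hne hk hkk hl m hm
    have h1 : l * m = m * l := (hK.comm hL h hne hm hl).symm
    have h2 := hk.2 (k * m * k⁻¹) (mul_mem (mul_mem hk.1 hm) (inv_mem hk.1))
    have h3 : k * (k * m * k⁻¹) * k⁻¹ = m := by
      calc k * (k * m * k⁻¹) * k⁻¹ = (k * k) * m * (k * k)⁻¹ := by group
        _ = m := by rw [hkk, ← hK.comm_z h hm, mul_inv_cancel_right]
    rw [h3, mul_inv_eq_iff_eq_mul] at h2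
    calc y * (k * l) * m = y * k * (l * m) := by group
      _ = y * k * (m * l) := by rw [h1]
      _ = (y * (k * m * k⁻¹)) * k * l := by group
      _ = m * y * k * l := by rw [h2]
      _ = _ := by group
  have hyw : y * (k * l) ∈ RTwoM.CX Om z := by
    rw [RTwoM.mem_CX]
    intro M hM m hm
    rcases hK.cases hL h hne hM with e1 | e1
    · subst e1; exact hside hK hL hne hk hkk hl.1 m hm
    · subst e1
      have h1 := hside hL hK (Ne.symm hne) hl hll hk.1 m hm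
      rwa [← hkl] at h1
  have h1 := (hti.symm h).key2 h (g := x) (by rw [e, hzt]) hxz hw hyw
  have h2 : x * (k * l) * x⁻¹ = k * l := by
    calc x * (k * l) * x⁻¹ = (x * k * x⁻¹) * (x * l * x⁻¹) := by group
      _ = (z * k) * (z * l) := by rw [hkx, hlx]
      _ = z * (k * z) * l := by group
      _ = z * (z * k) * l := by rw [hK.comm_z h hk.1]
      _ = (z * z) * (k * l) := by group
      _ = k * l := by rw [hz2, one_mul]
  rw [h2] at h1
  exact hz1 (right_eq_mul.1 h1)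

end dict

section main

variable {G : Type u} [Group G] [Finite G] {Om : Set (Subgroup G)} {A : Set G} {F : Set (Set G)} {z x : G}

/-- **(D) and (Q)** for the blocks without C-pairs -/
theorem blkDQ (i : SecIn.{u}) (h : WM Om) (cls : RTwoM.OneCls Om) (c3 : RTwoM.C3E Om)
    (core : ∀ t : G, orderOf t = 2 → centralizerPPrimeCore 2 t = ⊥) (n3 : ∀ K ∈ Om, ¬ IndDefs.Three K)
    (f : Frm (RG.ZZ Om) (RG.RR Om) F) (hA : A ∈ F) (no : ∀ a ∈ A, ∀ b ∈ A, ¬ CP (RG.RR Om) a b) :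
    BlkD Om A ∧ BlkQ Om A := by
  have b := blk_of_frm h f hA no
  have bw := blkW_of_frm b f hA core c3 n3
  have D := bw.dq i (core_NB b bw core (f.ne A hA)) (oneCls_PB h cls f hA)
  constructor
  · intro z hz x hx hxz ho
    have hxN := b.mem_NB_of hz hxz
    have hxx := hx.z2 h
    obtain ⟨t, hti, h1⟩ := D.d ⟨z, b.point_mem hz⟩ ⟨x, hxN⟩ (b.inZ_iff.2 hz) (Subtype.ext hxz) (Subtype.ext hxx)
    obtain ⟨htA, hti'⟩ := b.ti_of hti
    refine ⟨t, htA, hti', ?_⟩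
    rcases h1 with h1 | h1
    · have h2 : x * (t : G) * x⁻¹ = t := congrArg Subtype.val h1
      rwa [mul_inv_eq_iff_eq_mul] at h2
    · exact absurd (congrArg Subtype.val h1) (out_not_mul h hti' ho hxx)
  · intro z hz q hq hqq h1 h2 _
    obtain ⟨hqN, hq'⟩ := b.rz_of hz hq
    obtain ⟨t, hti, h3⟩ := D.q ⟨z, b.point_mem hz⟩ ⟨q, hqN⟩ (b.inZ_iff.2 hz) hq' (Subtype.ext hqq)
      (fun e => h1 (congrArg Subtype.val e)) (fun e => h2 (congrArg Subtype.val e))
    obtain ⟨htA, hti'⟩ := b.ti_of hti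
    exact ⟨t, htA, hti', b.inn_of htA h3⟩

/-- **(F3)**, `r = 2` -/
theorem PW.sf (i : SecIn.{u}) (h : WM Om) (p : PW (RG.ZZ Om) (RG.RR Om)) (cls : RTwoM.OneCls Om) (c3 : RTwoM.C3E Om)
    (core : ∀ t : G, orderOf t = 2 → centralizerPPrimeCore 2 t = ⊥) (n3 : ∀ K ∈ Om, ¬ IndDefs.Three K)
    (hz : z ∈ RG.ZZ Om) (hx : x ∈ RG.ZZ Om) (hxM : x ∈ p.PM z hz) : SF (RG.ZZ Om) (RG.RR Om) z x := by
  refine p.sf_of_mem h ?_ (fun F f A hA no => blkDQ i h cls c3 core n3 f hA no) hz hx hxM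
  intro z hz u hu hc N hN hn ho
  have gw := p.w
  have e1 : z * u * (z * u) = 1 := by
    have hzu : z * u = u * z := gw.comm_of_cp hz hu hc
    calc z * u * (z * u) = z * (u * z) * u := by group
      _ = z * (z * u) * u := by rw [hzu]
      _ = (z * z) * (u * u) := by group
      _ = 1 := by rw [gw.sq z hz, gw.sq u hu, one_mul]
  have e2 : z * u ≠ 1 := by
    intro e
    apply hc.1
    have e3 : u = z := by
      calc u = (z * z) * u := by rw [gw.sq z hz, one_mul]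
        _ = z * (z * u) := by group
        _ = z := by rw [e, mul_one]
    exact e3.symm
  have h1 : N ≤ oP' 2 (centralizer {z * u}) := le_oP' hN (Nat.coprime_two_right.2 ho) hn
  have h2 : oP' 2 (centralizer ({z * u} : Set G)) = ⊥ := core _ (orderOf_eq_prime (by rw [pow_two]; exact e1) e2)
  rw [h2, le_bot_iff] at h1
  exact h1

end main

end Cfsg.Agent.Cit.Nil.CompR
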