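import Cfsg.Agent.Cit.Nil.CompR.ProdAll
import Cfsg.Agent.Cit.Nil.CompR.SecDQF

/-!
# S1309 (n6), COMP, `r = 2`: the product situation is impossible (all inputs external)

* **`no_frames`** : 531's `false_of_frames` with the block facts (D), (Q) proved (`blkDQ`).
-/

set_option autoImplicit false

namespace Cfsg.Agent.Cit.Nil.CompR

open Subgroup Cfsg Cfsg.Agent.Cit
open Cfsg.Agent.Cit.Nil.RTwoM (WM)
open RG (RR)

universe u

variable {G : Type u} [Group G] [Finite G] {Ω : Set (Subgroup G)}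

/-- **the product situation, `r = 2`, is impossible** -/
theorem no_frames (i : SecIn.{u}) (w : IndDefs.SCW G Ω)
    (core : ∀ t : G, orderOf t = 2 → centralizerPPrimeCore 2 t = ⊥) (h : WM Ω) (cls : RTwoM.OneCls Ω)
    (c3 : RTwoM.C3E Ω) (tp : TP (RG.ZZ Ω) (RR Ω))
    (fr : ∀ z ∈ RG.ZZ Ω, ∃ F, Frm (RG.ZZ Ω) (RR Ω) F ∧ ∃ A ∈ F, z ∈ A)
    (gold : Cit.ROne.Gold ↥(generalizedFittingSubgroup G)) (hB : CloEnd.Bend ↥(generalizedFittingSubgroup G))
    (h75 : CloEnd.Crit1175 ↥(generalizedFittingSubgroup G)) : False :=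
  false_of_frames i w core h cls c3 tp fr gold hB h75
    (fun _ f _ hA no => blkDQ i h cls c3 core w.three f hA no)

/-- 531's name -/
theorem false_of_frames' (i : SecIn.{u}) (w : IndDefs.SCW G Ω)
    (core : ∀ t : G, orderOf t = 2 → centralizerPPrimeCore 2 t = ⊥) (h : WM Ω) (cls : RTwoM.OneCls Ω)
    (c3 : RTwoM.C3E Ω) (tp : TP (RG.ZZ Ω) (RR Ω))
    (fr : ∀ z ∈ RG.ZZ Ω, ∃ F, Frm (RG.ZZ Ω) (RR Ω) F ∧ ∃ A ∈ F, z ∈ A)
    (gold : Cit.ROne.Gold ↥(generalizedFittingSubgroup G)) (hB : CloEnd.Bend ↥(generalizedFittingSubgroup G))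
    (h75 : CloEnd.Crit1175 ↥(generalizedFittingSubgroup G)) : False :=
  no_frames i w core h cls c3 tp fr gold hB h75

end Cfsg.Agent.Cit.Nil.CompR
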