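import Cfsg.Agent.Cit.Nil.RTwoM.NodeTwo
import Cfsg.Agent.Cit.Nil.CompR.ProdFin

/-!
# S1309, the node `r = 2`, the branch FRAMES is impossible

**`frTwoStmt`** : `NodeTwo.FrTwoStmt` from `no_frames` (helper531, helper724).
-/

set_option autoImplicit false
set_option linter.style.haveILetI false

namespace Cfsg.Agent.Cit.Nil.CompR

open Subgroup Cfsg Cfsg.Agent.Cit Cfsg.Agent.Cit.Nil.IndDefs Cfsg.Agent.Cit.Nil.SCMain

universe u

/-- **the branch FRAMES** -/
theorem frTwoStmt (i : SecIn.{u}) : NodeTwo.FrTwoStmt.{u} := by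
  intro G _ _ K w h2 tp _ fr
  have h := (RTwoM.LW.of_sck w h2).wm
  have f := w.fsimp
  haveI := f.sim
  have gold : Cit.ROne.Gold ↥(generalizedFittingSubgroup G) := fun S A h1 h2 h3 => i.lin.gold _ S A h1 h2 h3
  exact no_frames i w.scw w.free h (RTwoM.oneCls_cls K) (RTwoM.C3E.of_c3 h w.c3) tp fr gold (i.lin.bend _) (i.lin.crit _)

end Cfsg.Agent.Cit.Nil.CompR
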