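import Cfsg.Agent.Cit.Nil.AN.Cls
import Cfsg.Agent.Cit.Nil.ROne.Base
import Cfsg.Agent.Cit.Nil.RG.Tri
import Cfsg.Agent.Cit.NilComp

/-!
# S1309 (6b), COMP, any `r`: the world of points

`Z` is the set of the involutions of the members, `K z = R_z` the group generated by the members over `z`.

* `GW Z K` : the facts on points used by the exchange lemma and the trichotomy;
* `GW.of_one` : `r = 1`; `GW.of_wr` : any `r`, from helper488's world `RG.WR Om`: `GW (ZZ Om) (RR Om)`.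
-/

set_option autoImplicit false
set_option linter.style.haveILetI false
set_option linter.unusedSectionVars false

namespace Cfsg.Agent.Cit.Nil.CompR

open Subgroup Cfsg Cfsg.Agent.Cit
open Cfsg.Agent.Cit.Nil.ROne (CP CS TT OneCls)
open Cfsg.Agent.Cit.Nil.AN
open Cfsg.Agent.OddOrderLocal.NilParts Cfsg.Agent.StdEven.Syl

variable {G : Type*} [Group G]

/-- the world of points -/
structure GW (Z : Set G) (K : G → Subgroup G) : Prop where
  sq : ∀ z ∈ Z, z * z = 1
  ne : ∀ z ∈ Z, z ≠ 1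
  mem : ∀ z ∈ Z, z ∈ K z
  conjZ : ∀ z ∈ Z, ∀ g, g * z * g⁻¹ ∈ Z
  conjK : ∀ z ∈ Z, ∀ g, K (g * z * g⁻¹) = cj g (K z)
  two : ∀ ⦃z⦄, z ∈ Z → IsPGroup 2 (K z)
  cent : ∀ ⦃z⦄, z ∈ Z → ∀ ⦃k⦄, k ∈ K z → k * z = z * k
  nab : ∀ ⦃z⦄, z ∈ Z → ¬ Cm (K z) (K z)
  csymm : ∀ ⦃z u⦄, z ∈ Z → u ∈ Z → z ≠ u → Ce u (K z) → CP K z u
  lzero : ∀ ⦃x⦄, x ∈ Z → ∀ N : Subgroup G, IsPGroup 2 N → K x ≤ normalizer (N : Set G) → x ∉ N → ∀ n ∈ N, Ce n (K x)
  com : ∀ S : Subgroup G, IsPGroup 2 S → ∀ ⦃z u⦄, z ∈ Z → u ∈ Z → K z ≤ S → K u ≤ S → z ≠ u → CP K z u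

variable {Z : Set G} {K : G → Subgroup G} {z u v x y g s a b c : G}

/-- `r = 1` -/
theorem GW.of_one [Finite G] (h : ROne.W Z K) : GW Z K where
  sq := h.sq
  ne := h.ne
  mem := h.mem
  conjZ := h.conjZ
  conjK := h.conjK
  two := fun _ hz => h.two hz
  cent := fun _ hz _ hk => h.cent hz hk
  nab := by
    intro z hz h1
    obtain ⟨i, hi, j, hj, -, -, hji, -⟩ := h.exists_ij hz
    apply h.ne z hz
    rw [h1 i hi j hj] at hji
    exact right_eq_mul.1 hji
  csymm := fun _ _ hz hu hne hc => h.csymm hz hu hne hc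
  lzero := fun x hx _ hN hK hxN n hn k hk =>
    (h.hyp.lemma_one ⟨x, hx, rfl⟩ (h.two hx) hN hK (by rwa [h.zz_K hx]) k hk n hn).symm
  com := fun _ hS _ _ hz hu h1 h2 hne => h.com hz hu hS h1 h2 hne

section wr

open RG

variable {Om : Set (Subgroup G)}

theorem cp_iff_wr (h : WR Om) : CP (RR Om) z u ↔ RG.CP Om z u := by
  constructor
  · rintro ⟨h1, h2⟩
    exact ⟨h1, fun K hK L hL a ha b hb => h2 a (WR.le_RR hK ha) b (WR.le_RR hL hb)⟩
  · intro h1
    exact ⟨h1.1, fun a ha b hb => h.CP_RR h1 ha hb⟩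

/-- **any `r`** -/
theorem GW.of_wr [Finite G] (h : WR Om) (hyp : Hyp Om) : GW (ZZ Om) (RR Om) where
  sq := fun _ hz => h.zz_sq hz
  ne := fun _ hz => h.zz_ne hz
  mem := fun _ hz => h.RR_mem hz
  conjZ := fun _ hz g => h.zz_cj hz g
  conjK := by
    intro z _ g
    ext x
    rw [mem_cj]
    constructor
    · intro hx
      have h1 := h.RR_cj hx g⁻¹
      have e1 : g⁻¹ * (g * z * g⁻¹) * g⁻¹⁻¹ = z := by group
      have e2 : g⁻¹ * x * g⁻¹⁻¹ = g⁻¹ * x * g := by group
      rwa [e1, e2] at h1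
    · intro hx
      have h1 := h.RR_cj hx g
      have e2 : g * (g⁻¹ * x * g) * g⁻¹ = x := by group
      rwa [e2] at h1
  two := fun _ hz => h.RR_two hz
  cent := fun _ _ _ hk => (h.RR_cen hk).symm
  nab := by
    rintro z ⟨K, hK⟩ h1
    obtain ⟨y, hy, hyy⟩ := h.exists_four hK.1
    obtain ⟨b, hb, hbb, h2, h3⟩ := h.exists_anti hK.1 hy hyy
    obtain ⟨h4, -⟩ := h.anti hK.1 hy hb hyy hbb h2 h3
    rw [h1 b (WR.le_RR hK hb) y (WR.le_RR hK hy)] at h4
    exact h.zn hK.1 (right_eq_mul.1 h4)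
  csymm := by
    intro z u hz hu hne hc
    rw [cp_iff_wr h]
    obtain ⟨K, hK⟩ := hz
    exact h.CP_of_cen hK (fun k hk => hc k (WR.le_RR hK hk)) hne
  lzero := by
    intro x _ N hN hK hxN n hn k hk
    refine SS_comm (𝒦 := Ov Om x) (x := n) (fun L hL l hl => ?_) hk
    exact (hyp.lemma_one hL.1 (h.two hL.1) hN ((WR.le_RR hL).trans hK) (by rw [hL.2]; exact hxN) l hl n hn).symm
  com := by
    intro S hS z u hz hu h1 h2 hne
    rw [cp_iff_wr h]
    exact ⟨hne, fun K hK L hL => h.pg K hK.1 L hL.1 S hS ((WR.le_RR hK).trans h1) ((WR.le_RR hL).trans h2)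
      (h.Ov_ne hK hL hne)⟩

end wr

namespace GW

section

variable (h : GW Z K)

include h

theorem inv (hz : z ∈ Z) : z⁻¹ = z := inv_eq_of_mul_eq_one_right (h.sq z hz)

theorem comm_of_cp (hz : z ∈ Z) (hu : u ∈ Z) (hc : CP K z u) : z * u = u * z := hc.2 z (h.mem z hz) u (h.mem u hu)

/-- the product of two elements of a C-pair is not `1` -/
theorem cp_mul_ne (hu : u ∈ Z) (hc : CP K z u) : z * u ≠ 1 := fun h1 =>
  hc.1 (by rw [mul_eq_one_iff_eq_inv] at h1; rw [h1, h.inv hu])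

theorem cen_of_cp (hu : u ∈ Z) (hc : CP K z u) : Ce u (K z) := fun k hk => (hc.2 k hk u (h.mem u hu)).symm

theorem cen_iff (hz : z ∈ Z) (hu : u ∈ Z) : Ce u (K z) ↔ z = u ∨ CP K z u := by
  constructor
  · intro hc
    by_cases hne : z = u
    · exact Or.inl hne
    · exact Or.inr (h.csymm hz hu hne hc)
  · rintro (rfl | hc)
    · exact fun k hk => (h.cent hz hk).symm
    · exact h.cen_of_cp hu hc

/-- `C(z)` normalises `K z` -/
theorem norm (hz : z ∈ Z) (hg : g * z = z * g) : cj g (K z) = K z := by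
  rw [← h.conjK z hz g, hg, mul_inv_cancel_right]

theorem mem_norm (hz : z ∈ Z) (hg : g * z = z * g) : g ∈ normalizer (K z : Set G) :=
  mem_normalizer_iff_cj.2 (h.norm hz hg)

/-- a clique lies in a 2-group -/
theorem isPGroup_clique [Finite G] (A : Finset G) (hA : ∀ z ∈ A, z ∈ Z)
    (hc : ∀ z ∈ A, ∀ u ∈ A, z ≠ u → CP K z u) : IsPGroup 2 (⨆ z ∈ A, K z : Subgroup G) := by
  classical
  induction A using Finset.induction_on with
  | empty =>
    have h1 : (⨆ z ∈ (∅ : Finset G), K z : Subgroup G) = ⊥ := by simp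
    rw [h1]
    exact IsPGroup.of_bot
  | insert a A ha ih =>
    rw [Finset.iSup_insert]
    have h1 := ih (fun z hz => hA z (Finset.mem_insert_of_mem hz)) fun z hz u hu =>
      hc z (Finset.mem_insert_of_mem hz) u (Finset.mem_insert_of_mem hu)
    refine IsPGroup.to_sup_of_normal_right' (h.two (hA a (Finset.mem_insert_self a A))) h1 ?_
    -- `K a` centralises the other members
    have h2 : (⨆ z ∈ A, K z : Subgroup G) ≤ centralizer (K a : Set G) := by
      refine iSup₂_le fun z hz b hb => mem_centralizer_iff.2 fun c hcK => ?_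
      exact (hc a (Finset.mem_insert_self a A) z (Finset.mem_insert_of_mem hz) (by
        rintro rfl; exact ha hz)).2 c hcK b hb
    intro c hcK
    rw [mem_normalizer_iff]
    intro x
    have h3 : ∀ x ∈ (⨆ z ∈ A, K z : Subgroup G), c * x * c⁻¹ = x := fun x hx => by
      rw [mem_centralizer_iff.1 (h2 hx) c hcK, mul_inv_cancel_right]
    constructor
    · intro hx
      rw [h3 x hx]; exact hx
    · intro hx
      have h4 : x = c⁻¹ * (c * x * c⁻¹) * c := by group
      have h5 : c⁻¹ * (c * x * c⁻¹) * c = c * x * c⁻¹ := by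
        have h6 := mem_centralizer_iff.1 (h2 hx) c⁻¹ (inv_mem hcK)
        rw [h6, inv_mul_cancel_right]
      rw [h4, h5]; exact hx

theorem mem_CS {S : Subgroup G} : z ∈ CS Z K S ↔ z ∈ Z ∧ K z ≤ S := Iff.rfl

theorem cj_CS (g : G) (S : Subgroup G) (hz : z ∈ Z) : g * z * g⁻¹ ∈ CS Z K (cj g S) ↔ z ∈ CS Z K S := by
  rw [h.mem_CS, h.mem_CS, h.conjK z hz g, cj_le_cj]
  exact ⟨fun h1 => ⟨hz, h1.2⟩, fun h1 => ⟨h.conjZ z hz g, h1.2⟩⟩

theorem ncard_CS_cj [Finite G] (g : G) (S : Subgroup G) : (CS Z K (cj g S)).ncard = (CS Z K S).ncard := by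
  have h1 : CS Z K (cj g S) = (fun x => g * x * g⁻¹) '' CS Z K S := by
    ext x
    constructor
    · intro hx
      have hx' : x = g * (g⁻¹ * x * g) * g⁻¹ := by group
      have hxZ : g⁻¹ * x * g ∈ Z := by
        have := h.conjZ x hx.1 g⁻¹
        rwa [inv_inv] at this
      refine ⟨g⁻¹ * x * g, ?_, hx'.symm⟩
      rw [hx'] at hx
      exact (h.cj_CS g S hxZ).1 hx
    · rintro ⟨y, hy, rfl⟩
      exact (h.cj_CS g S hy.1).2 hy
  rw [h1]
  refine Set.ncard_image_of_injective _ fun a b hab => ?_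
  exact mul_left_cancel (mul_right_cancel hab)

/-- `C_S` is a maximal clique -/
theorem mem_CS_of_clique [Finite G] (S : Sylow 2 G) (hu : u ∈ Z) (hc : ∀ z ∈ CS Z K S, z = u ∨ CP K z u) :
    u ∈ CS Z K S := by
  classical
  haveI : Fact (Nat.Prime 2) := ⟨Nat.prime_two⟩
  by_contra hn
  have hfin : (CS Z K (S : Subgroup G)).Finite := Set.toFinite _
  set A : Finset G := insert u hfin.toFinset with hA
  have hAZ : ∀ z ∈ A, z ∈ Z := by
    intro z hz
    rw [hA, Finset.mem_insert, Set.Finite.mem_toFinset] at hz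
    rcases hz with rfl | hz
    · exact hu
    · exact hz.1
  have hcS : ∀ z ∈ CS Z K (S : Subgroup G), CP K z u := fun z hz => (hc z hz).resolve_left (by
    rintro rfl; exact hn hz)
  have hAc : ∀ z ∈ A, ∀ v ∈ A, z ≠ v → CP K z v := by
    intro z hz v hv hne
    rw [hA, Finset.mem_insert, Set.Finite.mem_toFinset] at hz hv
    rcases hz with rfl | hz <;> rcases hv with rfl | hv
    · exact absurd rfl hne
    · exact (hcS v hv).symm
    · exact hcS z hz
    · exact h.com S S.isPGroup' hz.1 hv.1 hz.2 hv.2 hne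
  obtain ⟨S', hS'⟩ := (h.isPGroup_clique A hAZ hAc).exists_le_sylow
  obtain ⟨g, hg⟩ := MulAction.exists_smul_eq G S S'
  have hgS : (S' : Subgroup G) = cj g S := by
    rw [← hg]
    rfl
  have h1 : (CS Z K (S' : Subgroup G)).ncard = (CS Z K (S : Subgroup G)).ncard := by
    rw [hgS]
    exact h.ncard_CS_cj g S
  have h2 : (A : Set G) ⊆ CS Z K (S' : Subgroup G) := fun z hz =>
    ⟨hAZ z hz, (le_iSup₂ (f := fun z (_ : z ∈ A) => K z) z hz).trans hS'⟩
  have h3 := Set.ncard_le_ncard h2 (Set.toFinite _)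
  rw [Set.ncard_coe_finset, hA, Finset.card_insert_of_notMem (by rw [Set.Finite.mem_toFinset]; exact hn), h1,
    Set.ncard_eq_toFinset_card _ hfin] at h3
  omega

theorem TT_cen {S : Subgroup G} (hS : IsPGroup 2 S) (hz : z ∈ CS Z K S) (hx : x ∈ TT Z K S) :
    Ce x (K z) := by
  have h1 : TT Z K S ≤ centralizer (K z : Set G) := by
    refine (closure_le _).2 fun u hu => mem_centralizer_iff.2 fun k hk => ?_
    by_cases hne : z = u
    · subst hne
      exact h.cent hz.1 hk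
    · exact (h.com S hS hz.1 hu.1 hz.2 hu.2 hne).2 k hk u (h.mem u hu.1)
  exact fun k hk => (mem_centralizer_iff.1 (h1 hx) k hk).symm

theorem TT_comm {S : Subgroup G} (hS : IsPGroup 2 S) (hx : x ∈ TT Z K S) (hy : y ∈ TT Z K S) :
    x * y = y * x := by
  have h1 : TT Z K S ≤ centralizer ({x} : Set G) := by
    refine (closure_le _).2 fun u hu => mem_centralizer_singleton_iff.2 ?_
    exact (h.TT_cen hS hu hx u (h.mem u hu.1)).symm
  exact (mem_centralizer_singleton_iff.1 (h1 hy)).symm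

theorem TT_sq {S : Subgroup G} (hS : IsPGroup 2 S) (hx : x ∈ TT Z K S) : x * x = 1 := by
  refine closure_induction (p := fun x _ => x * x = 1) ?_ ?_ ?_ ?_ hx
  · exact fun u hu => h.sq u hu.1
  · rw [one_mul]
  · intro a b ha hb h1 h2
    calc a * b * (a * b) = a * (b * a) * b := by group
      _ = (a * a) * (b * b) := by rw [h.TT_comm hS hb ha]; group
      _ = 1 := by rw [h1, h2, one_mul]
  · intro a _ h1
    rw [← mul_inv_rev, h1, inv_one]

/-- `T_S ⊓ Z = C_S` -/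
theorem mem_CS_of_mem_TT [Finite G] (S : Sylow 2 G) (hu : u ∈ Z) (hT : u ∈ TT Z K S) : u ∈ CS Z K S :=
  h.mem_CS_of_clique S hu fun _ hz => (h.cen_iff hz.1 hu).1 (h.TT_cen S.isPGroup' hz hT)

theorem TT_le {S : Subgroup G} : TT Z K S ≤ S := (closure_le _).2 fun u hu => hu.2 (h.mem u hu.1)

/-- a C-pair lies in a Sylow subgroup -/
theorem exists_sylow_of_cp [Finite G] (hz : z ∈ Z) (hu : u ∈ Z) (hc : CP K z u) :
    ∃ S : Sylow 2 G, z ∈ CS Z K S ∧ u ∈ CS Z K S := by
  classical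
  obtain ⟨S, hS⟩ := (h.isPGroup_clique {z, u} (by
    intro x hx
    rw [Finset.mem_insert, Finset.mem_singleton] at hx
    rcases hx with rfl | rfl
    · exact hz
    · exact hu) (by
    intro x hx y hy hne
    rw [Finset.mem_insert, Finset.mem_singleton] at hx hy
    rcases hx with rfl | rfl <;> rcases hy with rfl | rfl
    · exact absurd rfl hne
    · exact hc
    · exact hc.symm
    · exact absurd rfl hne)).exists_le_sylow
  exact ⟨S, ⟨hz, (le_iSup₂ (f := fun x (_ : x ∈ ({z, u} : Finset G)) => K x) z (by simp)).trans hS⟩,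
    ⟨hu, (le_iSup₂ (f := fun x (_ : x ∈ ({z, u} : Finset G)) => K x) u (by simp)).trans hS⟩⟩

/-- `z` lies in some `C_S` -/
theorem exists_sylow [Finite G] (hz : z ∈ Z) : ∃ S : Sylow 2 G, z ∈ CS Z K S := by
  obtain ⟨S, hS⟩ := (h.two hz).exists_le_sylow
  exact ⟨S, hz, hS⟩

end

end GW

end Cfsg.Agent.Cit.Nil.CompR
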