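import Cfsg.Agent.Cit.Nil.RTwoM.Act
import Cfsg.Agent.Cit.Nil.RTwoM.L1.SwapW
import Cfsg.Agent.Cit.Nil.CompR.World

/-!
# S1309 (6b), COMP, `r = 2`: the local lemma of (F3) (helper397's FIX LEMMA, whole form)

`u`, `e` commuting involutions commuting with `x ∈ Z`; `u`, `e`, `ue` centralise the same elements of `R_x`.
Then `u` centralises `R_x`.

* `loc_mem` : on one member normalised by `u` and `e`; `no_swap`; `loc_RZ`;
* `Loc3 Z K`, `loc_of_wm`.
-/

set_option autoImplicit false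
set_option linter.style.haveILetI false
set_option linter.unusedSectionVars false

namespace Cfsg.Agent.Cit.Nil.CompR

open Subgroup Cfsg Cfsg.Agent.Cit Cfsg.Agent.Cit.Nil.AN
open Cfsg.Agent.Cit.Nil.ROne (CP CS TT OneCls)

variable {G : Type*} [Group G]

/-- **the local lemma** -/
def Loc3 (Z : Set G) (K : G → Subgroup G) : Prop :=
  ∀ x ∈ Z, ∀ u e : G, u * u = 1 → e * e = 1 → u * e = e * u → u * x = x * u → e * x = x * e →
    (∀ k ∈ K x, u * k = k * u ↔ e * k = k * e) → (∀ k ∈ K x, u * k = k * u ↔ u * e * k = k * (u * e)) →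
    Ce u (K x)

section RTwo

open RTwoM

variable [Finite G] {Om : Set (Subgroup G)} {K L : Subgroup G} {x u e v w a : G}

/-- an involution normalising `K` is inner or a transposition -/
theorem loc_cases (h : WM Om) (hK : Mem Om x K) (huK : cj u K = K) (hu2 : u * u = 1) :
    (∃ y, As K u y) ∨ ∃ a, RG.Tr u K a := by
  rcases h.wr.inn_or_tr hK.1 huK hu2 with ⟨y, hy, h4⟩ | h4
  · exact Or.inl ⟨y, hy, h4⟩
  · exact Or.inr h4

theorem loc_mem (h : WM Om) (hK : Mem Om x K) (huK : cj u K = K) (heK : cj e K = K) (hu2 : u * u = 1)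
    (he2 : e * e = 1) (hue : u * e = e * u) (h1 : ∀ k ∈ K, u * k = k * u ↔ e * k = k * e)
    (h2 : ∀ k ∈ K, u * k = k * u ↔ u * e * k = k * (u * e)) : ∀ k ∈ K, u * k = k * u := by
  have hx1 := hK.inZ.z1 h
  have hxx := hK.inZ.z2 h
  have triv : ∀ {g y : G}, As K g y → (y = 1 ∨ y = x) → ∀ k ∈ K, g * k = k * g := by
    rintro g y hg (rfl | rfl) k hk
    · exact As.one_iff.1 hg k hk
    · have h3 := hg.2 k hk
      rw [← hK.comm_z h hk, mul_inv_cancel_right, mul_inv_eq_iff_eq_mul] at h3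
      exact h3
  have cmi : ∀ {g k : G}, g * k = k * g → g * k * g⁻¹ = k := fun h3 => by rw [h3, mul_inv_cancel_right]
  have cmi' : ∀ {g k : G}, g * k * g⁻¹ = k → g * k = k * g := fun h3 => by rwa [mul_inv_eq_iff_eq_mul] at h3
  rcases loc_cases h hK huK hu2 with ⟨y, hy⟩ | ⟨a, ha⟩
  · rcases hK.sq_cases h hy.1 with h3 | h3 | h3
    · exact triv hy (Or.inl h3)
    · exact triv hy (Or.inr h3)
    have he := (h1 y hy.1).1 hy.comm
    rcases loc_cases h hK heK he2 with ⟨y', hy'⟩ | ⟨b, hb⟩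
    · -- `y'` commutes with `y`
      have h4 : y' * y * y'⁻¹ = y := by rw [← hy'.2 y hy.1]; exact cmi he
      have h5 := cmi' h4
      rcases hK.of_comm h hy.1 h3 hy'.1 h5.symm with h6 | h6 | h6 | h6
      · exact fun k hk => (h1 k hk).2 (triv hy' (Or.inl h6) k hk)
      · exact fun k hk => (h1 k hk).2 (triv hy' (Or.inr h6) k hk)
      · subst h6
        exact fun k hk => (h2 k hk).2 (triv (hy.mul hy') (Or.inr h3) k hk)
      · refine fun k hk => (h2 k hk).2 (triv (hy.mul hy') (Or.inl ?_) k hk)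
        rw [h6, ← mul_assoc, hK.comm_z h hy.1, mul_assoc, h3, hxx]
    · exfalso
      rcases Tr.comm_iff hb hK h hy.1 (cmi he) with h4 | h4
      · rw [h4, one_mul] at h3; exact hx1 h3.symm
      · rw [h4, hxx] at h3; exact hx1 h3.symm
  · rcases loc_cases h hK heK he2 with ⟨y', hy'⟩ | ⟨b, hb⟩
    · have hu := (h1 y' hy'.1).2 hy'.comm
      have h4 := Tr.comm_iff ha hK h hy'.1 (cmi hu)
      exact fun k hk => (h1 k hk).2 (triv hy' h4 k hk)
    · have hb' := Tr.same h hK huK hue hb ha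
      rcases Tr.mul_cases h hK huK heK ha hb' with h3 | h3
      · exact fun k hk => (h2 k hk).2 (As.one_iff.1 h3 k hk)
      · exfalso
        have h4 := (h2 a ha.mem).2 h3.comm
        have haa := Tr.sq' ha hK
        rcases Tr.comm_iff ha hK h ha.mem (cmi h4) with h5 | h5
        · rw [h5, one_mul] at haa; exact hx1 haa.symm
        · rw [h5, hxx] at haa; exact hx1 haa.symm

theorem no_swap (h : WM Om) (hK : Mem Om x K) (hs : Swp Om x v) (hv2 : v * v = 1) (hwK : cj w K = K)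
    (h1 : ∀ k ∈ RZ Om x, v * k = k * v → w * k = k * w) (h2 : ∀ k ∈ K, w * k = k * w → v * k = k * v) : False := by
  have hx1 := hK.inZ.z1 h
  have hxx := hK.inZ.z2 h
  obtain ⟨a, haK, ha, -⟩ := hs.cent_fix h hK hwK fun k hk => h1 _ (qq_mem hs h hK hk) (qq_comm hs h hv2 hK hk)
  -- an element `y` of order 4 of `K` commuting with `w`
  obtain ⟨y, hy, hyy, hwy⟩ : ∃ y ∈ K, y * y = x ∧ w * y = y * w := by
    rcases hK.sq_cases h haK with h3 | h3 | h3
    · obtain ⟨c, qc⟩ := h.exists_q3 hK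
      refine ⟨c 0, qc.mem 0, qc.sq 0, ?_⟩
      rw [h3] at ha
      exact As.one_iff.1 ha _ (qc.mem 0)
    · obtain ⟨c, qc⟩ := h.exists_q3 hK
      refine ⟨c 0, qc.mem 0, qc.sq 0, ?_⟩
      have h4 := ha.2 _ (qc.mem 0)
      rw [h3, ← hK.comm_z h (qc.mem 0), mul_inv_cancel_right, mul_inv_eq_iff_eq_mul] at h4
      exact h4
    · exact ⟨a, haK, h3, ha.comm⟩
  have h3 := h2 y hy hwy
  have h4 : y ∈ cj v K := by
    have := conj_mem_cj (g := v) hy
    rwa [h3, mul_inv_cancel_right] at this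
  rcases hs.inf h hK hy h4 rfl with h5 | h5
  · rw [h5, one_mul] at hyy; exact hx1 hyy.symm
  · rw [h5, hxx] at hyy; exact hx1 hyy.symm

theorem swp_of (h : WM Om) (hK : Mem Om x K) (hL : Mem Om x L) (hne : K ≠ L) (hv : v * x = x * v)
    (hvK : cj v K = L) : Swp Om x v := by
  refine ⟨hv, fun M hM hMM => ?_⟩
  rcases hK.cases hL h hne hM with h1 | h1
  · subst h1; exact hne (hMM.symm.trans hvK)
  · subst h1
    rcases cj_cases h hK hM hne hv with h2 | h2
    · exact hne (h2.1.symm.trans hvK)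
    · exact hne (h2.2.symm.trans hMM)

theorem loc_RZ (h : WM Om) (hx : InZ Om x) (hu2 : u * u = 1) (he2 : e * e = 1) (hue : u * e = e * u)
    (hux : u * x = x * u) (hex : e * x = x * e) (h1 : ∀ k ∈ RZ Om x, u * k = k * u ↔ e * k = k * e)
    (h2 : ∀ k ∈ RZ Om x, u * k = k * u ↔ u * e * k = k * (u * e)) : ∀ k ∈ RZ Om x, u * k = k * u := by
  obtain ⟨K, hK⟩ := hx
  obtain ⟨L, hL, hne, -⟩ := hK.other h
  have hue2 : u * e * (u * e) = 1 := by
    calc u * e * (u * e) = u * (e * u) * e := by group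
      _ = (u * u) * (e * e) := by rw [← hue]; group
      _ = 1 := by rw [hu2, he2, one_mul]
  rcases cj_cases h hK hL hne hux with ⟨c1, c2⟩ | ⟨c1, c2⟩ <;>
    rcases cj_cases h hK hL hne hex with ⟨d1, d2⟩ | ⟨d1, d2⟩
  · have h3 : RZ Om x ≤ centralizer {u} := RZ_le fun M hM k hk => by
      rw [mem_centralizer_singleton_iff]
      have hM' : cj u M = M ∧ cj e M = M := by
        rcases hK.cases hL h hne hM with h3 | h3
        · rw [h3]; exact ⟨c1, d1⟩
        · rw [h3]; exact ⟨c2, d2⟩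
      exact (loc_mem h hM hM'.1 hM'.2 hu2 he2 hue (fun k hk => h1 k (hM.le_RZ hk)) (fun k hk => h2 k (hM.le_RZ hk))
        k hk).symm
    exact fun k hk => (mem_centralizer_singleton_iff.1 (h3 hk)).symm
  · exfalso
    exact no_swap h hK (swp_of h hK hL hne hex d1) he2 c1 (fun k hk => (h1 k hk).2)
      (fun k hk => (h1 k (hK.le_RZ hk)).1)
  · exfalso
    exact no_swap h hK (swp_of h hK hL hne hux c1) hu2 d1 (fun k hk => (h1 k hk).1)
      (fun k hk => (h1 k (hK.le_RZ hk)).2)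
  · exfalso
    have h3 : cj (u * e) K = K := by rw [cj_mul, d1, c2]
    exact no_swap h hK (swp_of h hK hL hne hux c1) hu2 h3 (fun k hk => (h2 k hk).1)
      (fun k hk => (h2 k (hK.le_RZ hk)).2)

/-- **`r = 2`** -/
theorem loc_of_wm (h : WM Om) : Loc3 (RG.ZZ Om) (RG.RR Om) := by
  rintro x ⟨K, hK⟩ u e hu he hue hux hex h1 h2
  rw [RTwoM.RR_eq] at h1 h2 ⊢
  exact loc_RZ h ⟨K, hK⟩ hu he hue hux hex h1 h2

end RTwo

end Cfsg.Agent.Cit.Nil.CompR
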