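import Cfsg.Agent.Cit.Nil.CompR.MTwoA

/-!
# S1309 (n6), COMP, `r = 2`, (M2): the step (0) of helper386's proof (bb R18 #20410)

`No3 Z K` : no 3-cliques of C-partners.

* `GW.e_notMem` : the product of a C-pair is not a point;
* `GW.e_mul` : if `u v` (`u`, `v` a C-pair) centralises `R_x` then `x u v` is a point.
-/

set_option autoImplicit false
set_option linter.style.haveILetI false
set_option linter.unusedSectionVars false

namespace Cfsg.Agent.Cit.Nil.CompR

open Subgroup Cfsg Cfsg.Agent.Cit Cfsg.Agent.Cit.Nil.AN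
open Cfsg.Agent.Cit.Nil.ROne (CP CS TT OneCls)
open Cfsg.Agent.OddOrderLocal.NilParts Cfsg.Agent.StdEven.Syl

variable {G : Type*} [Group G] {Z : Set G} {K : G → Subgroup G} {z u v x y g s a b c t e : G}

/-- no 3-clique -/
def No3 (Z : Set G) (K : G → Subgroup G) : Prop :=
  ∀ z ∈ Z, ∀ a ∈ Z, ∀ b ∈ Z, CP K z a → CP K z b → ¬ CP K a b

namespace GW

variable (h : GW Z K) (n3 : No3 Z K)

include h n3

/-- **(0)**, first part -/
theorem e_notMem (hu : u ∈ Z) (hv : v ∈ Z) (hc : CP K u v) : u * v ∉ Z := by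
  intro he
  have huv := h.comm_of_cp hu hv hc
  have h1 : CP K u (u * v) := by
    refine h.csymm hu he (fun e => h.ne v hv (mul_eq_left.1 e.symm)) ?_
    exact Ce.mul (fun k hk => (h.cent hu hk).symm) (h.cen_of_cp hv hc)
  have h2 : CP K v (u * v) := by
    refine h.csymm hv he (fun e => h.ne u hu (mul_eq_right.1 e.symm)) ?_
    exact Ce.mul (h.cen_of_cp hu hc.symm) (fun k hk => (h.cent hv hk).symm)
  exact n3 u hu v hv (u * v) he hc h1 h2

omit n3 in
/-- `S` acts on `C_S` -/
theorem conj_CS {S : Subgroup G} (hs : s ∈ S) (hz : z ∈ CS Z K S) : s * z * s⁻¹ ∈ CS Z K S := by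
  refine ⟨h.conjZ z hz.1 s, ?_⟩
  rw [h.conjK z hz.1]
  rintro _ ⟨k, hk, rfl⟩
  exact mul_mem (mul_mem hs (hz.2 hk)) (inv_mem hs)

theorem cs_pair {S : Subgroup G} (hS : IsPGroup 2 S) (hu : u ∈ CS Z K S) (hv : v ∈ CS Z K S) (hc : CP K u v)
    (hx : x ∈ CS Z K S) : x = u ∨ x = v := by
  by_contra hn
  push Not at hn
  exact n3 u hu.1 v hv.1 x hx.1 hc (h.com S hS hu.1 hx.1 hu.2 hx.2 hn.1.symm)
    (h.com S hS hv.1 hx.1 hv.2 hx.2 hn.2.symm)

/-- **(0)**, second part -/
theorem e_mul [Finite G] (hu : u ∈ Z) (hv : v ∈ Z) (hc : CP K u v) (hx : x ∈ Om Z K (u * v)) : x * (u * v) ∈ Z := by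
  haveI : Fact (Nat.Prime 2) := ⟨Nat.prime_two⟩
  obtain ⟨S, hSu, hSv⟩ := h.exists_sylow_of_cp hu hv hc
  have huv := h.comm_of_cp hu hv hc
  have hle : (S : Subgroup G) ≤ centralizer {u * v} := by
    intro s hs
    rw [mem_centralizer_singleton_iff]
    have key : s * (u * v) * s⁻¹ = u * v := by
      have e1 : s * (u * v) * s⁻¹ = (s * u * s⁻¹) * (s * v * s⁻¹) := by group
      rw [e1]
      rcases h.cs_pair n3 S.isPGroup' hSu hSv hc (h.conj_CS hs hSu) with h1 | h1 <;>
        rcases h.cs_pair n3 S.isPGroup' hSu hSv hc (h.conj_CS hs hSv) with h2 | h2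
      · exact absurd (mul_left_cancel (mul_right_cancel (h1.trans h2.symm))) hc.1
      · rw [h1, h2]
      · rw [h1, h2, huv]
      · exact absurd (mul_left_cancel (mul_right_cancel (h1.trans h2.symm))) hc.1
    exact mul_inv_eq_iff_eq_mul.1 key
  have hxle : K x ≤ centralizer {u * v} := fun k hk => mem_centralizer_singleton_iff.2 (hx.2 k hk).symm
  have h1 := isSyl_top_of_sylow S
  have h2 : IsSyl (S : Subgroup G) (centralizer {u * v}) := ⟨hle, h1.two, fun X hX _ hSX => h1.max X hX le_top hSX⟩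
  obtain ⟨m, hm, hmx⟩ := h2.exists_conj (h.two hx.1) hxle
  have hm' : m * (u * v) = u * v * m := mem_centralizer_singleton_iff.1 hm
  have h3 : m * x * m⁻¹ ∈ CS Z K (S : Subgroup G) := by
    refine ⟨h.conjZ x hx.1 m, ?_⟩
    rw [h.conjK x hx.1]
    rintro _ ⟨k, hk, rfl⟩
    exact hmx k hk
  have h4 : m * (x * (u * v)) * m⁻¹ = (m * x * m⁻¹) * (u * v) := by
    calc m * (x * (u * v)) * m⁻¹ = (m * x * m⁻¹) * (m * (u * v)) * m⁻¹ := by group
      _ = (m * x * m⁻¹) * (u * v * m) * m⁻¹ := by rw [hm']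
      _ = _ := by group
  have h5 : m * (x * (u * v)) * m⁻¹ ∈ Z := by
    rw [h4]
    rcases h.cs_pair n3 S.isPGroup' hSu hSv hc h3 with h6 | h6
    · rw [h6, ← mul_assoc, h.sq u hu, one_mul]; exact hv
    · rw [h6, huv, ← mul_assoc, h.sq v hv, one_mul]; exact hu
  have h6 := h.conjZ _ h5 m⁻¹
  have h7 : m⁻¹ * (m * (x * (u * v)) * m⁻¹) * m⁻¹⁻¹ = x * (u * v) := by group
  rwa [h7] at h6

omit n3 in
/-- `|C_S| = 2` : no 3-cliques -/
theorem no3_of_ncard [Finite G] (h2 : ∀ S : Sylow 2 G, (CS Z K (S : Subgroup G)).ncard ≤ 2) : No3 Z K := by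
  classical
  intro z hz a ha b hb h1 h3 h4
  obtain ⟨S, hS⟩ := (h.isPGroup_clique {z, a, b} (by
    intro x hx
    simp only [Finset.mem_insert, Finset.mem_singleton] at hx
    rcases hx with rfl | rfl | rfl
    · exact hz
    · exact ha
    · exact hb) (by
    intro x hx y hy hne
    simp only [Finset.mem_insert, Finset.mem_singleton] at hx hy
    rcases hx with rfl | rfl | rfl <;> rcases hy with rfl | rfl | rfl
    · exact absurd rfl hne
    · exact h1
    · exact h3
    · exact h1.symm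
    · exact absurd rfl hne
    · exact h4
    · exact h3.symm
    · exact h4.symm
    · exact absurd rfl hne)).exists_le_sylow
  have h5 : (({z, a, b} : Finset G) : Set G) ⊆ CS Z K (S : Subgroup G) := by
    intro x hx
    refine ⟨?_, (le_iSup₂ (f := fun x (_ : x ∈ ({z, a, b} : Finset G)) => K x) x hx).trans hS⟩
    simp only [Finset.coe_insert, Finset.coe_singleton, Set.mem_insert_iff, Set.mem_singleton_iff] at hx
    rcases hx with rfl | rfl | rfl
    · exact hz
    · exact ha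
    · exact hb
  have h6 := Set.ncard_le_ncard h5 (Set.toFinite _)
  rw [Set.ncard_coe_finset, Finset.card_insert_of_notMem, Finset.card_insert_of_notMem, Finset.card_singleton] at h6
  · have := h2 S
    omega
  · rw [Finset.mem_singleton]; exact h4.1
  · rw [Finset.mem_insert, Finset.mem_singleton]
    push Not
    exact ⟨h1.1, h3.1⟩

end GW

end Cfsg.Agent.Cit.Nil.CompR
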