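import Cfsg.Agent.Cit.Nil.CompR.QuoC
import Cfsg.Agent.Cit.Nil.CompR.BThLift
import Cfsg.Agent.Cit.Nil.CompR.MTwoZero
import Cfsg.Agent.Cit.Nil.CompR.MTwoB
import Cfsg.Agent.Cit.Nil.RTwo.InnerMain
import Cfsg.Agent.Cit.Nil.ROne.NodeOne

/-!
# S1309 (n6), `r = 2`, `AllOne`: the world and the quotient worlds `C(z)/C(X_z)` (helper386)

* `AOIn2` : the external inputs;
* `AOW G K` : the world of `AllOne`, `r = 2`: `AOW.wr`, `AOW.gw`, `AOW.one_cls`, `AOW.ov2`, `AOW.exists_cp`, **`AOW.blk`**;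
* `YW Ω z f` : the output for (M2): `f : C(z) → Y`, kernel `NC (OmB Ω z)`, `W2` of the image, and
  `(EqEps ∧ AW ∧ SCe) ∨ (SW ∧ SB ∧ SCe)`;
* **`AOW.exists_yw`** : it exists if there is no 3-clique.
-/

set_option autoImplicit false
set_option linter.style.haveILetI false
set_option linter.unusedSectionVars false

namespace Cfsg.Agent.Cit.Nil.CompR

open Subgroup Cfsg Cfsg.Agent.Cit
open Cfsg.Agent.Cit.Nil.ROne (CP FSimp NoThree)
open RG (WR Ov RR)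
open IndDefs (SCW T0)
open RTwoM.Quo (QM QT)
open RTwo (W2 IThree EqEps AW SCe SW SB CFA Rot)

universe u

/-- the external inputs of the branch `AllOne`, `r = 2` -/
structure AOIn2 : Prop where
  /-- S1169, Bender, S1175, S1173 -/
  lin : RTwo.LIn.{u}
  hev : ∀ (G : Type u) [Group G] [Finite G], Comp.EvQ G
  /-- `LO.cfa_of_two` -/
  cfa : ∀ (Y : Type u) [Group Y] [Finite Y] (X : Subgroup Y), FSimp X → 2 ∣ Nat.card X →
    ∀ O : Set (Subgroup Y), Hyp O → (∀ K ∈ O, Nat.card K = 8) → ∀ K ∈ O, ∀ L ∈ O, K ≠ L → zz K = zz L → CFA Y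

/-- **the world of `AllOne`, `r = 2`** -/
structure AOW (G : Type u) [Group G] [Finite G] (K : Subgroup G) : Prop where
  w : SCW G (cls K)
  core : ∀ t : G, orderOf t = 2 → centralizerPPrimeCore 2 t = ⊥
  c3 : Nil.C3 K
  n3 : NoThree (cls K)
  h2 : (AssemblyNil.ovr K).ncard = 2
  ao : AllOne (RG.ZZ (cls K)) (RR (cls K))

theorem No3.bb {G : Type*} [Group G] {Z : Set G} {K : G → Subgroup G} (n : No3 Z K) :
    ∀ v ∈ Z, ∀ x ∈ BB Z K v, ∀ y ∈ BB Z K v, ¬ CP K x y :=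
  fun v hv x hx y hy => n v hv x hx.1 y hy.1 hx.2 hy.2

namespace AOW

variable {G : Type u} [Group G] [Finite G] {K L M : Subgroup G} {z u v a b g : G} (m : AOW G K)

include m

theorem wr : WR (cls K) := WR.of_hyp m.w.t0.hyp m.w.t0.card

theorem gw : GW (RG.ZZ (cls K)) (RR (cls K)) := GW.of_wr m.wr m.w.t0.hyp

omit [Finite G] m in
theorem one_cls : ∀ L ∈ cls K, ∀ M ∈ cls K, ∃ g, cj g L = M := by
  rintro _ ⟨g, rfl⟩ _ ⟨g', rfl⟩
  exact ⟨g' * g⁻¹, by rw [cj_mul, cj_inv_cj]⟩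

theorem ov2 : ∀ u ∈ RG.ZZ (cls K), (Ov (cls K) u).ncard = 2 := by
  rintro _ ⟨_, ⟨g, rfl⟩, rfl⟩
  have h2 : Ov (cls K) (zz (cj g K)) = (cj g) '' (AssemblyNil.ovr K) := by
    ext M
    constructor
    · rintro ⟨hM, hz⟩
      refine ⟨cj g⁻¹ M, ⟨m.w.t0.hyp.conj M hM _, ?_⟩, cj_cj_inv g M⟩
      rw [m.w.t0.hyp.zz_cj hM, hz, m.w.t0.hyp.zz_cj (self_mem_cls K)]
      group
    · rintro ⟨M, ⟨hM, hz⟩, rfl⟩
      refine ⟨m.w.t0.hyp.conj M hM g, ?_⟩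
      rw [m.w.t0.hyp.zz_cj hM, hz, m.w.t0.hyp.zz_cj (self_mem_cls K)]
  rw [h2, Set.ncard_image_of_injective _ (fun A B hAB => cj_inj.1 hAB), m.h2]

/-- every point has a C-partner -/
theorem exists_cp (hz : z ∈ RG.ZZ (cls K)) : ∃ a ∈ RG.ZZ (cls K), RG.CP (cls K) z a := by
  obtain ⟨K₁, hK₁, K₂, hK₂, hcm, hne⟩ := m.w.two
  have h1 : RG.CP (cls K) (zz K₁) (zz K₂) :=
    m.wr.CP_of_cen (z := zz K₁) ⟨hK₁, rfl⟩ (fun k hk => (hcm k hk _ (m.wr.zm hK₂)).symm) hne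
  obtain ⟨L, hL, rfl⟩ := hz
  obtain ⟨g, rfl⟩ := one_cls _ hK₁ _ hL
  refine ⟨g * zz K₂ * g⁻¹, m.wr.zz_cj ⟨K₂, hK₂, rfl⟩ g, ?_⟩
  rw [m.wr.zcj hK₁]
  exact m.wr.CP_cj h1 g

omit m in
theorem core_cen (core : ∀ t : G, orderOf t = 2 → centralizerPPrimeCore 2 t = ⊥) (h : orderOf z = 2) :
    Cfsg.pPrimeCore 2 ↥(centralizer ({z} : Set G)) = ⊥ := by
  have h3 := core z h
  unfold centralizerPPrimeCore at h3
  exact (Subgroup.map_eq_bot_iff_of_injective _ (Subgroup.subtype_injective _)).1 h3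

/-- **the block world** -/
theorem blk (hz : z ∈ RG.ZZ (cls K)) : BlkC (cls K) z where
  t0 := m.w.t0
  ao := m.ao
  core := by
    apply core_cen m.core
    obtain ⟨L, hL, rfl⟩ := hz
    exact m.w.t0.hyp.orderOf_zz hL
  hz := hz
  ex := m.exists_cp hz

/-- no member of `C(z)` has `Three` -/
theorem not_three (hz : z ∈ RG.ZZ (cls K)) : ∀ L ∈ restr (cls K) (centralizer {z}), ¬ IndDefs.Three L := by
  obtain ⟨M, hM, rfl⟩ := hz
  refine m.n3 M ?_ (zz M) (subset_closure ⟨M, hM, le_rfl, rfl⟩) (m.wr.zn hM)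
  exact IsPGroup.of_card (n := 3) (by rw [m.w.t0.card M hM]; norm_num)

end AOW

/-- **the quotient world at `z`** -/
structure YW {G Y : Type u} [Group G] [Finite G] [Group Y] (Ω : Set (Subgroup G)) (z : G)
    (f : ↥(centralizer ({z} : Set G)) →* Y) : Prop where
  surj : Function.Surjective f
  ker : f.ker = NC (OmB Ω z)
  qm : QM (OmB Ω z) f
  wB : W2 (OmB Ω z)
  w2 : W2 (img f (OmB Ω z))
  inj : ∀ A ∈ OmB Ω z, ∀ B ∈ OmB Ω z, f (zz A) = f (zz B) → zz A = zz B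
  odd : ∀ x ∈ sSup (OmB Ω z), f x = 1 → Odd (orderOf x) → x = 1
  oc : RTwo.OneCls (img f (OmB Ω z))
  rot : Rot (img f (OmB Ω z))
  cfa : CFA Y
  fs : ∃ X : Subgroup Y, FSimp X ∧ 2 ∣ Nat.card X
  ne : (img f (OmB Ω z)).Nonempty
  n3 : ¬ IThree (img f (OmB Ω z))
  out : (EqEps (img f (OmB Ω z)) ∧ AW (img f (OmB Ω z)) ∧ SCe (img f (OmB Ω z))) ∨
    (SW (img f (OmB Ω z)) ∧ SB (img f (OmB Ω z)) ∧ SCe (img f (OmB Ω z)))

namespace AOW

variable {G : Type u} [Group G] [Finite G] {K L M : Subgroup G} {z u v a b g : G} (m : AOW G K)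

include m

/-- elements of odd order of `X_z ∩ ker` are trivial -/
theorem odd_of (hz : z ∈ RG.ZZ (cls K)) {Y : Type*} [Group Y] {f : ↥(centralizer ({z} : Set G)) →* Y}
    (q : QM (OmB (cls K) z) f) : ∀ x ∈ sSup (OmB (cls K) z), f x = 1 → Odd (orderOf x) → x = 1 :=
  odd_of_core q (m.blk hz).core

/-- **the quotient worlds of (M2)** -/
theorem exists_yw (i : AOIn2.{u}) (no : No3 (RG.ZZ (cls K)) (RR (cls K))) (hz : z ∈ RG.ZZ (cls K)) :
    ∃ (Y : Type u) (_ : Group Y) (_ : Finite Y) (f : ↥(centralizer ({z} : Set G)) →* Y), YW (cls K) z f := by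
  have no := no.bb
  have β := m.blk hz
  haveI hn : (NC (OmB (cls K) z)).Normal := ⟨fun n hn g => NC_conj β.wr hn g⟩
  obtain ⟨f, hf⟩ : ∃ f : ↥(centralizer ({z} : Set G)) →* ↥(centralizer ({z} : Set G)) ⧸ NC (OmB (cls K) z),
      f = QuotientGroup.mk' _ := ⟨_, rfl⟩
  have hs : Function.Surjective f := by rw [hf]; exact QuotientGroup.mk'_surjective _
  have hk : f.ker = NC (OmB (cls K) z) := by rw [hf]; exact QuotientGroup.ker_mk' _
  refine ⟨_, inferInstance, inferInstance, f, ?_⟩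
  have qt := β.qt hs hk
  have qm := qt.qm i.hev
  have wB : W2 (OmB (cls K) z) := β.w2B (no z hz) m.ov2
  have w2 : W2 (img f (OmB (cls K) z)) := qm.w2 wB
  have inj : ∀ A ∈ OmB (cls K) z, ∀ B ∈ OmB (cls K) z, f (zz A) = f (zz B) → zz A = zz B :=
    fun A hA B hB h => qm.pt_inj wB ⟨A, hA, rfl⟩ ⟨B, hB, rfl⟩ h
  obtain ⟨A, hA⟩ := β.exists_OmB
  have hcl : cls (A.map f) = img f (OmB (cls K) z) := β.oneCls_img hs no one_cls hA
  obtain ⟨X, fs, -, h2⟩ := qt.fsimp i.hev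
  have w2' : W2 (cls (A.map f)) := by rw [hcl]; exact w2
  have c3 : Nil.C3 (A.map f) := by
    refine β.c3_img hk no hA ?_
    obtain ⟨g, hg⟩ := one_cls K (self_mem_cls K) _ hA.1
    rw [← hg]
    exact ROne.c3_cj m.c3 g
  have rot : Rot (img f (OmB (cls K) z)) := by rw [← hcl]; exact RTwo.rot_cls w2' c3
  have oc : RTwo.OneCls (img f (OmB (cls K) z)) := by rw [← hcl]; exact one_cls
  have n3 : ¬ IThree (img f (OmB (cls K) z)) := by
    intro h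
    obtain ⟨B, hB, h3⟩ := h.lift qm w2 inj (m.odd_of hz qm)
    exact m.not_three hz B hB.1 h3
  have cfa : CFA (↥(centralizer ({z} : Set G)) ⧸ NC (OmB (cls K) z)) := by
    have hAi : A.map f ∈ img f (OmB (cls K) z) := ⟨A, hA, rfl⟩
    obtain ⟨B, hB, hBA, hBz, -⟩ := w2.two _ hAi
    exact i.cfa _ X fs h2 _ w2.hyp w2.card _ hB _ hAi hBA hBz
  exact ⟨hs, hk, qm, wB, w2, inj, m.odd_of hz qm, oc, rot, cfa, ⟨X, fs, h2⟩, ⟨_, ⟨A, hA, rfl⟩⟩, n3, RTwo.main_inner' i.lin w2 oc rot cfa ⟨_, ⟨A, hA, rfl⟩⟩ fs h2 n3⟩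

end AOW

end Cfsg.Agent.Cit.Nil.CompR
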