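import Cfsg.Agent.Cit.Nil.CompR.MThreeSec
import Cfsg.Agent.Cit.Nil.CompR.QuoD
import Cfsg.Agent.Cit.Nil.RTwoM.Leaf

/-!
# S1309 (n6), `r = 2`, AllOne, (M3): the end

* **`AOW.false_of_m3`** : there is no 3-clique.
-/

set_option autoImplicit false

namespace Cfsg.Agent.Cit.Nil.CompR

open Subgroup Cfsg Cfsg.Agent.Cit

universe u

/-- **(M3)** : a 3-clique is impossible -/
theorem AOW.false_of_m3 {G : Type u} [Group G] [Finite G] {K : Subgroup G} (m : AOW G K) (i : AOIn2.{u})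
    (h : ¬ No3 (RG.ZZ (cls K)) (RG.RR (cls K))) : False := by
  refine false_of_tri3 i.lin i.hev (RTwoM.WM.of_ncard m.w.t0.hyp (m.w.t0.card K (self_mem_cls K)) m.h2)
    (fun z hz => m.blk hz) m.ov2 ?_ h ⟨zz K, K, self_mem_cls K, rfl⟩ (fun t ht => AOW.core_cen m.core ht)
    fun t ht => m.not_three ht
  rintro _ ⟨g, rfl⟩
  exact ROne.c3_cj m.c3 g

end Cfsg.Agent.Cit.Nil.CompR
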