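import Cfsg.Agent.Cit.Nil.Three.Inst

/-!
# S1309 (n6), (M3): a subnormal `SL(2,3)`

* `sl_quo` : `J = K⟨d⟩`, `K` a quaternion group of order 8, `d` of odd order moving its axes: `J / O(J) ≃ SL(2,3)`;
* `exists_j` : such a `J` is subnormal in `D`, if `K⟨d⟩ ≤ E ≤ N ≤ D`, `N` is normal in `D`, `E` in `N`, the elements of
  `E` act evenly on the axes of `K`, and `d` commutes with `C_E(K)`.
-/

set_option autoImplicit false
set_option linter.style.haveILetI false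
set_option linter.unusedSectionVars false

namespace Cfsg.Agent.Cit.Nil.CompR.M3

open Subgroup Cfsg Cfsg.Agent.Cit
open RTwo (Q3 Act sl_iso subnStep)
open Three (comm_of_odd_inn act_pow act_inv oddCore_sl q3_subgroupOf)

variable {G : Type*} [Group G] [Finite G] {K J D N E : Subgroup G} {z d g y : G} {q : Fin 3 → G}

/-- the image of a quaternion group -/
theorem q3_map {H : Type*} [Group H] (φ : G →* H) (Q : Q3 K z q) (hz : φ z ≠ 1) :
    Q3 (K.map φ) (φ z) (fun i => φ (q i)) where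
  mem i := mem_map_of_mem φ (Q.mem i)
  sq i := by rw [← map_mul, Q.sq]
  mul i := by rw [← map_mul, Q.mul]
  z2 := by rw [← map_mul, Q.z2, map_one]
  z1 := hz
  cov k hk := by
    obtain ⟨l, hl, rfl⟩ := hk
    rcases Q.cov l hl with rfl | rfl | ⟨i, rfl | rfl⟩
    · exact Or.inl (map_one φ)
    · exact Or.inr (Or.inl rfl)
    · exact Or.inr (Or.inr ⟨i, Or.inl rfl⟩)
    · exact Or.inr (Or.inr ⟨i, Or.inr (map_mul φ _ _)⟩)

theorem act_map {H : Type*} [Group H] (φ : G →* H) {σ : Equiv.Perm (Fin 3)} {x y : Fin 3 → G} (h : Act z x y g σ) :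
    Act (φ z) (fun i => φ (x i)) (fun i => φ (y i)) (φ g) σ := by
  intro i
  rcases h i with h | h
  · left; rw [← map_inv, ← map_mul, ← map_mul, h]
  · right; rw [← map_inv, ← map_mul, ← map_mul, h, map_mul]

theorem cube_comm (Q : Q3 K z q) {i : Fin 3} (hdz : d * z = z * d) (hd : Act z q q d (Equiv.addRight i))
    (ho : Odd (orderOf d)) {k : G} (hk : k ∈ K) : d ^ 3 * k = k * d ^ 3 := by
  have h1 := act_pow Q.z2 hd hdz 3
  have e3 : ∀ i : Fin 3, (Equiv.addRight i : Equiv.Perm (Fin 3)) ^ 3 = 1 := by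
    intro i
    rw [pow_succ, pow_two]
    revert i
    decide
  rw [e3] at h1
  have hc : d ^ 3 * z = z * d ^ 3 := ((show Commute d z from hdz).pow_left 3).eq
  have ho3 : Odd (orderOf (d ^ 3)) := ho.of_dvd_nat (orderOf_pow_dvd 3)
  exact comm_of_odd_inn Q.z2 ho3 hc (Act.inner Q h1 hc k hk)

/-- **`J / O(J) ≃ SL(2,3)`** -/
theorem sl_quo (Q : Q3 K z q) {i : Fin 3} (hi : i ≠ 0) (hdz : d * z = z * d)
    (hd : Act z q q d (Equiv.addRight i)) (ho : Odd (orderOf d)) (hJ : J = K ⊔ zpowers d) :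
    Nonempty ((↥J ⧸ oddCore ↥J) ≃* Matrix.SpecialLinearGroup (Fin 2) (ZMod 3)) := by
  haveI : Fact (Nat.Prime 2) := ⟨Nat.prime_two⟩
  have hKJ : K ≤ J := by rw [hJ]; exact le_sup_left
  have hdJ : d ∈ J := by rw [hJ]; exact mem_sup_right (mem_zpowers d)
  obtain ⟨d', hd'⟩ : ∃ d' : ↥J, d' = ⟨d, hdJ⟩ := ⟨_, rfl⟩
  obtain ⟨z', hz'⟩ : ∃ z' : ↥J, z' = ⟨z, hKJ Q.zmem⟩ := ⟨_, rfl⟩
  obtain ⟨N, hN⟩ : ∃ N : Subgroup ↥J, N = zpowers (d' ^ 3) := ⟨_, rfl⟩
  have hod' : Odd (orderOf d') := by rw [hd', Subgroup.orderOf_mk]; exact ho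
  -- `d ^ 3` is central
  have hcen : ∀ g : ↥J, g * d' ^ 3 = d' ^ 3 * g := by
    have h1 : J ≤ centralizer ({d ^ 3} : Set G) := by
      rw [hJ]
      refine sup_le (fun k hk => mem_centralizer_singleton_iff.2 ?_) ?_
      · exact (cube_comm Q hdz hd ho hk).symm
      · rw [zpowers_le]
        exact mem_centralizer_singleton_iff.2 (pow_succ' d 3 ▸ (pow_succ d 3).symm ▸ rfl)
    intro g
    refine Subtype.ext ?_
    have h2 := mem_centralizer_singleton_iff.1 (h1 g.2)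
    rw [hd']
    exact h2
  have hNn : N.Normal := by
    refine ⟨fun n hn g => ?_⟩
    rw [hN] at hn ⊢
    obtain ⟨k, rfl⟩ := mem_zpowers_iff.1 hn
    have h1 : Commute g ((d' ^ 3) ^ k) := (show Commute g (d' ^ 3) from hcen g).zpow_right k
    rw [h1.eq, mul_inv_cancel_right]
    exact hn
  have hNc : (Nat.card N).Coprime 2 := by
    rw [hN, Nat.card_zpowers]
    exact Nat.Coprime.symm (Nat.coprime_two_left.2 (hod'.of_dvd_nat (orderOf_pow_dvd 3)))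
  have hzN : z' ∉ N := by
    intro h1
    have h2 : orderOf z' = 2 := by
      rw [hz', Subgroup.orderOf_mk]
      exact orderOf_eq_prime (by rw [pow_two]; exact Q.z2) Q.z1
    have h3 : orderOf (⟨z', h1⟩ : N) = 2 := by rw [Subgroup.orderOf_mk, h2]
    have h4 : 2 ∣ Nat.card N := by rw [← h3]; exact orderOf_dvd_natCard _
    exact (Nat.Prime.coprime_iff_not_dvd Nat.prime_two).1 hNc.symm h4
  obtain ⟨φ, hφ⟩ : ∃ φ : ↥J →* ↥J ⧸ N, φ = QuotientGroup.mk' N := ⟨_, rfl⟩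
  have hker : ∀ g, φ g = 1 ↔ g ∈ N := fun g => by rw [hφ]; exact QuotientGroup.eq_one_iff g
  have hsur : Function.Surjective φ := by rw [hφ]; exact QuotientGroup.mk'_surjective N
  have Q1 := q3_subgroupOf Q hKJ
  have Q2 := q3_map φ Q1 (by rw [← hz']; exact fun h => hzN ((hker _).1 h))
  have hd1 : Act (⟨z, hKJ Q.zmem⟩ : ↥J) (fun i => (⟨q i, hKJ (Q.mem i)⟩ : ↥J)) (fun i => ⟨q i, hKJ (Q.mem i)⟩) d'
      (Equiv.addRight i) := by
    intro j
    rw [hd']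
    rcases hd j with h | h
    · exact Or.inl (Subtype.ext h)
    · exact Or.inr (Subtype.ext h)
  have hd2 := act_map φ hd1
  have hd3 : (φ d') ^ 3 = 1 := by rw [← map_pow, hker, hN]; exact mem_zpowers _
  have hdz' : φ d' * φ ⟨z, hKJ Q.zmem⟩ = φ ⟨z, hKJ Q.zmem⟩ * φ d' := by
    rw [← map_mul, ← map_mul, hd']
    exact congrArg φ (Subtype.ext hdz)
  obtain ⟨e⟩ := sl_iso Q2 hi hdz' hd2 hd3
  have htop : ((K.subgroupOf J).map φ ⊔ zpowers (φ d') : Subgroup (↥J ⧸ N)) = ⊤ := by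
    rw [eq_top_iff]
    intro x _
    obtain ⟨y, rfl⟩ := hsur x
    have h1 : J ≤ (((K.subgroupOf J).map φ ⊔ zpowers (φ d') : Subgroup (↥J ⧸ N)).comap φ).map J.subtype := by
      conv_lhs => rw [hJ]
      refine sup_le (fun k hk => ?_) ?_
      · exact ⟨⟨k, hKJ hk⟩, mem_sup_left (mem_map_of_mem _ (mem_subgroupOf.2 hk)), rfl⟩
      · rw [zpowers_le]
        exact ⟨d', mem_sup_right (mem_zpowers _), by rw [hd']; rfl⟩
    obtain ⟨y', hy', e⟩ := h1 y.2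
    have h2 : y' = y := Subtype.ext e
    rw [← h2]
    exact hy'
  have e2 : (↥J ⧸ N) ≃* Matrix.SpecialLinearGroup (Fin 2) (ZMod 3) :=
    (Subgroup.topEquiv.symm.trans (MulEquiv.subgroupCongr htop.symm)).trans e
  have h5 : oddCore (↥J ⧸ N) = ⊥ := by
    have h1 := Lib.Cores.map_equiv_pPrimeCore e2.symm 2
    rw [S1303.result.2.1, Subgroup.map_bot] at h1
    exact h1.symm
  have h6 : oddCore ↥J = N := by
    have h7 := Lib.Cores.comap_mk_pPrimeCore 2 (N := N) hNc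
    have h8 : pPrimeCore 2 (↥J ⧸ N) = ⊥ := h5
    rw [h8] at h7
    change pPrimeCore 2 ↥J = N
    rw [← h7]
    ext x
    rw [mem_comap, mem_bot]
    exact QuotientGroup.eq_one_iff x
  exact ⟨(QuotientGroup.quotientMulEquivOfEq h6).trans e2⟩

/-- **the subnormal `J`** -/
theorem exists_j (Q : Q3 K z q) (hND : N ≤ D) (hN : ∀ x ∈ D, ∀ n ∈ N, x * n * x⁻¹ ∈ N) (hEN : E ≤ N)
    (hE : ∀ x ∈ N, ∀ n ∈ E, x * n * x⁻¹ ∈ E) (hz : ∀ x ∈ E, x * z = z * x)
    (hev : ∀ x ∈ E, ∃ j : Fin 3, Act z q q x (Equiv.addRight j)) (hKE : K ≤ E) (hdE : d ∈ E) {i : Fin 3} (hi : i ≠ 0)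
    (hd : Act z q q d (Equiv.addRight i)) (ho : Odd (orderOf d))
    (hc : ∀ c ∈ E, (∀ k ∈ K, c * k = k * c) → c * d = d * c) :
    ∃ J : Subgroup G, J ≤ D ∧ K ≤ J ∧ (J.subgroupOf D).IsSubnormal ∧
      Nonempty ((↥J ⧸ oddCore ↥J) ≃* Matrix.SpecialLinearGroup (Fin 2) (ZMod 3)) := by
  obtain ⟨J, hJ⟩ : ∃ J, J = K ⊔ zpowers d := ⟨_, rfl⟩
  have hKJ : K ≤ J := by rw [hJ]; exact le_sup_left
  have hdJ : d ∈ J := by rw [hJ]; exact mem_sup_right (mem_zpowers d)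
  have hJE : J ≤ E := by rw [hJ]; exact sup_le hKE (zpowers_le.2 hdE)
  refine ⟨J, hJE.trans (hEN.trans hND), hKJ, ?_, sl_quo Q hi (hz d hdE) hd ho hJ⟩
  have s0 : (D.subgroupOf D).IsSubnormal := by rw [subgroupOf_self]; exact Subgroup.IsSubnormal.top
  have s1 := subnStep hND s0 hN
  have s2 := subnStep hEN s1 hE
  refine subnStep hJE s2 fun x hx j hj => ?_
  -- `x = c k dⁿ`
  obtain ⟨j0, hj0⟩ := hev x hx
  obtain ⟨n, hn⟩ : ∃ n : ℕ, (Equiv.addRight j0 : Equiv.Perm (Fin 3)) * ((Equiv.addRight i : Equiv.Perm (Fin 3)) ^ n) = 1 := by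
    have key : ∀ i j0 : Fin 3, i ≠ 0 →
        ((Equiv.addRight j0 : Equiv.Perm (Fin 3)) * ((Equiv.addRight i : Equiv.Perm (Fin 3)) ^ 0) = 1 ∨
        (Equiv.addRight j0 : Equiv.Perm (Fin 3)) * ((Equiv.addRight i : Equiv.Perm (Fin 3)) ^ 1) = 1 ∨
        (Equiv.addRight j0 : Equiv.Perm (Fin 3)) * ((Equiv.addRight i : Equiv.Perm (Fin 3)) ^ 2) = 1) := by decide
    rcases key i j0 hi with h | h | h
    · exact ⟨0, h⟩
    · exact ⟨1, h⟩
    · exact ⟨2, h⟩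
  have hdz := hz d hdE
  have hdnz : d ^ n * z = z * d ^ n := ((show Commute d z from hdz).pow_left n).eq
  have hdn := act_pow Q.z2 hd hdz n
  have hxz := hz x hx
  have h1 := hdn.comp Q.z2 hj0 hxz
  rw [hn] at h1
  have hxdz : x * d ^ n * z = z * (x * d ^ n) := by
    rw [mul_assoc, hdnz, ← mul_assoc, hxz, mul_assoc]
  have h2 := Act.inner Q h1 hxdz
  obtain ⟨k, hk, hka⟩ : ∃ k ∈ K, ∀ l ∈ K, x * d ^ n * l * (x * d ^ n)⁻¹ = k * l * k⁻¹ := by
    rcases Q.inner_cases h2 with h3 | ⟨j, h3⟩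
    · exact ⟨1, one_mem K, fun l hl => by rw [h3 l hl]; group⟩
    · exact ⟨q j, Q.mem j, h3⟩
  obtain ⟨c, hcx⟩ : ∃ c, c = x * d ^ n * k⁻¹ := ⟨_, rfl⟩
  have hcE : c ∈ E := by
    rw [hcx]
    exact mul_mem (mul_mem hx (pow_mem hdE n)) (inv_mem (hKE hk))
  have hcK : ∀ l ∈ K, c * l = l * c := by
    intro l hl
    have h4 := hka (k⁻¹ * l * k) (mul_mem (mul_mem (inv_mem hk) hl) hk)
    rw [← mul_inv_eq_iff_eq_mul, hcx]
    calc x * d ^ n * k⁻¹ * l * (x * d ^ n * k⁻¹)⁻¹ = x * d ^ n * (k⁻¹ * l * k) * (x * d ^ n)⁻¹ := by group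
      _ = k * (k⁻¹ * l * k) * k⁻¹ := h4
      _ = l := by group
  have hcd := hc c hcE hcK
  have hcJ : ∀ y ∈ J, c * y = y * c := by
    have h5 : J ≤ centralizer ({c} : Set G) := by
      rw [hJ]
      refine sup_le (fun k hk => mem_centralizer_singleton_iff.2 (hcK k hk).symm) ?_
      rw [zpowers_le]
      exact mem_centralizer_singleton_iff.2 hcd.symm
    intro y hy
    exact (mem_centralizer_singleton_iff.1 (h5 hy)).symm
  have hj' : k * (d ^ n)⁻¹ * j * (k * (d ^ n)⁻¹)⁻¹ ∈ J := by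
    have h6 : k * (d ^ n)⁻¹ ∈ J := mul_mem (hKJ hk) (inv_mem (pow_mem hdJ n))
    exact mul_mem (mul_mem h6 hj) (inv_mem h6)
  have e1 : x * j * x⁻¹ = c * (k * (d ^ n)⁻¹ * j * (k * (d ^ n)⁻¹)⁻¹) * c⁻¹ := by rw [hcx]; group
  rw [e1, hcJ _ hj', mul_inv_cancel_right]
  exact hj'

end Cfsg.Agent.Cit.Nil.CompR.M3
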