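import Cfsg.Agent.Cit.Nil.CompR.MThreeS
import Cfsg.Agent.Cit.Nil.CompR.MThreeJ
import Cfsg.Agent.Cit.Nil.RTwoM.Base

/-!
# S1309 (n6), `r = 2`, AllOne, (M3): the contradiction

* `odd_central` : `O(C) = 1` : an element of odd order of `X ∩ C(X)`, `X` normal in `C`, is trivial;
* `three_sub` : `SL(2,3)` subnormal in `C(a) ∩ C(z_M)` is `Three` in `C(a)`;
* `Sec Om z B` : the section of `C(z)` on the class `B` (all members over the C-partners of `z`);
* **`false_of_weight`** : an element `w` of `C(a)` which centralises the members over `z`, `b` except `M` and rotates `M`;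
* **`false_of_tri`** : a triple `z`, `a`, `b`.
-/

set_option autoImplicit false
set_option linter.style.haveILetI false
set_option linter.unusedSectionVars false

namespace Cfsg.Agent.Cit.Nil.CompR.M3

open Subgroup Cfsg Cfsg.Agent.Cit
open RTwo (Q3 Act)
open RFour.M3 (Rt Nn SecH)
open RTwoM (WM Mem InZ)
open Three (act_pow act_inv)

universe u

section odd

variable {G : Type*} [Group G] [Finite G]

/-- an element of odd order of `X ∩ C(X)`, `X` normal in `C`, is trivial if `O(C) = 1` -/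
theorem odd_central {C X : Subgroup G} (hX : X ≤ C) (hn : ∀ c ∈ C, ∀ x ∈ X, c * x * c⁻¹ ∈ X)
    (hcore : Cfsg.pPrimeCore 2 ↥C = ⊥) {y : G} (hy : y ∈ X) (hc : ∀ x ∈ X, y * x = x * y) (ho : Odd (orderOf y)) :
    y = 1 := by
  haveI : Fact (Nat.Prime 2) := ⟨Nat.prime_two⟩
  obtain ⟨A, hA⟩ : ∃ A : Subgroup ↥C, A = (X ⊓ centralizer (X : Set G)).subgroupOf C := ⟨_, rfl⟩
  have hmem : ∀ x : ↥C, x ∈ A ↔ (x : G) ∈ X ∧ ∀ v ∈ X, v * x = x * v := by
    intro x
    rw [hA, mem_subgroupOf, mem_inf, mem_centralizer_iff]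
    rfl
  have hAn : A.Normal := by
    refine ⟨fun x hx g => ?_⟩
    rw [hmem] at hx ⊢
    obtain ⟨h1, h2⟩ := hx
    refine ⟨hn g g.2 x h1, fun v hv => ?_⟩
    have h3 := hn (g : G)⁻¹ (inv_mem g.2) v hv
    rw [inv_inv] at h3
    have h4 := h2 _ h3
    change v * ((g : G) * x * (g : G)⁻¹) = (g : G) * x * (g : G)⁻¹ * v
    calc v * ((g : G) * x * (g : G)⁻¹) = (g : G) * (((g : G)⁻¹ * v * g) * x) * (g : G)⁻¹ := by group
      _ = (g : G) * (x * ((g : G)⁻¹ * v * g)) * (g : G)⁻¹ := by rw [h4]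
      _ = _ := by group
  have hcA : pPrimeCore 2 ↥A = ⊥ := by
    have h1 := Lib.Cores.map_subtype_pPrimeCore 2 hAn
    rw [hcore, inf_bot_eq] at h1
    exact (Subgroup.map_eq_bot_iff_of_injective _ A.subtype_injective).1 h1
  obtain ⟨y', hy'⟩ : ∃ y' : ↥C, (y' : G) = y := ⟨⟨y, hX hy⟩, rfl⟩
  have hyA : y' ∈ A := (hmem y').2 ⟨by rw [hy']; exact hy, fun v hv => by rw [hy']; exact (hc v hv).symm⟩
  have hcomm : ∀ u v : ↥A, u * v = v * u := by
    intro u v
    have h1 := (hmem v).1 v.2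
    have h2 := ((hmem u).1 u.2).1
    exact Subtype.ext (Subtype.ext (h1.2 _ h2))
  obtain ⟨N, hN⟩ : ∃ N : Subgroup ↥A, N = zpowers ⟨y', hyA⟩ := ⟨_, rfl⟩
  have hNn : N.Normal := ⟨fun n hn' g => by rw [hcomm g n, mul_inv_cancel_right]; exact hn'⟩
  have ho' : Odd (orderOf (⟨y', hyA⟩ : ↥A)) := by
    rw [Subgroup.orderOf_mk, ← Subgroup.orderOf_coe, hy']; exact ho
  have h3 : N ≤ pPrimeCore 2 ↥A := Lib.Cores.le_pPrimeCore hNn (by
    rw [hN, Nat.card_zpowers]
    exact Nat.Coprime.symm (Nat.coprime_two_left.2 ho'))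
  rw [hcA] at h3
  have h4 : (⟨y', hyA⟩ : ↥A) ∈ N := by rw [hN]; exact mem_zpowers _
  have h5 := mem_bot.1 (h3 h4)
  rw [← hy']
  exact congrArg Subtype.val (congrArg Subtype.val h5)

/-- the odd part of an element -/
theorem exists_odd_part (e : G) : ∃ s : ℕ, Odd (orderOf (e ^ 2 ^ s)) := by
  obtain ⟨n, m, hm, hnm⟩ := Nat.exists_eq_two_pow_mul_odd (orderOf_pos e).ne'
  refine ⟨n, ?_⟩
  have h1 : (e ^ 2 ^ n) ^ m = 1 := by rw [← pow_mul, ← hnm, pow_orderOf_eq_one]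
  exact hm.of_dvd_nat (orderOf_dvd_of_pow_eq_one h1)

theorem add_pow (i : Fin 3) (hi : i ≠ 0) (n : ℕ) :
    ∃ j : Fin 3, j ≠ 0 ∧ (Equiv.addRight i : Equiv.Perm (Fin 3)) ^ 2 ^ n = Equiv.addRight j := by
  induction n with
  | zero => exact ⟨i, hi, by rw [pow_zero, pow_one]⟩
  | succ n ih =>
    obtain ⟨j, hj, h1⟩ := ih
    have key : ∀ j : Fin 3, j ≠ 0 → j + j ≠ 0 ∧
        (Equiv.addRight j : Equiv.Perm (Fin 3)) * Equiv.addRight j = Equiv.addRight (j + j) := by decide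
    refine ⟨j + j, (key j hj).1, ?_⟩
    rw [pow_succ, pow_mul, h1, pow_two, (key j hj).2]

/-- `SL(2,3)` subnormal in `C(a) ∩ C(z_M)` is `Three` in `C(a)` -/
theorem three_sub {Om : Set (Subgroup G)} (hyp : Hyp Om) {M J : Subgroup G} {a b : G} (hM : M ∈ Om) (hb : zz M = b)
    (hJ : J ≤ centralizer {a} ⊓ centralizer {b}) (hMJ : M ≤ J)
    (hs : (J.subgroupOf (centralizer {a} ⊓ centralizer {b})).IsSubnormal)
    (he : Nonempty ((↥J ⧸ oddCore ↥J) ≃* Matrix.SpecialLinearGroup (Fin 2) (ZMod 3))) :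
    IndDefs.Three (M.subgroupOf (centralizer ({a} : Set G))) := by
  have hMa : M ≤ centralizer ({a} : Set G) := hMJ.trans (hJ.trans inf_le_left)
  have hzz : ((zz (M.subgroupOf (centralizer ({a} : Set G))) : ↥(centralizer ({a} : Set G))) : G) = b := by
    rw [zz_map hyp (subgroupOf_mem_restr hM hMa), map_subgroupOf_eq_of_le hMa, hb]
  have hmem : ∀ x : ↥(centralizer ({a} : Set G)),
      x ∈ centralizer {zz (M.subgroupOf (centralizer ({a} : Set G)))} ↔ (x : G) ∈ centralizer ({b} : Set G) := by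
    intro x
    rw [mem_centralizer_singleton_iff, mem_centralizer_singleton_iff, ← hzz]
    exact ⟨fun h => congrArg Subtype.val h, fun h => Subtype.ext h⟩
  refine ⟨J.subgroupOf (centralizer {a}), ?_, ?_, ?_, ?_⟩
  · intro x hx
    exact (hmem x).2 (hJ (mem_subgroupOf.1 hx)).2
  · intro x hx
    exact mem_subgroupOf.2 (hMJ (mem_subgroupOf.1 hx))
  · let f : ↥(centralizer {zz (M.subgroupOf (centralizer ({a} : Set G)))}) →*
        ↥(centralizer {a} ⊓ centralizer {b} : Subgroup G) :=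
      { toFun := fun x => ⟨((x : ↥(centralizer ({a} : Set G))) : G), ⟨x.1.2, (hmem _).1 x.2⟩⟩
        map_one' := rfl
        map_mul' := fun _ _ => rfl }
    have h1 := hs.comap f
    have h2 : (J.subgroupOf (centralizer {a} ⊓ centralizer {b})).comap f =
        (J.subgroupOf (centralizer {a})).subgroupOf (centralizer {zz (M.subgroupOf (centralizer ({a} : Set G)))}) := by
      ext x
      exact Iff.rfl
    rwa [h2] at h1
  · obtain ⟨e⟩ := he
    have e1 : ↥(J.subgroupOf (centralizer ({a} : Set G))) ≃* ↥J := subgroupOfEquivOfLe (hJ.trans inf_le_left)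
    exact ⟨(QuotientGroup.congr (oddCore _) (oddCore _) e1 (Lib.Cores.map_equiv_pPrimeCore e1 2)).trans e⟩

end odd

section

variable {G : Type u} [Group G] [Finite G] {Om : Set (Subgroup G)}

/-- the section of `C(z)` on the class `B` -/
structure Sec (Om : Set (Subgroup G)) (z : G) (B : Set (Subgroup G)) : Prop where
  sub : B ⊆ Om
  sec : ∃ (H : Type u) (_ : Group H) (_ : Finite H) (φ : ↥(centralizer ({z} : Set G)) →* H),
    SecH (centralizer ({z} : Set G)) B φ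
  cen : ∀ L ∈ B, ∀ K, Mem Om z K → ∀ l ∈ L, ∀ k ∈ K, l * k = k * l

/-- even action on the axes -/
theorem ev_mul {b : G} {q : Fin 3 → G} {M : Subgroup G} (Q : Q3 M b q) {x y : G} (hx : x * b = b * x)
    {i j : Fin 3} (h1 : Act b q q x (Equiv.addRight i)) (h2 : Act b q q y (Equiv.addRight j)) :
    ∃ k, Act b q q (x * y) (Equiv.addRight k) := by
  have h3 := h2.comp Q.z2 h1 hx
  have key : ∀ i j : Fin 3, (Equiv.addRight i : Equiv.Perm (Fin 3)) * Equiv.addRight j = Equiv.addRight (i + j) := by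
    decide
  rw [key] at h3
  exact ⟨_, h3⟩

theorem add_inv (i : Fin 3) : (Equiv.addRight i : Equiv.Perm (Fin 3))⁻¹ = Equiv.addRight (-i) := by
  revert i; decide

theorem conj_add : ∀ (σ : Equiv.Perm (Fin 3)) (i : Fin 3), ∃ j, σ * (Equiv.addRight i * σ⁻¹) = Equiv.addRight j := by
  decide

/-- **weight one is impossible** -/
theorem false_of_weight (h : WM Om) {z a b : G} (hab : a * b = z) (hba : a * b = b * a) {B : Set (Subgroup G)}
    (sec : Sec Om a B) (hcore : Cfsg.pPrimeCore 2 ↥(centralizer ({a} : Set G)) = ⊥)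
    (n3 : ∀ L ∈ restr Om (centralizer ({a} : Set G)), ¬ IndDefs.Three L)
    (ha1 : a ≠ 1) {K K' M M' : Subgroup G} (hK : Mem Om z K) (hK' : Mem Om z K') (hKK : K ≠ K') (hM : Mem Om b M)
    (hM' : Mem Om b M') (hMM : M ≠ M') (kB : K ∈ B) (kB' : K' ∈ B) (mB : M ∈ B) (mB' : M' ∈ B)
    (hzb : ∀ P, Mem Om z P → ∀ R, Mem Om b R → ∀ x ∈ P, ∀ y ∈ R, x * y = y * x) {w : G} (hwa : w * a = a * w)
    (hwz : ∀ P, Mem Om z P → ∀ p ∈ P, w * p = p * w) (hwM' : ∀ p ∈ M', w * p = p * w) (hwM : Rt b M w) : False := by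
  obtain ⟨H, _, _, φ, s⟩ := sec.sec
  obtain ⟨X, hX⟩ : ∃ X : Subgroup G, X = sSup B := ⟨_, rfl⟩
  have hz2 := hK.inZ.z2 h
  have hb2 := hM.inZ.z2 h
  have hzb' : z ≠ b := by
    rintro rfl
    exact ha1 (mul_eq_right.1 hab)
  have hXC : X ≤ centralizer ({a} : Set G) := by rw [hX]; exact sSup_le s.le
  have haX : ∀ x ∈ X, x * a = a * x := fun x hx => mem_centralizer_singleton_iff.1 (hXC hx)
  have hXn : ∀ c ∈ centralizer ({a} : Set G), ∀ x ∈ X, c * x * c⁻¹ ∈ X := by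
    intro c hc x hx
    have h1 : X ≤ X.comap (MulAut.conj c).toMonoidHom := by
      conv_lhs => rw [hX]
      refine sSup_le fun L hL l hl => ?_
      change c * l * c⁻¹ ∈ X
      rw [hX]
      exact Subgroup.mem_sSup_of_mem (s.conj L hL c hc) (conj_mem_cj hl)
    exact h1 hx
  have hkX : K ≤ X := by rw [hX]; exact le_sSup kB
  have hmX : M ≤ X := by rw [hX]; exact le_sSup mB
  have hmX' : M' ≤ X := by rw [hX]; exact le_sSup mB'
  -- the four members
  obtain ⟨P, hP⟩ : ∃ P : Fin 4 → Subgroup G, P = ![K, K', M', M] := ⟨_, rfl⟩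
  have hPB : ∀ i, P i ∈ B := by rw [hP]; intro i; fin_cases i <;> assumption
  have hzK : ∀ {L : Subgroup G}, Mem Om z L → ∀ {L' : Subgroup G}, Mem Om b L' → L ≠ L' := by
    rintro L hL L' hL' rfl
    exact hzb' (hL.2.symm.trans hL'.2)
  have hinj : Function.Injective P := by
    rw [hP]
    intro i j hij
    fin_cases i <;> fin_cases j <;> first
      | rfl
      | exact absurd hij hKK
      | exact absurd hij hKK.symm
      | exact absurd hij hMM
      | exact absurd hij hMM.symm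
      | exact absurd hij (hzK hK hM)
      | exact absurd hij (hzK hK hM')
      | exact absurd hij (hzK hK' hM)
      | exact absurd hij (hzK hK' hM')
      | exact absurd hij (hzK hK hM).symm
      | exact absurd hij (hzK hK hM').symm
      | exact absurd hij (hzK hK' hM).symm
      | exact absurd hij (hzK hK' hM').symm
  have haC : a ∈ centralizer ({a} : Set G) := mem_centralizer_singleton_iff.2 rfl
  have hbC : b ∈ centralizer ({a} : Set G) := mem_centralizer_singleton_iff.2 hba.symm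
  have hzC : z ∈ centralizer ({a} : Set G) := by rw [← hab]; exact mul_mem haC hbC
  have hφa : φ ⟨a, haC⟩ = 1 := s.ker' _ fun x hx => (haX x (by rw [hX]; exact hx)).symm
  have hφz : φ ⟨z, hzC⟩ = φ ⟨b, hbC⟩ := by
    have h1 : (⟨z, hzC⟩ : ↥(centralizer ({a} : Set G))) = ⟨a, haC⟩ * ⟨b, hbC⟩ := Subtype.ext hab.symm
    rw [h1, map_mul, hφa, one_mul]
  have hPz : ∀ i, ∀ y : ↥(centralizer ({a} : Set G)), (y : G) = zz (P i) → φ y = φ ⟨b, hbC⟩ := by
    intro i y hy
    have h1 : zz (P i) = z ∨ zz (P i) = b := by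
      rw [hP]
      fin_cases i
      · exact Or.inl hK.2
      · exact Or.inl hK'.2
      · exact Or.inr hM'.2
      · exact Or.inr hM.2
    rcases h1 with h1 | h1
    · rw [← hφz]
      exact congrArg φ (Subtype.ext (hy.trans h1))
    · exact congrArg φ (Subtype.ext (hy.trans h1))
  have hP3 : P 3 = M := by rw [hP]; rfl
  have hwC : w ∈ centralizer ({a} : Set G) := mem_centralizer_singleton_iff.2 hwa
  obtain ⟨e, heB, heC, heP, heM, hen⟩ := s.stepTwo hPB hinj hPz hwC (fun i hi p hp => by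
    rw [hP] at hp
    fin_cases i
    · exact hwz K hK p hp
    · exact hwz K' hK' p hp
    · exact hwM' p hp
    · exact absurd rfl hi) (by rw [hP3, hM.2]; exact hwM)
  rw [← hX] at heB
  have heK : ∀ L, Mem Om z L → ∀ p ∈ L, e * p = p * e := by
    intro L hL p hp
    rcases hK.cases hK' h hKK hL with rfl | rfl
    · exact heP 0 (by decide) p (by rw [hP]; exact hp)
    · exact heP 1 (by decide) p (by rw [hP]; exact hp)
  have heM' : ∀ p ∈ M', e * p = p * e := fun p hp => heP 2 (by decide) p (by rw [hP]; exact hp)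
  have hen' : ∀ n ∈ centralizer ({a} : Set G), (∀ L, Mem Om z L → ∀ p ∈ L, n * p = p * n) → (∀ p ∈ M', n * p = p * n) →
      (∀ p ∈ M, n * p = p * n) → ∀ y ∈ X, n * e * n⁻¹ * e⁻¹ * y = y * (n * e * n⁻¹ * e⁻¹) := by
    intro n hn h1 h2 h3 y hy
    refine hen n hn (fun i p hp => ?_) y (by rw [← hX]; exact hy)
    rw [hP] at hp
    fin_cases i
    · exact h1 K hK p hp
    · exact h1 K' hK' p hp
    · exact h2 p hp
    · exact h3 p hp
  rw [hP3, hM.2] at heM
  obtain ⟨q, hq⟩ := h.exists_q3 hM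
  -- `C(b)`
  have hbz : ∀ {g : G}, g * a = a * g → g * b = b * g → g * z = z * g := by
    intro g h1 h2
    rw [← hab, ← mul_assoc, h1, mul_assoc, h2, mul_assoc]
  have hMb : ∀ m ∈ M, m * b = b * m := fun m hm => hM.comm_z h hm
  have heb : e * b = b * e := by
    have h1 : b ∈ M' := hM'.zmem h
    exact heM' b h1
  -- the group `N`
  let N : Subgroup G :=
    { carrier := {g | g ∈ X ∧ g * b = b * g ∧ (∀ L, Mem Om z L → ∀ p ∈ L, g * p = p * g) ∧
        ∀ L, Mem Om b L → cj g L = L}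
      one_mem' := ⟨one_mem X, by rw [one_mul, mul_one], fun L _ p _ => by rw [one_mul, mul_one], fun L _ => cj_one L⟩
      mul_mem' := by
        rintro x y ⟨h1, h2, h3, h4⟩ ⟨k1, k2, k3, k4⟩
        refine ⟨mul_mem h1 k1, ?_, fun L hL p hp => ?_, fun L hL => ?_⟩
        · rw [mul_assoc, k2, ← mul_assoc, h2, mul_assoc]
        · rw [mul_assoc, k3 L hL p hp, ← mul_assoc, h3 L hL p hp, mul_assoc]
        · rw [cj_mul, k4 L hL, h4 L hL]
      inv_mem' := by
        rintro x ⟨h1, h2, h3, h4⟩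
        refine ⟨inv_mem h1, ?_, fun L hL p hp => ?_, fun L hL => ?_⟩
        · rw [inv_mul_eq_iff_eq_mul, ← mul_assoc, h2, mul_inv_cancel_right]
        · rw [inv_mul_eq_iff_eq_mul, ← mul_assoc, h3 L hL p hp, mul_inv_cancel_right]
        · conv_lhs => rw [← h4 L hL]
          rw [cj_inv_cj] }
  have hNm : ∀ g, g ∈ N ↔ g ∈ X ∧ g * b = b * g ∧ (∀ L, Mem Om z L → ∀ p ∈ L, g * p = p * g) ∧
      ∀ L, Mem Om b L → cj g L = L := fun g => Iff.rfl
  -- the group `E`
  let E : Subgroup G :=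
    { carrier := {g | g ∈ N ∧ (∀ p ∈ M', g * p = p * g) ∧ ∃ j : Fin 3, Act b q q g (Equiv.addRight j)}
      one_mem' := ⟨one_mem N, fun p _ => by rw [one_mul, mul_one], 0, by
        have e0 : (Equiv.addRight (0 : Fin 3) : Equiv.Perm (Fin 3)) = 1 := by ext i; simp
        rw [e0]; exact Act.one q b⟩
      mul_mem' := by
        rintro x y ⟨h1, h2, i, h3⟩ ⟨k1, k2, j, k3⟩
        refine ⟨mul_mem h1 k1, fun p hp => ?_, ev_mul hq ((hNm x).1 h1).2.1 h3 k3⟩
        rw [mul_assoc, k2 p hp, ← mul_assoc, h2 p hp, mul_assoc]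
      inv_mem' := by
        rintro x ⟨h1, h2, i, h3⟩
        refine ⟨inv_mem h1, fun p hp => ?_, -i, ?_⟩
        · rw [inv_mul_eq_iff_eq_mul, ← mul_assoc, h2 p hp, mul_inv_cancel_right]
        · have h4 := act_inv hq h3 ((hNm x).1 h1).2.1 (((hNm x).1 h1).2.2.2 M hM)
          rwa [add_inv] at h4 }
  have hEm : ∀ g, g ∈ E ↔ g ∈ N ∧ (∀ p ∈ M', g * p = p * g) ∧ ∃ j : Fin 3, Act b q q g (Equiv.addRight j) :=
    fun g => Iff.rfl
  have hcjM : ∀ {g : G}, cj g M = M → (∀ p ∈ M', g * p = p * g) → ∀ L, Mem Om b L → cj g L = L := by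
    intro g h1 h2 L hL
    rcases hM.cases hM' h hMM hL with rfl | rfl
    · exact h1
    · exact RFour.M3.cj_eq_of_mem fun k hk => by rw [h2 k hk, mul_inv_cancel_right]; exact hk
  -- `e ∈ E`
  obtain ⟨i0, hi0, hei⟩ := heM.exists_act hq heb
  have heE : e ∈ E := ⟨⟨heB, heb, heK, hcjM heM.1 heM'⟩, heM', i0, hei⟩
  -- the odd part
  obtain ⟨n, hodd⟩ := exists_odd_part e
  obtain ⟨j0, hj0, hjn⟩ := add_pow i0 hi0 n
  have hen2 := act_pow hq.z2 hei heb (2 ^ n)
  rw [hjn] at hen2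
  -- `N ≤ D`
  have g1 : N ≤ centralizer {a} ⊓ centralizer {b} := by
    intro g hg
    exact ⟨hXC hg.1, mem_centralizer_singleton_iff.2 hg.2.1⟩
  -- `N` normal in `D`
  have g2 : ∀ x ∈ (centralizer {a} ⊓ centralizer {b} : Subgroup G), ∀ n ∈ N, x * n * x⁻¹ ∈ N := by
    rintro x ⟨hxa, hxb⟩ g ⟨h1, h2, h3, h4⟩
    have hxa' := mem_centralizer_singleton_iff.1 hxa
    have hxb' := mem_centralizer_singleton_iff.1 hxb
    have hxz := hbz hxa' hxb'
    have inv : ∀ {u : G}, x * u = u * x → x⁻¹ * u = u * x⁻¹ := fun {u} hu => by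
      rw [inv_mul_eq_iff_eq_mul, ← mul_assoc, hu, mul_inv_cancel_right]
    refine ⟨hXn x hxa g h1, ?_, fun L hL p hp => ?_, fun L hL => ?_⟩
    · calc x * g * x⁻¹ * b = x * g * (x⁻¹ * b) := by group
        _ = x * (g * b) * x⁻¹ := by rw [inv hxb']; group
        _ = (x * b) * g * x⁻¹ := by rw [h2]; group
        _ = _ := by rw [hxb']; group
    · have h5 : Mem Om z (cj x⁻¹ L) := hL.cj_comm h (inv hxz)
      have h6 := h3 _ h5 _ (conj_mem_cj hp)
      rw [inv_inv] at h6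
      calc x * g * x⁻¹ * p = x * (g * (x⁻¹ * p * x)) * x⁻¹ := by group
        _ = x * ((x⁻¹ * p * x) * g) * x⁻¹ := by rw [h6]
        _ = _ := by group
    · have h5 : Mem Om b (cj x⁻¹ L) := hL.cj_comm h (inv hxb')
      rw [cj_mul, cj_mul, h4 _ h5, cj_cj_inv]
  -- `E` normal in `N`
  have g3 : ∀ x ∈ N, ∀ n ∈ E, x * n * x⁻¹ ∈ E := by
    rintro x hx g ⟨h1, h2, j, h3⟩
    have hx' := (hNm x).1 hx
    refine ⟨mul_mem (mul_mem hx h1) (inv_mem hx), fun p hp => ?_, ?_⟩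
    · have h4 : x⁻¹ * p * x ∈ M' := by
        have h5 := hx'.2.2.2 M' hM'
        rw [← h5] at hp
        exact mem_cj.1 hp
      have h6 := h2 _ h4
      calc x * g * x⁻¹ * p = x * (g * (x⁻¹ * p * x)) * x⁻¹ := by group
        _ = x * ((x⁻¹ * p * x) * g) * x⁻¹ := by rw [h6]
        _ = _ := by group
    · obtain ⟨σ, hσ⟩ := hq.exists_act hq (hx'.2.2.2 M hM) hx'.2.1
      have h1' := (hNm g).1 h1
      have h4 := (act_inv hq hσ hx'.2.1 (hx'.2.2.2 M hM)).comp hq.z2 h3 h1'.2.1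
      have h5 := h4.comp hq.z2 hσ hx'.2.1
      obtain ⟨j', hj'⟩ := conj_add σ j
      rw [hj', ← mul_assoc] at h5
      exact ⟨j', h5⟩
  -- `M ≤ E`
  have g4 : M ≤ E := by
    intro m hm
    have hmM' : ∀ p ∈ M', m * p = p * m := fun p hp => hM.comm hM' h hMM hm hp
    have hcm : cj m M = M := mem_normalizer_iff_cj.1 (le_normalizer hm)
    refine ⟨⟨hmX hm, hMb m hm, fun L hL p hp => (hzb L hL M hM p hp m hm).symm, hcjM hcm hmM'⟩, hmM', 0, ?_⟩
    have e0 : (Equiv.addRight (0 : Fin 3) : Equiv.Perm (Fin 3)) = 1 := by ext i; simp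
    rw [e0]
    refine Act.of_inner hq fun k hk => ?_
    exact RTwoM.Inn.of_mem hM h hm M hM k hk
  -- `[C_E(M), e'] = 1`
  have g5 : ∀ c ∈ E, (∀ k ∈ M, c * k = k * c) → c * e ^ 2 ^ n = e ^ 2 ^ n * c := by
    rintro c ⟨⟨hcX, hcb, hcz, -⟩, hcM', -⟩ hcM
    have hcC := hXC hcX
    obtain ⟨ζ, hζ⟩ : ∃ ζ, ζ = c * e * c⁻¹ * e⁻¹ := ⟨_, rfl⟩
    have h1 : ∀ y ∈ X, ζ * y = y * ζ := by
      rw [hζ]; exact hen' c hcC hcz hcM' hcM
    have hζX : ζ ∈ X := by
      rw [hζ]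
      exact mul_mem (mul_mem (mul_mem hcX heB) (inv_mem hcX)) (inv_mem heB)
    have h2 : c * e * c⁻¹ = ζ * e := by rw [hζ]; group
    have h3 : Commute ζ e := h1 e heB
    obtain ⟨ξ, hξ⟩ : ∃ ξ, ξ = ζ ^ 2 ^ n := ⟨_, rfl⟩
    have h4 : c * e ^ 2 ^ n * c⁻¹ = ξ * e ^ 2 ^ n := by
      rw [← conj_pow, h2, h3.mul_pow, hξ]
    have h5 : Commute ξ (e ^ 2 ^ n) := by rw [hξ]; exact h3.pow_pow _ _
    have h6 : ξ ^ orderOf (e ^ 2 ^ n) = 1 := by
      have h7 : (c * e ^ 2 ^ n * c⁻¹) ^ orderOf (e ^ 2 ^ n) = 1 := by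
        rw [conj_pow, pow_orderOf_eq_one, mul_one, mul_inv_cancel]
      rw [h4, h5.mul_pow, pow_orderOf_eq_one, mul_one] at h7
      exact h7
    have h7 : Odd (orderOf ξ) := hodd.of_dvd_nat (orderOf_dvd_of_pow_eq_one h6)
    have h8 : ξ = 1 := by
      refine odd_central hXC hXn hcore (by rw [hξ]; exact pow_mem hζX _) (fun x hx => ?_) h7
      have h9 : Commute ζ x := h1 x hx
      rw [hξ]
      exact (h9.pow_left _).eq
    rw [h8, one_mul, mul_inv_eq_iff_eq_mul] at h4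
    exact h4
  have g6 : E ≤ N := fun g hg => hg.1
  have g7 : ∀ x ∈ E, x * b = b * x := fun g hg => hg.1.2.1
  have g8 : ∀ x ∈ E, ∃ j : Fin 3, Act b q q x (Equiv.addRight j) := fun g hg => hg.2.2
  obtain ⟨J, hJD, hMJ, hJs, hJe⟩ := exists_j hq g1 g2 g6 g3 g7 g8 g4 (pow_mem heE _) hj0 hen2 hodd g5
  exact n3 _ (subgroupOf_mem_restr hM.1 (hMJ.trans (hJD.trans inf_le_left))) (three_sub h.hyp hM.1 hM.2 hJD hMJ hJs hJe)

end

end Cfsg.Agent.Cit.Nil.CompR.M3
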