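import Cfsg.Agent.Cit.Nil.CompR.MThreeW

/-!
# S1309 (n6), `r = 2`, AllOne, (M3): the section of `C(z)` and the transfer to `G`

`SecH C B φ` : `φ : C →* H` has kernel `C_C(⟨B⟩)`, the images of the members of `B` form a world `W4` in which
non-commuting type I partners exist.

* `SecH.cj_eq`, `SecH.comm`, `SecH.rt`, `SecH.rt'`, `SecH.nn` : the transfer of the action on a member;
* `SecH.stepOne` : an element `w ∈ ⟨B⟩` of weight one on one of the blocks `{P 0, P 1}`, `{P 2, P 3}`;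
* `SecH.stepTwo` : if `w` has weight one on `{P 0, P 1, P 2, M}`, then some `e ∈ ⟨B⟩` has weight one and commutes with
  `C_C(P 0, P 1, P 2, M)` modulo the kernel.
-/

set_option autoImplicit false
set_option linter.style.haveILetI false
set_option linter.unusedSectionVars false

namespace Cfsg.Agent.Cit.Nil.RFour.M3

open Subgroup Cfsg Cfsg.Agent.Cit
open RTwo (Q3 Act)

variable {G : Type*} [Group G]

/-- the images of the members of `B` -/
def Im (C : Subgroup G) (B : Set (Subgroup G)) {H : Type*} [Group H] (φ : ↥C →* H) : Set (Subgroup H) :=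
  {P | ∃ L ∈ B, (L.subgroupOf C).map φ = P}

/-- see the head of the file -/
structure SecH (C : Subgroup G) (B : Set (Subgroup G)) {H : Type*} [Group H] (φ : ↥C →* H) : Prop where
  le : ∀ L ∈ B, L ≤ C
  conj : ∀ L ∈ B, ∀ g ∈ C, cj g L ∈ B
  ker : ∀ g : ↥C, φ g = 1 → ∀ x ∈ sSup B, (g : G) * x = x * g
  ker' : ∀ g : ↥C, (∀ x ∈ sSup B, (g : G) * x = x * g) → φ g = 1
  inf : ∀ L ∈ B, ∀ x : ↥C, (x : G) ∈ L → φ x = 1 → x = 1
  inj : ∀ L ∈ B, ∀ L' ∈ B, (L.subgroupOf C).map φ = (L'.subgroupOf C).map φ → L = L'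
  zz : ∀ L ∈ B, ∀ z : ↥C, (z : G) = zz L → zz ((L.subgroupOf C).map φ) = φ z
  zc : ∀ L ∈ B, Cit.zz L ∈ L
  w4 : W4 (Im C B φ)
  nc : ∀ z, InZ (Im C B φ) z → ∃ t t', TI (Im C B φ) z t ∧ TI (Im C B φ) z t' ∧ t * t' ≠ t' * t

theorem im_cj {C : Subgroup G} {H : Type*} [Group H] (φ : ↥C →* H) (c : ↥C) (L : Subgroup G) :
    ((cj (c : G) L).subgroupOf C).map φ = cj (φ c) ((L.subgroupOf C).map φ) := by
  ext x
  rw [mem_cj]
  constructor
  · rintro ⟨y, hy, rfl⟩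
    have h1 : (c : G)⁻¹ * y * c ∈ L := mem_cj.1 hy
    refine ⟨c⁻¹ * y * c, h1, ?_⟩
    rw [map_mul, map_mul, map_inv]
  · rintro ⟨y, hy, h1⟩
    refine ⟨c * y * c⁻¹, ?_, ?_⟩
    · change (c : G) * y * (c : G)⁻¹ ∈ cj (c : G) L
      exact conj_mem_cj hy
    · rw [map_mul, map_mul, map_inv, h1]
      group

theorem cj_eq_of_mem {K : Subgroup G} [Finite G] {c : G} (h : ∀ k ∈ K, c * k * c⁻¹ ∈ K) : cj c K = K := by
  have h1 : cj c K ≤ K := by
    rintro _ ⟨k, hk, rfl⟩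
    exact h k hk
  exact Subgroup.eq_of_le_of_card_ge h1 (by rw [card_cj])

namespace SecH

variable [Finite G] {C : Subgroup G} {B : Set (Subgroup G)} {H : Type*} [Group H] [Finite H] {φ : ↥C →* H}
  {L L' M : Subgroup G} {c : ↥C} (s : SecH C B φ)

include s

theorem mem (hL : L ∈ B) : (L.subgroupOf C).map φ ∈ Im C B φ := ⟨L, hL, rfl⟩

theorem memz (hL : L ∈ B) {z : ↥C} (hz : (z : G) = Cit.zz L) : Mem (Im C B φ) (φ z) ((L.subgroupOf C).map φ) :=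
  ⟨s.mem hL, s.zz L hL z hz⟩

theorem cj_eq (hL : L ∈ B) (h : cj (φ c) ((L.subgroupOf C).map φ) = (L.subgroupOf C).map φ) : cj (c : G) L = L := by
  apply s.inj _ (s.conj L hL c c.2) L hL
  rw [im_cj, h]

theorem comm (hL : L ∈ B) (h : ∀ k ∈ (L.subgroupOf C).map φ, φ c * k = k * φ c) {l : G} (hl : l ∈ L) :
    (c : G) * l = l * c := by
  have h1 : cj (φ c) ((L.subgroupOf C).map φ) = (L.subgroupOf C).map φ :=
    cj_eq_of_mem fun k hk => by rw [h k hk, mul_inv_cancel_right]; exact hk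
  have h2 := s.cj_eq hL h1
  have hlC := s.le L hL hl
  have h3 : (c : G) * l * (c : G)⁻¹ * l⁻¹ ∈ L := by
    refine mul_mem ?_ (inv_mem hl)
    have := conj_mem_cj (g := (c : G)) hl
    rwa [h2] at this
  have h4 := s.inf L hL (c * ⟨l, hlC⟩ * c⁻¹ * ⟨l, hlC⟩⁻¹) h3 (by
    rw [map_mul, map_mul, map_mul, map_inv, map_inv, h (φ ⟨l, hlC⟩) ⟨⟨l, hlC⟩, hl, rfl⟩]
    group)
  have h5 := congrArg Subtype.val h4
  change (c : G) * l * (c : G)⁻¹ * l⁻¹ = 1 at h5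
  rwa [mul_inv_eq_one, mul_inv_eq_iff_eq_mul] at h5

theorem rt (hL : L ∈ B) {z : ↥C} (hz : (z : G) = Cit.zz L) (h : Rt (φ z) ((L.subgroupOf C).map φ) (φ c)) :
    Rt (Cit.zz L) L (c : G) := by
  refine ⟨s.cj_eq hL h.1, fun y hy hyy => ?_⟩
  have hyC := s.le L hL hy
  have h1 := h.2 (φ ⟨y, hyC⟩) ⟨⟨y, hyC⟩, hy, rfl⟩ (by
    rw [← map_mul]
    exact congrArg φ (Subtype.ext (hyy.trans hz.symm)))
  constructor
  · intro h2
    apply h1.1
    rw [← map_inv, ← map_mul, ← map_mul]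
    exact congrArg φ (Subtype.ext h2)
  · intro h2
    apply h1.2
    rw [← map_inv, ← map_mul, ← map_mul, ← map_mul]
    exact congrArg φ (Subtype.ext (by rw [← hz] at h2; exact h2))

theorem rt' (hL : L ∈ B) {z : ↥C} (hz : (z : G) = Cit.zz L) (h : Rt (Cit.zz L) L (c : G)) :
    Rt (φ z) ((L.subgroupOf C).map φ) (φ c) := by
  refine ⟨by rw [← im_cj, h.1], ?_⟩
  rintro _ ⟨y, hy, rfl⟩ hyy
  have hyL : (y : G) ∈ L := hy
  have hzL : (z : G) ∈ L := by rw [hz]; exact s.zc L hL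
  have hcy : (c : G) * y * (c : G)⁻¹ ∈ L := by
    have := conj_mem_cj (g := (c : G)) hyL
    rwa [h.1] at this
  have h1 : (y : G) * y = Cit.zz L := by
    have h2 := s.inf L hL (y * y * z⁻¹) (mul_mem (mul_mem hyL hyL) (inv_mem hzL)) (by
      rw [map_mul, map_mul, map_inv, hyy, mul_inv_cancel])
    rw [mul_inv_eq_one] at h2
    rw [← hz]
    exact congrArg Subtype.val h2
  have h2 := h.2 _ hyL h1
  constructor
  · intro h3
    apply h2.1
    have h4 := s.inf L hL (c * y * c⁻¹ * y⁻¹) (mul_mem hcy (inv_mem hyL)) (by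
      rw [map_mul, map_mul, map_mul, map_inv, map_inv, h3, mul_inv_cancel])
    rw [mul_inv_eq_one] at h4
    exact congrArg Subtype.val h4
  · intro h3
    apply h2.2
    have h4 := s.inf L hL (c * y * c⁻¹ * (z * y)⁻¹) (mul_mem hcy (inv_mem (mul_mem hzL hyL))) (by
      rw [map_mul, map_mul, map_mul, map_inv, map_inv, map_mul, h3, mul_inv_cancel])
    rw [mul_inv_eq_one] at h4
    rw [← hz]
    exact congrArg Subtype.val h4

theorem nn (hL : L ∈ B) {z : ↥C} (hz : (z : G) = Cit.zz L) (hc : cj (c : G) L = L)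
    (h : Nn (φ z) ((L.subgroupOf C).map φ) (φ c)) : Nn (Cit.zz L) L (c : G) := by
  intro y hy
  have hyC := s.le L hL hy
  have hzL : (z : G) ∈ L := by rw [hz]; exact s.zc L hL
  have hcy : (c : G) * y * (c : G)⁻¹ ∈ L := by
    have := conj_mem_cj (g := (c : G)) hy
    rwa [hc] at this
  rcases h (φ ⟨y, hyC⟩) ⟨⟨y, hyC⟩, hy, rfl⟩ with h3 | h3
  · left
    have h4 := s.inf L hL (c * ⟨y, hyC⟩ * c⁻¹ * ⟨y, hyC⟩⁻¹) (mul_mem hcy (inv_mem hy)) (by
      rw [map_mul, map_mul, map_mul, map_inv, map_inv, h3, mul_inv_cancel])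
    rw [mul_inv_eq_one] at h4
    exact congrArg Subtype.val h4
  · right
    have h4 := s.inf L hL (c * ⟨y, hyC⟩ * c⁻¹ * (z * ⟨y, hyC⟩)⁻¹)
      (mul_mem hcy (inv_mem (mul_mem hzL hy))) (by
      rw [map_mul, map_mul, map_mul, map_inv, map_inv, map_mul, h3, mul_inv_cancel])
    rw [mul_inv_eq_one] at h4
    rw [← hz]
    exact congrArg Subtype.val h4

/-- a type I partner of the point `φ z`, and its axis element -/
theorem exists_axis {z t : H} (hti : TI (Im C B φ) z t) :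
    ∃ L ∈ B, ∃ x : ↥C, (x : G) ∈ L ∧ Mem (Im C B φ) t ((L.subgroupOf C).map φ) ∧
      As ((L.subgroupOf C).map φ) z (φ x) := by
  obtain ⟨P, hP⟩ := hti.inT
  obtain ⟨L, hL, rfl⟩ := hP.1
  obtain ⟨x, hx, -⟩ := (hti.symm s.w4).exists_as s.w4 hP
  obtain ⟨y, hy, rfl⟩ := hx.1
  exact ⟨L, hL, y, hy, hP, hx⟩

/-- **step 1** -/
theorem stepOne {P : Fin 4 → Subgroup G} (hP : ∀ i, P i ∈ B) (hinj : Function.Injective P) {z : H}
    (hz : ∀ i, ∀ y : ↥C, (y : G) = Cit.zz (P i) → φ y = z) :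
    ∃ w ∈ sSup B, w ∈ C ∧ (∀ i, cj w (P i) = P i) ∧
      ((Rt (Cit.zz (P 0)) (P 0) w ∧ Nn (Cit.zz (P 1)) (P 1) w) ∨ (Rt (Cit.zz (P 1)) (P 1) w ∧ Nn (Cit.zz (P 0)) (P 0) w) ∨
       (Rt (Cit.zz (P 2)) (P 2) w ∧ Nn (Cit.zz (P 3)) (P 3) w) ∨ (Rt (Cit.zz (P 3)) (P 3) w ∧ Nn (Cit.zz (P 2)) (P 2) w)) := by
  have w4 := s.w4
  obtain ⟨zi, hzi⟩ : ∃ zi : Fin 4 → ↥C, ∀ i, (zi i : G) = Cit.zz (P i) :=
    ⟨fun i => ⟨Cit.zz (P i), s.le _ (hP i) (s.zc _ (hP i))⟩, fun _ => rfl⟩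
  have hzz : ∀ i, φ (zi i) = z := fun i => hz i _ (hzi i)
  obtain ⟨F, hF⟩ : ∃ F : Fin 4 → Subgroup H, ∀ i, F i = ((P i).subgroupOf C).map φ := ⟨_, fun _ => rfl⟩
  have hm : ∀ i, Mem (Im C B φ) z (F i) := fun i => by
    rw [hF, ← hzz i]; exact s.memz (hP i) (hzi i)
  have hFinj : Function.Injective F := by
    intro i j hij
    rw [hF, hF] at hij
    exact hinj (s.inj _ (hP i) _ (hP j) hij)
  -- a frame
  have f : RFour.Fr (Im C B φ) z F := by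
    refine ⟨hm, hFinj, fun M hM => ?_⟩
    obtain ⟨F', f'⟩ := (hm 0).inZ.exists_fr w4
    have h1 : ∀ i, ∃ j, F' j = F i := fun i => f'.cov _ (hm i)
    choose σ hσ using h1
    have hσi : Function.Injective σ := fun i j hij => hFinj (by rw [← hσ, ← hσ, hij])
    obtain ⟨k, hk⟩ := f'.cov M hM
    obtain ⟨i, hi⟩ := Finite.injective_iff_surjective.1 hσi k
    exact ⟨i, by rw [← hσ, hi, hk]⟩
  obtain ⟨t, t', hti, hti', hne⟩ := s.nc z (hm 0).inZ
  obtain ⟨L, hL, x, hx, hLm, hxa⟩ := s.exists_axis hti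
  obtain ⟨L', hL', x', hx', hLm', hxa'⟩ := s.exists_axis hti'
  have key := fun i => ww w4 hti hti' (hm i) hLm hLm' hxa hxa'
  have hc : ∀ i, cj ((x * x' : ↥C) : G) (P i) = P i := fun i => by
    refine s.cj_eq (hP i) ?_
    rw [map_mul, ← hF]
    exact (key i).2.2
  have hrt : ∀ i, Dif (Im C B φ) z t t' (F i) → Rt (Cit.zz (P i)) (P i) ((x * x' : ↥C) : G) := fun i hd => by
    refine s.rt (hP i) (hzi i) ?_
    rw [map_mul, ← hF, hzz]
    exact (key i).1 hd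
  have hnn : ∀ i, ¬ Dif (Im C B φ) z t t' (F i) → Nn (Cit.zz (P i)) (P i) ((x * x' : ↥C) : G) := fun i hd => by
    refine s.nn (hP i) (hzi i) (hc i) ?_
    rw [map_mul, ← hF, hzz]
    exact (key i).2.1 hd
  refine ⟨((x * x' : ↥C) : G), ?_, (x * x').2, hc, ?_⟩
  · exact mul_mem (Subgroup.mem_sSup_of_mem hL hx) (Subgroup.mem_sSup_of_mem hL' hx')
  · rcases split w4 hti hti' hne f with h1 | h1
    · by_cases h2 : Dif (Im C B φ) z t t' (F 0)
      · have h3 : ¬ Dif (Im C B φ) z t t' (F 1) := fun h3 => h1 ⟨fun _ => h3, fun _ => h2⟩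
        exact Or.inl ⟨hrt 0 h2, hnn 1 h3⟩
      · have h3 : Dif (Im C B φ) z t t' (F 1) := by
          by_contra h3
          exact h1 ⟨fun h => absurd h h2, fun h => absurd h h3⟩
        exact Or.inr (Or.inl ⟨hrt 1 h3, hnn 0 h2⟩)
    · by_cases h2 : Dif (Im C B φ) z t t' (F 2)
      · have h3 : ¬ Dif (Im C B φ) z t t' (F 3) := fun h3 => h1 ⟨fun _ => h3, fun _ => h2⟩
        exact Or.inr (Or.inr (Or.inl ⟨hrt 2 h2, hnn 3 h3⟩))
      · have h3 : Dif (Im C B φ) z t t' (F 3) := by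
          by_contra h3
          exact h1 ⟨fun h => absurd h h2, fun h => absurd h h3⟩
        exact Or.inr (Or.inr (Or.inr ⟨hrt 3 h3, hnn 2 h2⟩))

/-- **step 2** -/
theorem stepTwo {P : Fin 4 → Subgroup G} (hP : ∀ i, P i ∈ B) (hinj : Function.Injective P) {z : H}
    (hz : ∀ i, ∀ y : ↥C, (y : G) = Cit.zz (P i) → φ y = z) {w : G} (hw : w ∈ C)
    (hc : ∀ i, i ≠ 3 → ∀ p ∈ P i, w * p = p * w) (hr : Rt (Cit.zz (P 3)) (P 3) w) :
    ∃ e ∈ sSup B, e ∈ C ∧ (∀ i, i ≠ 3 → ∀ p ∈ P i, e * p = p * e) ∧ Rt (Cit.zz (P 3)) (P 3) e ∧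
      ∀ n ∈ C, (∀ i, ∀ p ∈ P i, n * p = p * n) → ∀ y ∈ sSup B, n * e * n⁻¹ * e⁻¹ * y = y * (n * e * n⁻¹ * e⁻¹) := by
  have w4 := s.w4
  obtain ⟨zi, hzi⟩ : ∃ zi : Fin 4 → ↥C, ∀ i, (zi i : G) = Cit.zz (P i) :=
    ⟨fun i => ⟨Cit.zz (P i), s.le _ (hP i) (s.zc _ (hP i))⟩, fun _ => rfl⟩
  have hzz : ∀ i, φ (zi i) = z := fun i => hz i _ (hzi i)
  obtain ⟨F, hF⟩ : ∃ F : Fin 4 → Subgroup H, ∀ i, F i = ((P i).subgroupOf C).map φ := ⟨_, fun _ => rfl⟩
  have hm : ∀ i, Mem (Im C B φ) z (F i) := fun i => by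
    rw [hF, ← hzz i]; exact s.memz (hP i) (hzi i)
  have hFinj : Function.Injective F := by
    intro i j hij
    rw [hF, hF] at hij
    exact hinj (s.inj _ (hP i) _ (hP j) hij)
  have cov : ∀ M, Mem (Im C B φ) z M → ∃ i, F i = M := by
    intro M hM
    obtain ⟨F', f'⟩ := (hm 0).inZ.exists_fr w4
    have h1 : ∀ i, ∃ j, F' j = F i := fun i => f'.cov _ (hm i)
    choose σ hσ using h1
    have hσi : Function.Injective σ := fun i j hij => hFinj (by rw [← hσ, ← hσ, hij])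
    obtain ⟨k, hk⟩ := f'.cov M hM
    obtain ⟨i, hi⟩ := Finite.injective_iff_surjective.1 hσi k
    exact ⟨i, by rw [← hσ, hi, hk]⟩
  obtain ⟨c, hcw⟩ : ∃ c : ↥C, (c : G) = w := ⟨⟨w, hw⟩, rfl⟩
  -- `φ c` has weight one
  have hcomm : ∀ Q, Mem (Im C B φ) z Q → Q ≠ F 3 → ∀ q ∈ Q, φ c * q = q * φ c := by
    intro Q hQ hne
    obtain ⟨i, rfl⟩ := cov Q hQ
    have hi : i ≠ 3 := fun h => hne (by rw [h])
    rw [hF]
    rintro _ ⟨y, hy, rfl⟩
    rw [← map_mul, ← map_mul]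
    refine congrArg φ (Subtype.ext ?_)
    change (c : G) * y = y * c
    rw [hcw]
    exact hc i hi y hy
  have hrot : Rt z (F 3) (φ c) := by
    rw [hF, ← hzz 3]
    refine s.rt' (hP 3) (hzi 3) ?_
    rw [hcw]; exact hr
  have hcz : φ c * z = z * φ c := by
    have h0 : z ∈ F 0 := (hm 0).zmem w4
    exact hcomm _ (hm 0) (fun h => by have := hFinj h; exact absurd this (by decide)) z h0
  obtain ⟨t, -, hti, -⟩ := s.nc z (hm 0).inZ
  obtain ⟨L, hL, x, hx, hLm, hxa⟩ := s.exists_axis hti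
  obtain ⟨h1, h2, h3⟩ := ee w4 hti (hm 3) hLm hxa hcz hcomm hrot
  obtain ⟨e, he⟩ : ∃ e : ↥C, e = x⁻¹ * (c * x * c⁻¹) := ⟨_, rfl⟩
  have heφ : φ e = (φ x)⁻¹ * (φ c * φ x * (φ c)⁻¹) := by
    rw [he, map_mul, map_mul, map_mul, map_inv, map_inv]
  rw [← heφ] at h1 h2 h3
  have hcx : (c : G) * x * (c : G)⁻¹ ∈ sSup B := by
    have h4 : cj (c : G) L ∈ B := s.conj L hL c c.2
    exact Subgroup.mem_sSup_of_mem h4 (conj_mem_cj hx)
  refine ⟨(e : G), ?_, e.2, ?_, ?_, ?_⟩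
  · rw [he]
    change (x : G)⁻¹ * ((c : G) * x * (c : G)⁻¹) ∈ sSup B
    exact mul_mem (inv_mem (Subgroup.mem_sSup_of_mem hL hx)) hcx
  · intro i hi p hp
    refine s.comm (hP i) (fun k hk => ?_) hp
    rw [← hF] at hk
    exact h1 (F i) (hm i) (fun h => hi (hFinj h)) k hk
  · refine s.rt (hP 3) (hzi 3) ?_
    rw [← hF, hzz]
    exact h2
  · intro n hn hnP y hy
    obtain ⟨m, hmn⟩ : ∃ m : ↥C, (m : G) = n := ⟨⟨n, hn⟩, rfl⟩
    have h4 : φ m ∈ CX (Im C B φ) z := by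
      rw [mem_CX]
      intro Q hQ q hq
      obtain ⟨i, rfl⟩ := cov Q hQ
      rw [hF] at hq
      obtain ⟨y, hy, rfl⟩ := hq
      rw [← map_mul, ← map_mul]
      refine congrArg φ (Subtype.ext ?_)
      change (m : G) * y = y * m
      rw [hmn]
      exact hnP i y hy
    have h5 := h3 _ h4
    have h6 : φ (m * e * m⁻¹ * e⁻¹) = 1 := by
      rw [map_mul, map_mul, map_mul, map_inv, map_inv, h5]
      group
    have h7 := s.ker _ h6 y hy
    rw [← hmn]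
    exact h7

end SecH

end Cfsg.Agent.Cit.Nil.RFour.M3
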