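import Cfsg.Agent.Cit.Nil.RFour.Asm
import Cfsg.Agent.Cit.Nil.RFour.Exc
import Cfsg.Agent.Cit.Nil.RFour.OTwo
import Cfsg.Agent.Cit.Nil.Three.Inst

/-!
# S1309 (n6), `r = 2`, AllOne, (M3): the world `r' = 4`, `m' = 1` of the sections

* `Rt z K g` : `g` normalises `K` and moves every axis; `Nn z K g` : `g` acts on `K` as an inner automorphism;
* `act_swap` : the axis element `x ∈ L` (over the type I partner `t` of `z`) acts on the members over `z` as a
  transposition;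
* `TI.ww` : `x x'` rotates the members over `z` on which `t`, `t'` have different axes and is inner on the others;
* `split` : `t t' ≠ t' t` : one of the two blocks `{F 0, F 1}`, `{F 2, F 3}` is split;
* `TI.ee` : if `g` has weight one on the members over `z` then `e = x⁻¹ g x g⁻¹` has weight one, too, and commutes
  with `X_z`.
-/

set_option autoImplicit false
set_option linter.style.haveILetI false
set_option linter.unusedSectionVars false

namespace Cfsg.Agent.Cit.Nil.RFour.M3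

open Subgroup Cfsg Cfsg.Agent.Cit
open RTwo (Q3 Act i11 i12 i21 i22 i_ne1 i_ne2 i_ne12 i_cases i_cases3)

variable {G : Type*} [Group G]

/-- `g` normalises `K` and moves every axis -/
def Rt (z : G) (K : Subgroup G) (g : G) : Prop :=
  cj g K = K ∧ ∀ y ∈ K, y * y = z → g * y * g⁻¹ ≠ y ∧ g * y * g⁻¹ ≠ z * y

/-- `g` acts on `K` as an inner automorphism -/
def Nn (z : G) (K : Subgroup G) (g : G) : Prop :=
  ∀ k ∈ K, g * k * g⁻¹ = k ∨ g * k * g⁻¹ = z * k

section

variable {K : Subgroup G} {z g : G} {q : Fin 3 → G}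

theorem Rt.of_act (hq : Q3 K z q) (hg : cj g K = K) (hgz : g * z = z * g) {σ : Equiv.Perm (Fin 3)}
    (h : Act z q q g σ) (hσ : ∀ i, σ i ≠ i) : Rt z K g := by
  refine ⟨hg, fun y hy hyy => ?_⟩
  obtain ⟨i, hi⟩ := hq.of_sq hy hyy
  have key : ∀ w, (w = q i ∨ w = z * q i) → g * y * g⁻¹ ≠ w := by
    intro w hw hw'
    have e : g * (z * q i) * g⁻¹ = z * (g * q i * g⁻¹) := by
      calc g * (z * q i) * g⁻¹ = (g * z) * q i * g⁻¹ := by group
        _ = (z * g) * q i * g⁻¹ := by rw [hgz]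
        _ = _ := by group
    have h5 : g * y * g⁻¹ = q (σ i) ∨ g * y * g⁻¹ = z * q (σ i) := by
      rcases hi with rfl | rfl
      · exact h i
      · rw [e]
        rcases h i with h6 | h6
        · right; rw [h6]
        · left; rw [h6, hq.zzx]
    apply hσ i
    rw [hw'] at h5
    rcases hw with rfl | rfl <;> rcases h5 with h6 | h6
    · exact (hq.inj (Or.inl h6)).symm
    · exact (hq.inj (Or.inr h6)).symm
    · exact hq.inj (Or.inr h6.symm)
    · exact (hq.inj (Or.inl (mul_left_cancel h6))).symm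
  rcases hi with hi | hi
  · exact ⟨key _ (Or.inl hi), key _ (Or.inr (by rw [hi]))⟩
  · exact ⟨key _ (Or.inr hi), key _ (Or.inl (by rw [hi, hq.zzx]))⟩

/-- the permutation of a rotation has order 3 -/
theorem Rt.exists_act (hq : Q3 K z q) (h : Rt z K g) (hgz : g * z = z * g) :
    ∃ i : Fin 3, i ≠ 0 ∧ Act z q q g (Equiv.addRight i) := by
  obtain ⟨σ, hσ⟩ := hq.exists_act hq h.1 hgz
  have h1 : ∀ i, σ i ≠ i := by
    intro i hi
    have h2 := h.2 (q i) (hq.mem i) (hq.sq i)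
    rcases hσ i with h3 | h3
    · rw [hi] at h3; exact h2.1 h3
    · rw [hi] at h3; exact h2.2 h3
  have key : ∀ σ : Equiv.Perm (Fin 3), (∀ i, σ i ≠ i) → ∃ i : Fin 3, i ≠ 0 ∧ σ = Equiv.addRight i := by decide
  obtain ⟨i, hi, rfl⟩ := key σ h1
  exact ⟨i, hi, hσ⟩

end

variable [Finite G] {Om : Set (Subgroup G)} {K L M L' : Subgroup G} {a b c d e g n r s t t' u v x x' y z : G}
  {q : Fin 3 → G}

/-- **the quarter turn as a transposition** -/
theorem act_swap (hti : TI Om z t) (h : W4 Om) (hM : Mem Om z M) (hL : Mem Om t L) (hx : As L z x)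
    (hq : Q3 M z q) {i : Fin 3} (hy : As M t (q i)) :
    cj x M = M ∧ Act z q q x (Equiv.swap (i + 1) (i + 2)) := by
  obtain ⟨h1, h2, h3⟩ := (hti.symm h).rot h hL hM hx hy
  refine ⟨h1, ?_⟩
  obtain ⟨σ, hσ⟩ := hq.exists_act hq h1 hx.comm.symm
  have e1 : σ i = i := by
    have h4 : x * q i * x⁻¹ = q i := by rw [h2, mul_inv_cancel_right]
    rcases hσ i with h5 | h5
    · rw [h4] at h5; exact (hq.inj (Or.inl h5)).symm
    · rw [h4] at h5; exact (hq.inj (Or.inr h5)).symm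
  have hnc : q i * q (i + 1) ≠ q (i + 1) * q i := by
    intro h4
    rw [hq.mul, hq.mul'] at h4
    exact hq.zx_ne _ h4.symm
  have e2 : σ (i + 1) = i + 2 := by
    have h4 := h3 (q (i + 1)) (hq.mem _) (hq.sq _) hnc
    rw [hq.mul] at h4
    rcases h4 with h4 | h4 <;> rcases hσ (i + 1) with h5 | h5 <;> rw [h4] at h5
    · exact (hq.inj (Or.inl h5)).symm
    · exact (hq.inj (Or.inr h5)).symm
    · exact hq.inj (Or.inr h5.symm)
    · exact (hq.inj (Or.inl (mul_left_cancel h5))).symm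
  have key : ∀ (σ : Equiv.Perm (Fin 3)) (i : Fin 3), σ i = i → σ (i + 1) = i + 2 →
      σ = Equiv.swap (i + 1) (i + 2) := by decide
  rw [← key σ i e1 e2]
  exact hσ

theorem As.of_zmul (h : W4 Om) (hM : Mem Om z M) (hy : As M t y) : As M t (z * y) := by
  refine ⟨mul_mem (hM.zmem h) hy.1, fun k hk => ?_⟩
  rw [hy.2 k hk]
  have h1 : y * k * y⁻¹ ∈ M := mul_mem (mul_mem hy.1 hk) (inv_mem hy.1)
  have h2 := hM.comm_z h h1
  calc y * k * y⁻¹ = z * (y * k * y⁻¹) * z⁻¹ := by rw [← h2, mul_inv_cancel_right]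
    _ = _ := by group

/-- coordinates for two type I partners -/
theorem exists_coord (h : W4 Om) (hti : TI Om z t) (hti' : TI Om z t') (hM : Mem Om z M) :
    ∃ q j, Q3 M z q ∧ As M t (q 0) ∧ As M t' (q j) := by
  obtain ⟨y, hy, hyy⟩ := hti.exists_as h hM
  obtain ⟨q, hq, hq0⟩ := hM.exists_q h hy.1 hyy
  obtain ⟨y', hy', hyy'⟩ := hti'.exists_as h hM
  obtain ⟨j, hj⟩ := hq.of_sq hy'.1 hyy'
  refine ⟨q, j, hq, by rw [hq0]; exact hy, ?_⟩
  rcases hj with hj | hj
  · rwa [← hj]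
  · have h1 := As.of_zmul h hM hy'
    rwa [hj, hq.zzx] at h1

theorem dif_iff (h : W4 Om) (hM : Mem Om z M) (hq : Q3 M z q) {j : Fin 3} (h0 : As M t (q 0))
    (hj : As M t' (q j)) : Dif Om z t t' M ↔ j ≠ 0 := by
  constructor
  · rintro ⟨-, y, y', hy, hy', hn⟩ rfl
    apply hn
    have hz := hq.z2
    refine sgn_comm hz (hq.zc 0) (hq.zc 0) _ _ (hM.as_unique h h0 hy) (hM.as_unique h hj hy') rfl
  · intro hj0
    refine ⟨hM, q 0, q j, h0, hj, fun h1 => ?_⟩
    have h2 := hq.anti (Ne.symm hj0)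
    rw [h1, mul_assoc] at h2
    exact hq.z1 (mul_eq_right.1 h2.symm)

/-- **`x x'`** -/
theorem ww (h : W4 Om) (hti : TI Om z t) (hti' : TI Om z t') (hM : Mem Om z M) (hL : Mem Om t L) (hL' : Mem Om t' L')
    (hx : As L z x) (hx' : As L' z x') :
    (Dif Om z t t' M → Rt z M (x * x')) ∧ (¬ Dif Om z t t' M → Nn z M (x * x')) ∧ cj (x * x') M = M := by
  obtain ⟨q, j, hq, h0, hj⟩ := exists_coord h hti hti' hM
  obtain ⟨c1, a1⟩ := act_swap hti h hM hL hx hq h0
  obtain ⟨c2, a2⟩ := act_swap hti' h hM hL' hx' hq hj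
  have hz := hq.z2
  have hxz : x * z = z * x := hx.comm.symm
  have hxz' : x' * z = z * x' := hx'.comm.symm
  have hc : cj (x * x') M = M := by rw [cj_mul, c2, c1]
  have hcz : x * x' * z = z * (x * x') := by
    calc x * x' * z = x * (x' * z) := by group
      _ = (x * z) * x' := by rw [hxz']; group
      _ = _ := by rw [hxz]; group
  have h3 := a2.comp hz a1 hxz
  refine ⟨fun hd => ?_, fun hd => ?_, hc⟩
  · rw [dif_iff h hM hq h0 hj] at hd
    refine Rt.of_act hq hc hcz h3 ?_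
    have key : ∀ j : Fin 3, j ≠ 0 → ∀ i,
        (Equiv.swap ((0 : Fin 3) + 1) (0 + 2) * Equiv.swap (j + 1) (j + 2)) i ≠ i := by decide
    exact key j hd
  · rw [dif_iff h hM hq h0 hj, not_not] at hd
    subst hd
    rw [Equiv.swap_mul_self] at h3
    exact Act.inner hq h3 hcz

/-- **one of the two blocks is split** -/
theorem split (h : W4 Om) (hti : TI Om z t) (hti' : TI Om z t') (hne : t * t' ≠ t' * t) {F : Fin 4 → Subgroup G}
    (f : RFour.Fr Om z F) : ¬ (Dif Om z t t' (F 0) ↔ Dif Om z t t' (F 1)) ∨ ¬ (Dif Om z t t' (F 2) ↔ Dif Om z t t' (F 3)) := by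
  by_contra hcon
  push Not at hcon
  obtain ⟨h1, h2⟩ := hcon
  apply odd_dif h hti hti' hne
  classical
  have e : {i : Fin 4 // Dif Om z t t' (F i)} ≃ {K : Subgroup G // Dif Om z t t' K} := by
    refine Equiv.ofBijective (fun i => ⟨F i.1, i.2⟩) ⟨fun i j hij => ?_, fun K => ?_⟩
    · exact Subtype.ext (f.inj (congrArg Subtype.val hij))
    · obtain ⟨i, hi⟩ := f.cov K.1 K.2.1
      exact ⟨⟨i, hi ▸ K.2⟩, Subtype.ext hi⟩
  rw [← Nat.card_congr e, Nat.card_eq_fintype_card, Fintype.card_subtype, Finset.card_filter, Fin.sum_univ_four]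
  by_cases c0 : Dif Om z t t' (F 0) <;> by_cases c2 : Dif Om z t t' (F 2)
  · rw [if_pos c0, if_pos (h1.1 c0), if_pos c2, if_pos (h2.1 c2)]; decide
  · rw [if_pos c0, if_pos (h1.1 c0), if_neg c2, if_neg (fun h => c2 (h2.2 h))]
  · rw [if_neg c0, if_neg (fun h => c0 (h1.2 h)), if_pos c2, if_pos (h2.1 c2)]
  · rw [if_neg c0, if_neg (fun h => c0 (h1.2 h)), if_neg c2, if_neg (fun h => c2 (h2.2 h))]; decide

/-- **the commutator `e = x⁻¹ g x g⁻¹`** -/
theorem ee (h : W4 Om) (hti : TI Om z t) (hM : Mem Om z M) (hL : Mem Om t L) (hx : As L z x) (hgz : g * z = z * g)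
    (hg : ∀ P, Mem Om z P → P ≠ M → ∀ p ∈ P, g * p = p * g) (hr : Rt z M g) :
    (∀ P, Mem Om z P → P ≠ M → ∀ p ∈ P, x⁻¹ * (g * x * g⁻¹) * p = p * (x⁻¹ * (g * x * g⁻¹))) ∧
      Rt z M (x⁻¹ * (g * x * g⁻¹)) ∧
      ∀ n ∈ CX Om z, n * (x⁻¹ * (g * x * g⁻¹)) = (x⁻¹ * (g * x * g⁻¹)) * n := by
  have hgz' : g * z * g⁻¹ = z := by rw [hgz, mul_inv_cancel_right]
  have hti' : TI Om z (g * t * g⁻¹) := by
    have := hti.conj h g
    rwa [hgz'] at this
  have hL' : Mem Om (g * t * g⁻¹) (cj g L) := hL.cj h g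
  have hx' : As (cj g L) z (g * x * g⁻¹) := hx.conj_comm hgz
  have hxz : x * z = z * x := hx.comm.symm
  have hxz' : (g * x * g⁻¹) * z = z * (g * x * g⁻¹) := hx'.comm.symm
  refine ⟨fun P hP hne p hp => ?_, ?_, fun n hn => ?_⟩
  · -- `x` normalises `P`
    obtain ⟨y, hy, hyy⟩ := hti.exists_as h hP
    have h1 := ((hti.symm h).rot h hL hP hx hy).1
    have h2 : ∀ p ∈ P, x⁻¹ * p * x ∈ P := by
      intro p hp
      have h3 : cj x⁻¹ P = P := by
        conv_lhs => rw [← h1]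
        rw [cj_inv_cj]
      have h4 := conj_mem_cj (g := x⁻¹) hp
      rw [h3, inv_inv] at h4
      exact h4
    have h5 := hg P hP hne
    have hgi : ∀ p ∈ P, g⁻¹ * p = p * g⁻¹ := fun p hp => by
      rw [inv_mul_eq_iff_eq_mul, ← mul_assoc, h5 p hp, mul_inv_cancel_right]
    -- `x⁻¹ g x g⁻¹ p = x⁻¹ g x p g⁻¹`
    have h6 : x * p * x⁻¹ ∈ P := by
      have h4 := conj_mem_cj (g := x) hp
      rwa [h1] at h4
    calc x⁻¹ * (g * x * g⁻¹) * p = x⁻¹ * g * x * (g⁻¹ * p) := by group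
      _ = x⁻¹ * g * (x * p * x⁻¹) * x * g⁻¹ := by rw [hgi p hp]; group
      _ = x⁻¹ * (g * (x * p * x⁻¹)) * x * g⁻¹ := by group
      _ = x⁻¹ * ((x * p * x⁻¹) * g) * x * g⁻¹ := by rw [h5 _ h6]
      _ = _ := by group
  · obtain ⟨y, hy, hyy⟩ := hti.exists_as h hM
    obtain ⟨q, hq, hq0⟩ := hM.exists_q h hy.1 hyy
    rw [← hq0] at hy
    obtain ⟨c1, a1⟩ := act_swap hti h hM hL hx hq hy
    obtain ⟨i, hi, ha⟩ := hr.exists_act hq hgz
    have hy' : As M (g * t * g⁻¹) (q (0 + i)) := by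
      have h2 := hy.conj g
      rw [hr.1] at h2
      rcases ha 0 with h3 | h3
      · rw [h3] at h2; exact h2
      · rw [h3] at h2
        have h4 := As.of_zmul h hM h2
        rwa [hq.zzx] at h4
    obtain ⟨c2, a2⟩ := act_swap hti' h hM hL' hx' hq hy'
    have c1' : cj x⁻¹ M = M := by
      conv_lhs => rw [← c1]
      rw [cj_inv_cj]
    have a1' := Three.act_inv hq a1 hxz c1
    have hxz2 : x⁻¹ * z = z * x⁻¹ := by rw [inv_mul_eq_iff_eq_mul, ← mul_assoc, hxz, mul_inv_cancel_right]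
    have h3 := a2.comp hq.z2 a1' hxz2
    refine Rt.of_act hq (by rw [cj_mul, c2, c1']) ?_ h3 ?_
    · calc x⁻¹ * (g * x * g⁻¹) * z = x⁻¹ * ((g * x * g⁻¹) * z) := by group
        _ = (x⁻¹ * z) * (g * x * g⁻¹) := by rw [hxz']; group
        _ = _ := by rw [hxz2]; group
    · have key : ∀ i : Fin 3, i ≠ 0 → ∀ k,
          ((Equiv.swap ((0 : Fin 3) + 1) (0 + 2))⁻¹ * Equiv.swap (0 + i + 1) (0 + i + 2)) k ≠ k := by decide
      exact key i hi
  · have e1 : n * x = x * n := hti.comm_of h hn (hL.le_RZ hx.1) hxz.symm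
    have e2 : n * (g * x * g⁻¹) = (g * x * g⁻¹) * n := hti'.comm_of h hn (hL'.le_RZ hx'.1) hxz'.symm
    have c1 : Commute n x := e1
    have c2 : Commute n (g * x * g⁻¹) := e2
    exact (c1.inv_right.mul_right c2).eq

/-- **the centraliser of `t` is transitive on the members over `t`** -/
theorem trans_of_ti (h : W4 Om) (hti : TI Om z t) (hL : Mem Om t L) (hL' : Mem Om t L') :
    ∃ g, g * t = t * g ∧ cj g L = L' := by
  obtain ⟨F, f⟩ := hti.inZ.exists_fr h
  have h1 : ∀ i, ∃ y, As (F i) t y ∧ y * y = z := fun i => hti.exists_as h (f.mem i)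
  choose y hy hyy using h1
  have h2 : ∀ i, ∃ u ∈ F i, u * u = z ∧ y i * u ≠ u * y i := fun i => (f.mem i).exists_nc h (hy i).1 (hyy i)
  choose v hv hvv hyv using h2
  obtain ⟨g, hg⟩ : ∃ g : Fin 4 → G, ∀ i, g i = if i = 0 then 1 else v 0 * v i := ⟨_, fun _ => rfl⟩
  have hz := hti.inZ
  have hz2 := hz.z2 h
  have hvt : ∀ i, v i * t * (v i)⁻¹ = z * t := by
    intro i
    have h3 := (hti.symm h).conj_z h (f.mem i) (hy i) (hv i) (hvv i) (hyv i)
    rw [h3]; exact hti.comm.symm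
  have hvz : ∀ i, v i * z = z * v i := fun i => (f.mem i).comm_z h (hv i)
  have hgt : ∀ i, g i * t = t * g i := by
    intro i
    rw [hg]
    split_ifs with hi
    · rw [one_mul, mul_one]
    · have e1 : v 0 * v i * t = v 0 * (v i * t * (v i)⁻¹) * v i := by group
      rw [e1, hvt]
      calc v 0 * (z * t) * v i = (v 0 * z) * t * v i := by group
        _ = z * (v 0 * t * (v 0)⁻¹) * (v 0 * v i) := by rw [hvz]; group
        _ = (z * z) * t * (v 0 * v i) := by rw [hvt]; group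
        _ = _ := by rw [hz2, one_mul]
  obtain ⟨F', f', h0⟩ := hL.exists_fr1 h
  have h3 : ∀ i, ∃ j, F' j = cj (g i) L := fun i => f'.cov _ (hL.cj_comm h (hgt i))
  choose σ hσ using h3
  have hinj : Function.Injective σ := by
    intro i j hij
    have h4 : cj (g i) L = cj (g j) L := by rw [← hσ, ← hσ, hij]
    by_contra hne
    by_cases hi : i = 0
    · have hj : j ≠ 0 := fun h => hne (hi.trans h.symm)
      rw [hg i, hg j, if_pos hi, if_neg hj, cj_one] at h4
      exact hti.moves h (f.mem 0) (f.mem j) (f.ne (Ne.symm hj)) hL (hy 0) (hv 0) (hvv 0) (hyv 0) (hv j) h4.symm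
    by_cases hj : j = 0
    · rw [hg i, hg j, if_neg hi, if_pos hj, cj_one] at h4
      exact hti.moves h (f.mem 0) (f.mem i) (f.ne (Ne.symm hi)) hL (hy 0) (hv 0) (hvv 0) (hyv 0) (hv i) h4
    · rw [hg i, hg j, if_neg hi, if_neg hj] at h4
      have h5 := cj_eq_of h4
      have e1 : (v 0 * v i)⁻¹ * (v 0 * v j) = (v i)⁻¹ * v j := by group
      rw [e1] at h5
      refine hti.moves h (f.mem i) (f.mem j) (f.ne hne) hL (hy i) (inv_mem (hv i)) ?_ ?_ (hv j) h5
      · rw [← mul_inv_rev, hvv, hz.inv h]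
      · intro h6
        apply hyv i
        calc y i * v i = v i * ((v i)⁻¹ * y i) * v i := by group
          _ = v i * (y i * (v i)⁻¹) * v i := by rw [h6]
          _ = _ := by group
  obtain ⟨k, hk⟩ := f'.cov _ hL'
  obtain ⟨i, hi⟩ := Finite.injective_iff_surjective.1 hinj k
  exact ⟨g i, hgt i, by rw [← hσ, hi, hk]⟩

/-- **all members are conjugate** -/
theorem oneCls_of_ti (h : W4 Om) (hT : ∀ z, InZ Om z → ∃ t, TI Om z t) : OneCls Om := by
  haveI : Fact (Nat.Prime 2) := ⟨Nat.prime_two⟩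
  intro K hK L hL
  obtain ⟨S, hS⟩ := (h.isPGroup hK).exists_le_sylow
  obtain ⟨S', hS'⟩ := (h.isPGroup hL).exists_le_sylow
  obtain ⟨g, hg⟩ := MulAction.exists_smul_eq G S S'
  have hgS : (S' : Subgroup G) = cj g (S : Subgroup G) := by
    rw [← hg]
    rfl
  have hK' : Mem Om (g * zz K * g⁻¹) (cj g K) := Mem.cj ⟨hK, rfl⟩ h g
  have h1 : cj g K ≤ (S' : Subgroup G) := by
    rw [hgS]
    exact Subgroup.map_mono hS
  have hLm : Mem Om (zz L) L := ⟨hL, rfl⟩
  have h2 := h.eq_of_le hK' hLm S'.isPGroup' h1 hS'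
  rw [h2] at hK'
  obtain ⟨t, ht⟩ := hT _ hLm.inZ
  obtain ⟨g', -, hg'⟩ := trans_of_ti h (ht.symm h) hK' hLm
  exact ⟨g' * g, by rw [cj_mul, hg']⟩

/-- **type I partners exist** -/
theorem exists_ti {X : Subgroup G} (h : W4 Om) (f : ROne.FSimp X) (h2 : 2 ∣ Nat.card X) (hz : InZ Om z) :
    ∃ t, TI Om z t := by
  haveI := f.sim
  have hzX := h.mem_of_fsimp f h2 hz
  have hnc : ¬ IsMulCommutative X := by
    intro h2
    exact f.na fun x hx y hy => congrArg Subtype.val (h2.is_comm.comm ⟨x, hx⟩ ⟨y, hy⟩)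
  obtain ⟨⟨g, hg⟩, h3, h4⟩ := GH.QA.not_isolated f.sim hnc (u := (⟨z, hzX⟩ : X))
    (Subtype.ext (hz.z2 h)) (fun h2 => hz.z1 h (congrArg Subtype.val h2))
  have h3' : z * (g * z * g⁻¹) = g * z * g⁻¹ * z := congrArg Subtype.val h3
  have h4' : z ≠ g * z * g⁻¹ := fun h5 => h4 (Subtype.ext h5.symm)
  rcases exists_common h (exc h) hz (hz.conj h g) h4' h3' with h5 | ⟨e, h5, -⟩
  · exact ⟨_, h5⟩
  · exact ⟨e, h5⟩

/-- **non-commuting type I partners** -/
theorem exists_nc {X : Subgroup G} (h : W4 Om) (cls : OneCls Om) (f : ROne.FSimp X) (hle : ∀ K ∈ Om, K ≤ X)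
    (gold : Cit.ROne.Gold X) (hB : CloEnd.Bend X) (hz : InZ Om z) :
    ∃ t t', TI Om z t ∧ TI Om z t' ∧ t * t' ≠ t' * t := by
  obtain ⟨K, hK⟩ := hz
  by_contra hcon
  push Not at hcon
  refine h.false_of_two hK.1 cls (exc h) f hle gold hB fun z' t t' h1 h2 => ?_
  obtain ⟨L, hL⟩ := h1.inZ
  obtain ⟨g, hg⟩ := cls L hL.1 K hK.1
  have e : g * z' * g⁻¹ = z := by
    have h3 := hL.cj h g
    rw [hg] at h3
    exact h3.2.symm.trans hK.2
  have h4 := h1.conj h g
  have h5 := h2.conj h g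
  rw [e] at h4 h5
  have h6 := hcon _ _ h4 h5
  have h7 : g * (t * t') * g⁻¹ = g * (t' * t) * g⁻¹ := by
    calc g * (t * t') * g⁻¹ = g * t * g⁻¹ * (g * t' * g⁻¹) := by group
      _ = g * t' * g⁻¹ * (g * t * g⁻¹) := h6
      _ = _ := by group
  exact mul_left_cancel (mul_right_cancel h7)

/-- the world `W4` with `F*` simple, without a hypothesis on conjugacy -/
theorem world {X : Subgroup G} (h : W4 Om) (f : ROne.FSimp X) (h2 : 2 ∣ Nat.card X) {K : Subgroup G} (hK : K ∈ Om)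
    (c3 : Nil.C3 K) (gold : Cit.ROne.Gold X) (hB : CloEnd.Bend X) :
    OneCls Om ∧ ∀ z, InZ Om z → ∃ t t', TI Om z t ∧ TI Om z t' ∧ t * t' ≠ t' * t := by
  have cls : OneCls Om := oneCls_of_ti h fun z hz => exists_ti h f h2 hz
  have c3r := C3R.of_c3 h cls hK c3
  exact ⟨cls, fun z hz => exists_nc h cls f (fun L hL => h.mem_le cls c3r f h2 (exc h) hL) gold hB hz⟩

end Cfsg.Agent.Cit.Nil.RFour.M3
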