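import Cfsg.Agent.Cit.Nil.CompR.BFour
import Cfsg.Agent.Cit.Nil.CompR.BThM
import Cfsg.Agent.Cit.Nil.CompR.MTwoZero

/-!
# S1309 (n6), COMP, `r = 2`, `AllOne`, (M2): `M2H` from the quotient worlds

`VP Om z` : the quotient world at `z`: 673's `PV`, the output of `main_inner'`, `BX` and `Cnn` of the image;

* `PV.b4` : (b4) at `(z, a)`;
* **`m2h_of`** : `M2H (ZZ Om) (RR Om)` from `VP` at every point with a C-partner and `No3`.
-/

set_option autoImplicit false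
set_option linter.style.haveILetI false
set_option linter.unusedSectionVars false

namespace Cfsg.Agent.Cit.Nil.CompR

open Subgroup Cfsg Cfsg.Agent.Cit
open Cfsg.Agent.Cit.Nil.ROne (CP)
open RG (WR Ov RR)
open RTwo (BX Cnn)

universe u

variable {G : Type u} [Group G] {Om : Set (Subgroup G)} {z a b : G}

/-- **(b4) at `(z, a)`** -/
theorem PV.b4 [Finite G] {Y : Type*} [Group Y] [Finite Y] {f : ↥(centralizer ({a} : Set G)) →* Y} (P : PV Om a f)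
    (w : WR Om) (hyp : Hyp Om) (h2 : ∀ K ∈ Om, (Ov Om (zz K)).ncard = 2) (ha : a ∈ RG.ZZ Om)
    (no : ∀ u ∈ BB (RG.ZZ Om) (RR Om) a, ∀ v ∈ BB (RG.ZZ Om) (RR Om) a, ¬ CP (RR Om) u v)
    (c : Cnn (img f (OmB Om a))) (hz : z ∈ BB (RG.ZZ Om) (RR Om) a) (hb : b ∈ BB (RG.ZZ Om) (RR Om) a) :
    Relation.ReflTransGen (fun x y => x ∈ BB (RG.ZZ Om) (RR Om) a ∧ y ∈ BB (RG.ZZ Om) (RR Om) a ∧ x * y = y * x) z b :=
  rtg_of_cnn hyp w ha (fun _ => Iff.rfl)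
    (P.qm.cnn_lift (MB.w2 ⟨w, hyp, ha, fun _ => Iff.rfl⟩ h2 no) c) hz hb

/-- the quotient world at `z` -/
def VP (Om : Set (Subgroup G)) (z : G) : Prop :=
  ∃ (Y : Type u) (_ : Group Y) (_ : Finite Y) (f : ↥(centralizer ({z} : Set G)) →* Y), PV Om z f ∧
    ((RTwo.EqEps (img f (OmB Om z)) ∧ RTwo.AW (img f (OmB Om z)) ∧ RTwo.SCe (img f (OmB Om z))) ∨
      (RTwo.SW (img f (OmB Om z)) ∧ RTwo.SB (img f (OmB Om z)) ∧ RTwo.SCe (img f (OmB Om z)))) ∧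
    BX (img f (OmB Om z)) ∧ Cnn (img f (OmB Om z))

/-- `VP` from the hypotheses on the image -/
theorem VP.of [Finite G] {Y : Type u} [Group Y] [Finite Y] {f : ↥(centralizer ({z} : Set G)) →* Y} {X : Subgroup Y}
    (i : RTwo.LIn.{u}) (P : PV Om z f) (hc : RTwo.OneCls (img f (OmB Om z))) (hr : RTwo.Rot (img f (OmB Om z)))
    (hF : RTwo.CFA Y) (hne : (OmB Om z).Nonempty) (fs : ROne.FSimp X) (h2 : 2 ∣ Nat.card X)
    (no : ∀ K ∈ restr Om (centralizer {z}), ¬ IndDefs.Three K) (bx : BX (img f (OmB Om z))) : VP Om z := by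
  have h3 := P.not_ithree no
  have hne' : (img f (OmB Om z)).Nonempty := by
    obtain ⟨A, hA⟩ := hne
    exact ⟨_, A, hA, rfl⟩
  exact ⟨Y, inferInstance, inferInstance, f, P, RTwo.main_inner' i P.w2 hc hr hF hne' fs h2 h3, bx,
    P.w2.cnn i hc hr hF hne' fs h2 h3⟩

/-- **the input of (M2)** -/
theorem m2h_of [Finite G] (w : WR Om) (hyp : Hyp Om) (h2 : ∀ K ∈ Om, (Ov Om (zz K)).ncard = 2)
    (n3 : No3 (RG.ZZ Om) (RR Om)) (vp : ∀ z ∈ RG.ZZ Om, ∀ a ∈ RG.ZZ Om, CP (RR Om) z a → VP Om z) :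
    M2H (RG.ZZ Om) (RR Om) := by
  have hg := GW.of_wr w hyp
  have no : ∀ z ∈ RG.ZZ Om, ∀ u ∈ BB (RG.ZZ Om) (RR Om) z, ∀ v ∈ BB (RG.ZZ Om) (RR Om) z, ¬ CP (RR Om) u v :=
    fun z hz u hu v hv => n3 z hz u hu.1 v hv.1 hu.2 hv.2
  exact
    { e_notMem := fun u hu v hv hc => hg.e_notMem n3 hu hv hc
      e_mul := fun u hu v hv hc x hx => hg.e_mul n3 hu hv hc hx
      no3 := n3
      b1 := by
        intro z hz a ha hc t ht htz
        obtain ⟨Y, _, _, f, P, -, bx, -⟩ := vp z hz a ha hc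
        obtain ⟨Y', _, _, f', P', -, bx', -⟩ := vp a ha z hz hc.symm
        exact b1_step w hyp P P' bx bx' hz ha ((cp_iff_wr w).1 hc) ht.1 ((cp_iff_wr w).1 ht.2) htz
      b3 := by
        intro z hz a ha hc
        obtain ⟨Y, _, _, f, P, hb, -, -⟩ := vp z hz a ha hc
        exact P.b3 w hyp h2 hz (no z hz) hb ha hc
      b4 := by
        intro z hz a ha hc b hb
        obtain ⟨Y, _, _, f, P, -, -, c⟩ := vp a ha z hz hc.symm
        exact P.b4 w hyp h2 ha (no a ha) c ⟨hz, hc.symm⟩ hb }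

end Cfsg.Agent.Cit.Nil.CompR
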