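import Cfsg.Agent.Cit.Nil.CompR.MTwoAsm
import Cfsg.Agent.Cit.Nil.CompR.SecQuo
import Cfsg.Agent.Cit.Nil.RTwo.InnerAw
import Cfsg.Agent.Cit.Nil.LO.CoreTwo

/-!
# S1309 (n6), COMP, `r = 2`, `AllOne`, (M2): the quotient worlds `VP` from the block worlds `BlkC`

* `PV.of_blk` : `PV Om z f` from helper386's `BlkC Om z`;
* `VP.of_blk` : `VP Om z`;
* `m2h_of_blk` : the input `M2H` of (M2).
-/

set_option autoImplicit false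
set_option linter.style.haveILetI false
set_option linter.unusedSectionVars false

namespace Cfsg.Agent.Cit.Nil.CompR

open Subgroup Cfsg Cfsg.Agent.Cit
open Cfsg.Agent.Cit.Nil.ROne (CP)
open RG (WR Ov RR)
open IndDefs (T0)

universe u

variable {G : Type u} [Group G] [Finite G] {Om : Set (Subgroup G)} {z a b : G}

/-- the quotient world -/
theorem PV.of_blk (hev : ∀ (G : Type u) [Group G] [Finite G], Comp.EvQ G) (β : BlkC Om z)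
    (no : ∀ x ∈ BB (RG.ZZ Om) (RR Om) z, ∀ y ∈ BB (RG.ZZ Om) (RR Om) z, ¬ CP (RR Om) x y)
    (h2 : ∀ u ∈ RG.ZZ Om, (Ov Om u).ncard = 2) {Y : Type u} [Group Y] {f : ↥(centralizer ({z} : Set G)) →* Y}
    (hs : Function.Surjective f) (hf : f.ker = NC (OmB Om z)) : PV Om z f := by
  have q := (β.qt hs hf).qm hev
  have w := β.w2B no h2
  exact ⟨q, q.w2 w, fun K hK L hL e => q.pt_inj w ⟨K, hK, rfl⟩ ⟨L, hL, rfl⟩ e, odd_of_core q β.core⟩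

/-- rotations, from one class and (C3) -/
theorem rot_of_c3 {Y : Type u} [Group Y] [Finite Y] {O : Set (Subgroup Y)} (h : RTwo.W2 O) {A : Subgroup Y}
    (hc : cls A = O) (h3 : Nil.C3 A) : RTwo.Rot O := by
  rw [← hc] at h ⊢
  exact RTwo.rot_cls h h3

theorem oneCls_of_cls {Y : Type u} [Group Y] {O : Set (Subgroup Y)} {A : Subgroup Y} (hc : cls A = O) :
    RTwo.OneCls O := by
  rw [← hc]
  rintro _ ⟨g, rfl⟩ _ ⟨h, rfl⟩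
  exact ⟨h * g⁻¹, by rw [cj_mul, cj_inv_cj]⟩

/-- **the quotient world at `z`** -/
theorem VP.of_blk (i : SecIn.{u}) (β : BlkC Om z)
    (no : ∀ v ∈ RG.ZZ Om, ∀ x ∈ BB (RG.ZZ Om) (RR Om) v, ∀ y ∈ BB (RG.ZZ Om) (RR Om) v, ¬ CP (RR Om) x y)
    (h2 : ∀ u ∈ RG.ZZ Om, (Ov Om u).ncard = 2) (h1 : ∀ K ∈ Om, ∀ L ∈ Om, ∃ g, cj g K = L) (h3 : ∀ K ∈ Om, Nil.C3 K)
    (nt : ∀ K ∈ restr Om (centralizer {z}), ¬ IndDefs.Three K) : VP Om z := by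
  haveI hn : (NC (OmB Om z)).Normal := ⟨fun _ hn g => NC_conj β.wr hn g⟩
  obtain ⟨f, hfd⟩ : ∃ f : ↥(centralizer ({z} : Set G)) →* ↥(centralizer ({z} : Set G)) ⧸ NC (OmB Om z),
      f = QuotientGroup.mk' _ := ⟨_, rfl⟩
  have hs : Function.Surjective f := by rw [hfd]; exact QuotientGroup.mk'_surjective _
  have hf : f.ker = NC (OmB Om z) := by rw [hfd]; exact QuotientGroup.ker_mk' _
  have P := PV.of_blk i.hev β (no z β.hz) h2 hs hf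
  obtain ⟨A, hA⟩ := β.exists_OmB
  have hcls := β.oneCls_img hs no h1 hA
  have hr := rot_of_c3 P.w2 hcls (β.c3_img hf no hA (h3 _ hA.1))
  obtain ⟨X, fs, -, hX2⟩ := (β.qt hs hf).fsimp i.hev
  have mA : RTwo.Mem (img f (OmB Om z)) (zz (A.map f)) (A.map f) := ⟨⟨A, hA, rfl⟩, rfl⟩
  obtain ⟨L, hL, hne, -⟩ := mA.other P.w2
  have hF : RTwo.CFA (↥(centralizer ({z} : Set G)) ⧸ NC (OmB Om z)) :=
    LO.cfa_of_two i.hT i.hC i.hC2 i.h1311 fs hX2 P.w2.hyp P.w2.card mA.1 hL.1 hne hL.2.symm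
  have hcl := oneCls_of_cls hcls
  exact VP.of i.lin P hcl hr hF ⟨A, hA⟩ fs hX2 nt
    (RTwo.bx_of_inner i.lin P.w2 hcl hr hF ⟨_, mA.1⟩ fs hX2 (P.not_ithree nt))

/-- **the input of (M2)** -/
theorem m2h_of_blk (i : SecIn.{u}) (t0 : T0 Om) (ao : AllOne (RG.ZZ Om) (RR Om))
    (core : ∀ z ∈ RG.ZZ Om, Cfsg.pPrimeCore 2 ↥(centralizer ({z} : Set G)) = ⊥)
    (n3 : No3 (RG.ZZ Om) (RR Om)) (h2 : ∀ u ∈ RG.ZZ Om, (Ov Om u).ncard = 2)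
    (h1 : ∀ K ∈ Om, ∀ L ∈ Om, ∃ g, cj g K = L) (h3 : ∀ K ∈ Om, Nil.C3 K)
    (nt : ∀ z ∈ RG.ZZ Om, ∀ a ∈ RG.ZZ Om, CP (RR Om) z a → ∀ K ∈ restr Om (centralizer {z}), ¬ IndDefs.Three K) :
    M2H (RG.ZZ Om) (RR Om) := by
  have w : WR Om := WR.of_hyp t0.hyp t0.card
  refine m2h_of w t0.hyp (fun K hK => h2 _ ⟨K, hK, rfl⟩) n3 fun z hz a ha hc => ?_
  have β : BlkC Om z := ⟨t0, ao, core z hz, hz, a, ha, (cp_iff_wr w).1 hc⟩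
  exact VP.of_blk i β (fun v hv x hx y hy => n3 v hv x hx.1 y hy.1 hx.2 hy.2) h2 h1 h3 (nt z hz a ha hc)

/-- **(M2)**: every point lies in a frame -/
theorem frames_of_blk (i : SecIn.{u}) (t0 : T0 Om) (ao : AllOne (RG.ZZ Om) (RR Om))
    (core : ∀ z ∈ RG.ZZ Om, Cfsg.pPrimeCore 2 ↥(centralizer ({z} : Set G)) = ⊥)
    (n3 : No3 (RG.ZZ Om) (RR Om)) (h2 : ∀ u ∈ RG.ZZ Om, (Ov Om u).ncard = 2)
    (h1 : ∀ K ∈ Om, ∀ L ∈ Om, ∃ g, cj g K = L) (h3 : ∀ K ∈ Om, Nil.C3 K)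
    (nt : ∀ z ∈ RG.ZZ Om, ∀ a ∈ RG.ZZ Om, CP (RR Om) z a → ∀ K ∈ restr Om (centralizer {z}), ¬ IndDefs.Three K)
    (hz : z ∈ RG.ZZ Om) (ha : a ∈ RG.ZZ Om) (hc : CP (RR Om) z a) :
    ∀ x ∈ RG.ZZ Om, ∃ F, Frm (RG.ZZ Om) (RR Om) F ∧ ∃ A ∈ F, x ∈ A := by
  have w : WR Om := WR.of_hyp t0.hyp t0.card
  refine (m2h_of_blk i t0 ao core n3 h2 h1 h3 nt).frames (GW.of_wr w t0.hyp) ao ?_ hz ha hc
  rintro _ ⟨K, hK, rfl⟩ _ ⟨L, hL, rfl⟩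
  obtain ⟨g, rfl⟩ := h1 K hK L hL
  exact ⟨g, (t0.hyp.zz_cj hK g).symm⟩

end Cfsg.Agent.Cit.Nil.CompR
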