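import Cfsg.Agent.Cit.Nil.CompR.MTwoAsm
import Cfsg.Agent.Cit.Nil.CompR.QuoD
import Cfsg.Agent.Cit.Nil.RTwo.InnerAw

/-!
# S1309 (n6), COMP, `r = 2`, `AllOne`, no 3-clique: the frames

* `YW.vp` : `VP` from helper386's `YW`;
* `AOW.m2h` : `M2H`; **`AOW.frame`** : every point lies in a frame.
-/

set_option autoImplicit false
set_option linter.style.haveILetI false
set_option linter.unusedSectionVars false

namespace Cfsg.Agent.Cit.Nil.CompR

open Subgroup Cfsg Cfsg.Agent.Cit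
open Cfsg.Agent.Cit.Nil.ROne (CP)
open RG (WR Ov RR)

universe u

variable {G : Type u} [Group G] [Finite G] {Ω : Set (Subgroup G)} {K : Subgroup G} {z a b : G}

theorem YW.pv {Y : Type u} [Group Y] [Finite Y] {f : ↥(centralizer ({z} : Set G)) →* Y} (y : YW Ω z f) : PV Ω z f :=
  ⟨y.qm, y.w2, y.inj, y.odd⟩

theorem YW.vp {Y : Type u} [Group Y] [Finite Y] {f : ↥(centralizer ({z} : Set G)) →* Y} (i : AOIn2.{u}) (y : YW Ω z f) :
    VP Ω z := by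
  obtain ⟨X, fs, h2⟩ := y.fs
  exact ⟨Y, inferInstance, inferInstance, f, y.pv, y.out,
    RTwo.bx_of_inner i.lin y.w2 y.oc y.rot y.cfa y.ne fs h2 y.n3, y.w2.cnn i.lin y.oc y.rot y.cfa y.ne fs h2 y.n3⟩

theorem AOW.m2h (m : AOW G K) (i : AOIn2.{u}) (no : No3 (RG.ZZ (cls K)) (RR (cls K))) :
    M2H (RG.ZZ (cls K)) (RR (cls K)) :=
  m2h_of m.wr m.w.t0.hyp (fun L hL => m.ov2 _ ⟨L, hL, rfl⟩) no fun z hz a ha hc => by
    obtain ⟨Y, _, _, f, y⟩ := m.exists_yw i no hz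
    exact y.vp i

/-- **(M2), `r = 2`** : every point lies in a frame -/
theorem AOW.frame (m : AOW G K) (i : AOIn2.{u}) (no : No3 (RG.ZZ (cls K)) (RR (cls K))) :
    ∀ z ∈ RG.ZZ (cls K), ∃ F, Frm (RG.ZZ (cls K)) (RR (cls K)) F ∧ ∃ A ∈ F, z ∈ A := by
  intro z hz
  obtain ⟨a, ha, hc⟩ := m.exists_cp hz
  exact (m.m2h i no).exists_frame m.gw m.ao hz ha ((cp_iff_wr m.wr).2 hc)

end Cfsg.Agent.Cit.Nil.CompR
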