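import Cfsg.Agent.Cit.Nil.CompR.Frame

/-!
# S1309 (6b), COMP, any `r`: the product situation, general facts (164's `Comp/Product.lean` for `GW`)

`PW Z K` : every `z ∈ Z` lies in a frame (`Frm`), `T'`, and no normal subgroup of odd order in `C(z)`.
`SF Z K x y` : `x` and `y` lie in the same frame.

* `PW.cp` : **(F1)** C-pairs have the same frame;
* `PW.block`, `PW.block'` : the block lemma;
* `PW.PM` : the stabiliser of the frame; `PW.meet` : `C_S` meets all blocks.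
-/

set_option autoImplicit false
set_option linter.style.haveILetI false
set_option linter.unusedSectionVars false

namespace Cfsg.Agent.Cit.Nil.CompR

open Subgroup Cfsg Cfsg.Agent.Cit Cfsg.Agent.Cit.Nil.AN
open Cfsg.Agent.Cit.Nil.ROne (CP CS TT OneCls)
open Cfsg.Agent.OddOrderLocal.NilParts Cfsg.Agent.StdEven.Syl

variable {G : Type*} [Group G] {Z : Set G} {K : G → Subgroup G} {z u v x y g s a b c : G} {A B : Set G}
  {F F' : Set (Set G)}

/-- `x` and `y` lie in the same frame -/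
def SF (Z : Set G) (K : G → Subgroup G) (x y : G) : Prop := ∃ F, Frm Z K F ∧ (∃ A ∈ F, x ∈ A) ∧ ∃ B ∈ F, y ∈ B

/-- the product situation -/
structure PW (Z : Set G) (K : G → Subgroup G) : Prop where
  w : GW Z K
  tp : TP Z K
  fr : ∀ z ∈ Z, ∃ F, Frm Z K F ∧ ∃ A ∈ F, z ∈ A
  cf : ∀ z ∈ Z, ∀ N : Subgroup G, N ≤ centralizer {z} → centralizer {z} ≤ normalizer (N : Set G) →
    Odd (Nat.card N) → N = ⊥

namespace SF

theorem symm (h : SF Z K x y) : SF Z K y x := by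
  obtain ⟨F, f, h1, h2⟩ := h
  exact ⟨F, f, h2, h1⟩

theorem mem_left (h : SF Z K x y) : x ∈ Z := by
  obtain ⟨F, f, ⟨A, hA, hx⟩, -⟩ := h
  exact f.sub A hA hx

theorem mem_right (h : SF Z K x y) : y ∈ Z := h.symm.mem_left

end SF

namespace PW

theorem sf_refl (p : PW Z K) (hz : z ∈ Z) : SF Z K z z := by
  obtain ⟨F, f, A, hA, hzA⟩ := p.fr z hz
  exact ⟨F, f, ⟨A, hA, hzA⟩, A, hA, hzA⟩

variable [Finite G] (p : PW Z K)

include p

theorem sf_trans (h1 : SF Z K x y) (h2 : SF Z K y z) : SF Z K x z := by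
  obtain ⟨F, f, hA, B, hB, hy⟩ := h1
  obtain ⟨F', f', ⟨B', hB', hy'⟩, hC⟩ := h2
  obtain ⟨rfl, -⟩ := f.uniq p.w f' hB hB' hy hy'
  exact ⟨F, f, hA, hC⟩

theorem sf_conj (g : G) (h1 : SF Z K x y) : SF Z K (g * x * g⁻¹) (g * y * g⁻¹) := by
  obtain ⟨F, f, ⟨A, hA, hx⟩, B, hB, hy⟩ := h1
  exact ⟨_, f.conj p.w g, ⟨_, ⟨A, hA, rfl⟩, ⟨x, hx, rfl⟩⟩, _, ⟨B, hB, rfl⟩, ⟨y, hy, rfl⟩⟩

/-- elements of different blocks form a C-pair -/
theorem cp_of (f : Frm Z K F) (hA : A ∈ F) (hB : B ∈ F) (hAB : A ≠ B) (ha : a ∈ A) (hb : b ∈ B) : CP K a b :=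
  (cp_iff p.w (f.sub A hA ha)).2 (f.cm A hA B hB hAB a ha b hb)

/-- **(F1)** -/
theorem cp (hx : x ∈ Z) (hu : u ∈ Z) (hc : CP K x u) : SF Z K x u := by
  obtain ⟨F, f, A, hA, hxA⟩ := p.fr x hx
  obtain ⟨F', f', A', hA', huA'⟩ := p.fr u hu
  obtain ⟨B, hB, hBA⟩ := f.other hA
  by_cases huB : u ∈ B
  · exact ⟨F, f, ⟨A, hA, hxA⟩, B, hB, huB⟩
  · have h1 : B ∈ NN Z K x := by
      rw [f.nn A hA x hxA]
      exact ⟨hB, hBA⟩
    have h2 := NN_exch p.w hx hu hc.2 (TP.of_mem p.w p.tp hu) h1 huB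
    rw [f'.nn A' hA' u huA'] at h2
    obtain ⟨b, hb⟩ := f.ne B hB
    obtain ⟨rfl, -⟩ := f.uniq p.w f' hB h2.1 hb hb
    exact ⟨F, f, ⟨A, hA, hxA⟩, A', hA', huA'⟩

/-- **the block lemma** -/
theorem block (f : Frm Z K F) (hB : B ∈ F) (hT : TPs Z K s) (hs : ∀ b ∈ B, Ce s (K b)) (hz : z ∈ Om Z K s)
    (hzB : ∀ b ∈ B, Cm (K z) (K b)) (hx : x ∈ Om Z K s) (hn : ¬ Cm (K x) (K z)) : ∀ b ∈ B, Cm (K x) (K b) := by
  obtain ⟨C, hC, hCB⟩ := f.other hB
  obtain ⟨c, hc⟩ := f.ne C hC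
  intro b hb
  have hBc : B ∈ NN Z K c := by
    rw [f.nn C hC c hc]
    exact ⟨hB, fun e => hCB (Set.mem_singleton_iff.1 e).symm⟩
  obtain ⟨h1, h2, h3⟩ := NN_cl p.w hBc hb
  have hsub : Cl Z K c b ⊆ Om Z K s := fun y hy => ⟨(cl_sub h1 hy).1, hs y (by rw [h3]; exact hy)⟩
  have hin : B ⊆ Cl Z K s b := by
    rw [h3]
    exact cl_mono hsub
  have hbs : b ∈ Om Z K s := ⟨f.sub B hB hb, hs b hb⟩
  have hnn : b ∉ oP 2 (centralizer {s}) := fun h4 => h2 (nil_down p.w h1 (isPGroup_oP 2 _) fun y hy =>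
    (nil_cl p.w hbs (hin (by rw [h3]; exact hy))).2 h4)
  have hone := (hT b hbs).resolve_left hnn
  have hzn : z ∉ Cl Z K s b := by
    intro h4
    obtain ⟨y, hy, hyb, hny⟩ := f.exists_not_cm p.w hB hb
    apply hny
    have h5 := hone z h4 y (hin hy) (hzB y hy) b (cl_refl s b)
    have h6 : Ce z (K b) := ce_of_cm p.w hz.1 (hzB b hb).symm
    have h7 : z * (z * y) = y := by rw [← mul_assoc, p.w.sq z hz.1, one_mul]
    have h8 : Ce y (K b) := by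
      rw [← h7]
      exact h6.mul h5
    exact (p.w.csymm (f.sub B hB hb) (f.sub B hB hy) hyb.symm h8).2
  have hxn : x ∉ Cl Z K s b := fun h4 => hzn (cl_step h4 hz hn)
  exact (cl_cm (cl_refl s b) hx hxn).symm

/-- the block lemma, conclusion -/
theorem block' (f : Frm Z K F) (hB : B ∈ F) (hT : TPs Z K s) (hs : ∀ b ∈ B, Ce s (K b)) (hz : z ∈ Om Z K s)
    (hzB : ∀ b ∈ B, Cm (K z) (K b)) (hx : x ∈ Om Z K s) (hn : ¬ Cm (K x) (K z)) (hA : A ∈ F) (ha : a ∈ A) :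
    SF Z K a x := by
  obtain ⟨b, hb⟩ := f.ne B hB
  have h1 := p.block f hB hT hs hz hzB hx hn b hb
  have h2 := p.cp hx.1 (f.sub B hB hb) ((cp_iff p.w hx.1).2 h1)
  exact p.sf_trans ⟨F, f, ⟨A, hA, ha⟩, B, hB, hb⟩ h2.symm

end PW

theorem conj_conj (a b z : G) : a * (b * z * b⁻¹) * a⁻¹ = (a * b) * z * (a * b)⁻¹ := by group

theorem conj_inv_conj (a z : G) : a⁻¹ * (a * z * a⁻¹) * a⁻¹⁻¹ = z := by group

namespace PW

section PM

variable [Finite G] (p : PW Z K)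

/-- the stabiliser of the frame of `z` -/
def PM (z : G) (hz : z ∈ Z) : Subgroup G where
  carrier := {g | SF Z K z (g * z * g⁻¹)}
  one_mem' := by
    change SF Z K z (1 * z * 1⁻¹)
    rw [one_mul, inv_one, mul_one]
    exact p.sf_refl hz
  mul_mem' := by
    intro a b ha hb
    have h1 := p.sf_conj a hb
    rw [conj_conj] at h1
    exact p.sf_trans ha h1
  inv_mem' := by
    intro a ha
    have h1 := p.sf_conj a⁻¹ ha
    rw [conj_inv_conj] at h1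
    exact h1.symm

include p

theorem mem_PM_iff (hz : z ∈ Z) : g ∈ p.PM z hz ↔ SF Z K z (g * z * g⁻¹) := Iff.rfl

theorem PM_eq (h : SF Z K x y) : p.PM x h.mem_left = p.PM y h.mem_right := by
  have key : ∀ {x y : G} (h : SF Z K x y), p.PM x h.mem_left ≤ p.PM y h.mem_right := by
    intro x y h g hg
    exact p.sf_trans h.symm (p.sf_trans hg (p.sf_conj g h))
  exact le_antisymm (key h) (key h.symm)

theorem mem_PM_of_sf (hz : z ∈ Z) (h : SF Z K z x) (hg : SF Z K x (g * x * g⁻¹)) : g ∈ p.PM z hz := by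
  have h1 := p.PM_eq h
  rw [h1]
  exact hg

theorem centralizer_le (hz : z ∈ Z) (h : SF Z K z x) : centralizer {x} ≤ p.PM z hz := by
  intro g hg
  refine p.mem_PM_of_sf hz h ?_
  rw [mem_centralizer_singleton_iff.1 hg, mul_inv_cancel_right]
  exact p.sf_refl h.mem_right

theorem mem_PM (hz : z ∈ Z) (h : SF Z K z x) : x ∈ p.PM z hz :=
  p.centralizer_le hz h (mem_centralizer_singleton_iff.2 rfl)

/-- the members of `S` lie in one frame -/
theorem sf_CS {S : Subgroup G} (hS : IsPGroup 2 S) (hz : z ∈ CS Z K S) (hu : u ∈ CS Z K S) : SF Z K z u := by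
  by_cases h1 : z = u
  · rw [← h1]
    exact p.sf_refl hz.1
  · exact p.cp hz.1 hu.1 (p.w.com S hS hz.1 hu.1 hz.2 hu.2 h1)

theorem conj_CS {S : Subgroup G} (hx : x ∈ S) (hz : z ∈ CS Z K S) : x * z * x⁻¹ ∈ CS Z K S := by
  refine ⟨p.w.conjZ z hz.1 x, ?_⟩
  rw [p.w.conjK z hz.1]
  intro k hk
  have h2 := mul_mem (mul_mem hx (hz.2 (mem_cj.1 hk))) (inv_mem hx)
  simpa [mul_assoc] using h2

theorem sylow_le {S : Subgroup G} (hS : IsPGroup 2 S) (hz : z ∈ Z) (h1 : K z ≤ S) : S ≤ p.PM z hz := fun _ hs =>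
  p.sf_CS hS ⟨hz, h1⟩ (p.conj_CS hs ⟨hz, h1⟩)

/-- an element of the frame of `z` lies in a block -/
theorem exists_block (f : Frm Z K F) (hA : A ∈ F) (hz : z ∈ A) (h : SF Z K z v) : ∃ C ∈ F, v ∈ C := by
  obtain ⟨F', f', ⟨A', hA', hz'⟩, hv⟩ := h
  obtain ⟨rfl, -⟩ := f.uniq p.w f' hA hA' hz hz'
  exact hv

/-- `C_S` meets all blocks -/
theorem meet (f : Frm Z K F) {S : Sylow 2 G} (hz : z ∈ CS Z K (S : Subgroup G)) (hA : A ∈ F) (hzA : z ∈ A)
    (hB : B ∈ F) : ∃ u ∈ CS Z K (S : Subgroup G), u ∈ B := by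
  by_contra hcon
  push Not at hcon
  obtain ⟨b, hb⟩ := f.ne B hB
  refine hcon b (p.w.mem_CS_of_clique S (f.sub B hB hb) fun v hv => Or.inr ?_) hb
  obtain ⟨C, hC, hvC⟩ := p.exists_block f hA hzA (p.sf_CS S.isPGroup' hz hv)
  refine p.cp_of f hC hB ?_ hvC hb
  rintro rfl
  exact hcon v hv hvC

end PM

end PW

end Cfsg.Agent.Cit.Nil.CompR
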