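import Cfsg.Agent.Cit.Nil.CompR.ProdFour
import Cfsg.Agent.Cit.Nil.CompR.Prod

/-!
# S1309 (6b), COMP, any `r`, the product situation: from frames (helper164's `Frm`) to `Fram`

`sgOf z` : the points of the frames containing `z`; `klOf z` : the class of `z`.

* `Fram.of_frm` : `Fram Z K (sgOf Z K) (klOf Z K)` if every `z` lies in a frame and (F1), (F2), (F3) hold.
-/

set_option autoImplicit false
set_option linter.style.haveILetI false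
set_option linter.unusedSectionVars false

namespace Cfsg.Agent.Cit.Nil.CompR

open Subgroup Cfsg Cfsg.Agent.Cit
open Cfsg.Agent.Cit.Nil.AN (Om Cl OneC Ce Cm)
open Cfsg.Agent.Cit.Nil.ROne (CP CS TT OneCls)
open Cfsg.Agent.OddOrderLocal.NilParts Cfsg.Agent.StdEven.Syl

variable {G : Type*} [Group G] {Z : Set G} {K : G → Subgroup G}

/-- the points of the frame of `z` -/
def sgOf (Z : Set G) (K : G → Subgroup G) (z : G) : Set G :=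
  {x | ∃ F, Frm Z K F ∧ (∃ A ∈ F, z ∈ A) ∧ ∃ B ∈ F, x ∈ B}

/-- the class of `z` in its frame -/
def klOf (Z : Set G) (K : G → Subgroup G) (z : G) : Set G := {x | ∃ F, Frm Z K F ∧ ∃ A ∈ F, z ∈ A ∧ x ∈ A}

theorem Fram.of_frm [Finite G] (h : GW Z K) (fr : ∀ z ∈ Z, ∃ F, Frm Z K F ∧ ∃ A ∈ F, z ∈ A)
    (f1 : ∀ u ∈ Z, ∀ v ∈ Z, CP K u v → ∃ F, Frm Z K F ∧ (∃ A ∈ F, u ∈ A) ∧ ∃ B ∈ F, v ∈ B)
    (f2 : ∀ x ∈ Z, ∀ u ∈ Z, CP K u (x * u * x⁻¹) → ∃ F, Frm Z K F ∧ (∃ A ∈ F, u ∈ A) ∧ ∃ B ∈ F, x ∈ B)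
    (f3 : ∀ z ∈ Z, ∀ x ∈ Z, (∃ F, Frm Z K F ∧ (∃ A ∈ F, z ∈ A) ∧ ∃ B ∈ F, x * z * x⁻¹ ∈ B) →
      ∃ F, Frm Z K F ∧ (∃ A ∈ F, z ∈ A) ∧ ∃ B ∈ F, x ∈ B) :
    Fram Z K (sgOf Z K) (klOf Z K) := by
  refine ⟨?_, ?_, ?_, ?_, ?_, ?_, ?_, ?_, ?_, f1, f2, f3⟩
  · rintro z - x ⟨F, f, -, B, hB, hx⟩
    exact f.sub B hB hx
  · intro z hz
    obtain ⟨F, f, A, hA, hzA⟩ := fr z hz
    exact ⟨F, f, A, hA, hzA, hzA⟩
  · rintro z - x ⟨F, f, A, hA, hzA, hxA⟩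
    exact ⟨F, f, ⟨A, hA, hzA⟩, A, hA, hxA⟩
  · rintro z - u ⟨F, f, ⟨A, hA, hzA⟩, B, hB, huB⟩
    ext x
    constructor
    · rintro ⟨F', f', ⟨C, hC, huC⟩, D, hD, hxD⟩
      obtain ⟨rfl, -⟩ := f.uniq h f' hB hC huB huC
      exact ⟨F, f, ⟨A, hA, hzA⟩, D, hD, hxD⟩
    · rintro ⟨F', f', ⟨C, hC, hzC⟩, D, hD, hxD⟩
      obtain ⟨rfl, -⟩ := f.uniq h f' hA hC hzA hzC
      exact ⟨F, f, ⟨B, hB, huB⟩, D, hD, hxD⟩
  · rintro z - u ⟨F, f, A, hA, hzA, huA⟩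
    ext x
    constructor
    · rintro ⟨F', f', C, hC, huC, hxC⟩
      obtain ⟨rfl, rfl⟩ := f.uniq h f' hA hC huA huC
      exact ⟨F, f, A, hA, hzA, hxC⟩
    · rintro ⟨F', f', C, hC, hzC, hxC⟩
      obtain ⟨rfl, rfl⟩ := f.uniq h f' hA hC hzA hzC
      exact ⟨F, f, A, hA, huA, hxC⟩
  · rintro z - g u ⟨F, f, ⟨A, hA, hzA⟩, B, hB, huB⟩
    exact ⟨_, f.conj h g, ⟨_, ⟨A, hA, rfl⟩, ⟨z, hzA, rfl⟩⟩, _, ⟨B, hB, rfl⟩, ⟨u, huB, rfl⟩⟩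
  · rintro z hz u ⟨F, f, ⟨A, hA, hzA⟩, B, hB, huB⟩ hn
    have hne : A ≠ B := by
      rintro rfl
      exact hn ⟨F, f, A, hA, hzA, huB⟩
    exact (cp_iff h hz).2 (f.cm A hA B hB hne z hzA u huB)
  · intro z hz
    obtain ⟨F, f, A, hA, hzA⟩ := fr z hz
    obtain ⟨B, hB, hBA⟩ := f.other hA
    obtain ⟨b, hb⟩ := f.ne B hB
    refine ⟨b, ⟨F, f, ⟨A, hA, hzA⟩, B, hB, hb⟩, ?_⟩
    rintro ⟨F', f', C, hC, hzC, hbC⟩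
    obtain ⟨rfl, rfl⟩ := f.uniq h f' hA hC hzA hzC
    exact hBA (f.disj h hB hA hb hbC)
  · intro z hz
    obtain ⟨F, f, A, hA, hzA⟩ := fr z hz
    obtain ⟨y, hyA, hyz, hn⟩ := f.exists_not_cm h hA hzA
    exact ⟨z, ⟨F, f, A, hA, hzA, hzA⟩, y, ⟨F, f, A, hA, hzA, hyA⟩, Ne.symm hyz, fun h1 => hn h1.2⟩

/-- a class of a frame is `ONE` -/
theorem one_of_frm [Finite G] (h : GW Z K) (tp : TP Z K) {F : Set (Set G)} (f : Frm Z K F) {A : Set G} (hA : A ∈ F)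
    {x y v : G} (hx : x ∈ A) (hy : y ∈ A) (hv : v ∈ A) (hc : CP K x y) : Ce (x * y) (K v) := by
  obtain ⟨B, hB, hBA⟩ := f.other hA
  obtain ⟨b, hb⟩ := f.ne B hB
  have h1 : A ∈ NN Z K b := by rw [f.nn B hB b hb]; exact ⟨hA, hBA.symm⟩
  obtain ⟨h2, h3, h4⟩ := NN_cl h h1 hx
  have h5 : OneC Z K b x := (TP.of_mem h tp (f.sub B hB hb) x h2).resolve_left h3
  exact h5 x (AN.cl_refl b x) y (by rw [← h4]; exact hy) hc.2 v (by rw [← h4]; exact hv)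

/-- a class of the frame is `ONE` -/
theorem one_of_klOf [Finite G] (h : GW Z K) (tp : TP Z K) {x y v : G} (hy : y ∈ klOf Z K x) (hv : v ∈ klOf Z K x)
    (hc : CP K x y) : Ce (x * y) (K v) := by
  obtain ⟨F, f, A, hA, hxA, hyA⟩ := hy
  obtain ⟨F', f', A', hA', hxA', hvA'⟩ := hv
  obtain ⟨rfl, rfl⟩ := f.uniq h f' hA hA' hxA hxA'
  exact one_of_frm h tp f hA hxA hyA hvA' hc

/-- conjugation of classes -/
theorem klOf_conj [Finite G] (h : GW Z K) {x z : G} (g : G) (hx : x ∈ klOf Z K z) :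
    g * x * g⁻¹ ∈ klOf Z K (g * z * g⁻¹) := by
  obtain ⟨F, f, A, hA, hzA, hxA⟩ := hx
  exact ⟨_, f.conj h g, _, ⟨A, hA, rfl⟩, ⟨z, hzA, rfl⟩, ⟨x, hxA, rfl⟩⟩

end Cfsg.Agent.Cit.Nil.CompR
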