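import Cfsg.Agent.Cit.Nil.CompR.SecBlkW
import Cfsg.Agent.Cit.Nil.CompR.TPm
import Cfsg.Agent.Cit.Nil.RTwoM.EndX

/-!
# S1309 (n6), COMP, `r = 2`, the section of a block: a block of a frame is in the input world `SBlk`

* `FF F B'` : the points of the blocks different from `B'`; `D = ⟨R_x : x ∈ FF F B'⟩`;
* `FB.conj_FF` : `C(u)`, `u ∈ B'`, permutes `FF F B'`; `FB.oP_le`, `FB.oP'_le` : `O_2(B) ≤ O_2(C(u))`,
  `O(B) ≤ O(C(u))` for `B = BA Om A`, `A ≠ B'`;
* `conn_OBl` : the members over `A` are connected;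
* `three_map_of_cent` : `Three` passes from `H` to `G` if `C(z_K) ≤ H`;
* **`blkW_of_frm`**.
-/

set_option autoImplicit false
set_option linter.style.haveILetI false
set_option linter.unusedSectionVars false

namespace Cfsg.Agent.Cit.Nil.CompR

open Subgroup Cfsg Cfsg.Agent.Cit
open Cfsg.Agent.Cit.Nil.RTwo (W2 Mem InZ)
open Cfsg.Agent.Cit.Nil.AN (Om Cl OneC Ce Cm Gp St Gp_le le_Gp Gp_ce cl_refl cl_sub cl_symm cl_trans)
open Cfsg.Agent.OddOrderLocal.NilParts Cfsg.Agent.StdEven.Syl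
open RG (WR Ov RR)
open IndDefs (comp NIL Three mem_comp_self mem_comp_of comp_trans comp_symm)

/-- the points of the blocks different from `B` -/
def FF {G : Type*} (F : Set (Set G)) (B : Set G) : Set G := {x | ∃ C ∈ F, C ≠ B ∧ x ∈ C}

variable {G : Type*} [Group G] [Finite G]

namespace FB

variable {Z : Set G} {K : G → Subgroup G} {z u v x y g s a b c : G} {A B : Set G} {F : Set (Set G)}
  (h : GW Z K) (f : Frm Z K F)

include h f

/-- `C(u)` permutes the blocks not containing `u` -/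
theorem conj_FF (hB : B ∈ F) (hu : u ∈ B) (hc : c * u = u * c) (hx : x ∈ FF F B) : c * x * c⁻¹ ∈ FF F B := by
  obtain ⟨C, hC, hne, hxC⟩ := hx
  have e : c * u * c⁻¹ = u := by rw [hc, mul_inv_cancel_right]
  have h1 : u ∈ (fun x => c * x * c⁻¹) '' B := ⟨u, hu, e⟩
  obtain ⟨h2, h3⟩ := f.uniq h (f.conj h c) hB ⟨B, hB, rfl⟩ hu h1
  have h4 : (fun x => c * x * c⁻¹) '' C ∈ F := by
    rw [h2]
    exact ⟨C, hC, rfl⟩
  refine ⟨_, h4, fun h5 => hne ?_, ⟨x, hxC, rfl⟩⟩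
  have h6 : c * x * c⁻¹ ∈ (fun x => c * x * c⁻¹) '' B := by
    have h7 : (fun x => c * x * c⁻¹) '' B = B := h3.symm
    rw [h7, ← h5]
    exact ⟨x, hxC, rfl⟩
  obtain ⟨y, hy, hyx⟩ := h6
  have h7 : y = x := mul_left_cancel (mul_right_cancel hyx)
  exact f.disj h hC hB hxC (h7 ▸ hy)

omit [Finite G] in
theorem FF_sub (hx : x ∈ FF F B) : x ∈ Z := by
  obtain ⟨C, hC, -, hxC⟩ := hx
  exact f.sub C hC hxC

theorem Gp_FF_le (hB : B ∈ F) (hu : u ∈ B) : Gp K (FF F B) ≤ centralizer {u} := by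
  refine Gp_le fun x hx k hk => mem_centralizer_singleton_iff.2 ?_
  obtain ⟨C, hC, hne, hxC⟩ := hx
  exact f.cm C hC B hB hne x hxC u hu k hk u (h.mem u (f.sub B hB hu))

theorem norm_FF (hB : B ∈ F) (hu : u ∈ B) : centralizer {u} ≤ normalizer (Gp K (FF F B) : Set G) := by
  intro c hc
  refine mem_normalizer_of_conj_le fun x hx => ?_
  exact gp_conj h (fun y hy => FF_sub h f hy)
    (fun y hy => conj_FF h f hB hu (mem_centralizer_singleton_iff.1 hc) hy) hx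

theorem Gp_A_le (hA : A ∈ F) (hAB : A ≠ B) : Gp K A ≤ Gp K (FF F B) :=
  Gp_le fun _ hx => le_Gp ⟨A, hA, hAB, hx⟩

theorem norm_A (hA : A ∈ F) : Gp K (FF F B) ≤ normalizer (Gp K A : Set G) := by
  refine Gp_le fun x hx => ?_
  obtain ⟨C, hC, -, hxC⟩ := hx
  by_cases hCA : C = A
  · subst hCA
    exact (le_Gp hxC).trans le_normalizer
  · intro k hk
    refine mem_normalizer_of_conj_le fun y hy => ?_
    have h1 : Ce k (Gp K A) := Gp_ce fun v hv l hl => f.cm C hC A hA hCA x hxC v hv k hk l hl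
    have h2 : k * y * k⁻¹ = y := by rw [h1 y hy, mul_inv_cancel_right]
    rw [h2]
    exact hy

/-- `O_2(B) ≤ O_2(C(u))` -/
theorem oP_le_cent (hA : A ∈ F) (hB : B ∈ F) (hAB : A ≠ B) (hu : u ∈ B) : oP 2 (Gp K A) ≤ oP 2 (centralizer {u}) := by
  have h3 : oP 2 (Gp K A) ≤ oP 2 (Gp K (FF F B)) :=
    le_oP ((oP_le 2 _).trans (Gp_A_le h f hA hAB)) (isPGroup_oP 2 _) ((norm_A h f hA).trans (normalizer_le_oP 2 _))
  exact h3.trans (le_oP ((oP_le 2 _).trans (Gp_FF_le h f hB hu)) (isPGroup_oP 2 _)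
    ((norm_FF h f hB hu).trans (normalizer_le_oP 2 _)))

/-- `O(B) ≤ O(C(u))` -/
theorem oP'_le_cent (hA : A ∈ F) (hB : B ∈ F) (hAB : A ≠ B) (hu : u ∈ B) :
    oP' 2 (Gp K A) ≤ oP' 2 (centralizer {u}) := by
  have h3 : oP' 2 (Gp K A) ≤ oP' 2 (Gp K (FF F B)) :=
    le_oP' ((oP'_le 2 _).trans (Gp_A_le h f hA hAB)) (coprime_oP' 2 _) ((norm_A h f hA).trans (normalizer_le_oP' 2 _))
  exact h3.trans (le_oP' ((oP'_le 2 _).trans (Gp_FF_le h f hB hu)) (coprime_oP' 2 _)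
    ((norm_FF h f hB hu).trans (normalizer_le_oP' 2 _)))

/-- the points of a block are not nil -/
theorem not_mem_oP (hA : A ∈ F) (hB : B ∈ F) (hAB : A ≠ B) (hu : u ∈ B) (ha : a ∈ A) : a ∉ oP 2 (centralizer {u}) := by
  have h1 : A ∈ NN Z K u := by rw [f.nn B hB u hu]; exact ⟨hA, hAB⟩
  exact (NN_cl h h1 ha).2.1

end FB

section three

variable {Ω : Set (Subgroup G)} {H : Subgroup G}

/-- `Three` passes from `H` to `G` if `C(z_K) ≤ H` -/
theorem three_map_of_cent (hyp : Hyp Ω) {K₁ : Subgroup H} (hK₁ : K₁ ∈ restr Ω H)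
    (hc : centralizer {zz (K₁.map H.subtype)} ≤ H) (h : Three K₁) : Three (K₁.map H.subtype) := by
  obtain ⟨J, hJc, hKJ, hJs, ⟨e⟩⟩ := h
  have hz := zz_map hyp hK₁
  have hmemc : ∀ x : H, x ∈ centralizer {zz K₁} ↔ (x : G) ∈ centralizer {zz (K₁.map H.subtype)} := by
    intro x
    rw [mem_centralizer_singleton_iff, mem_centralizer_singleton_iff, ← hz]
    exact ⟨fun h => congrArg Subtype.val h, fun h => Subtype.ext h⟩
  refine ⟨J.map H.subtype, ?_, Subgroup.map_mono hKJ, ?_, ?_⟩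
  · rintro _ ⟨x, hx, rfl⟩
    exact (hmemc x).1 (hJc hx)
  · let f : centralizer {zz K₁} →* centralizer {zz (K₁.map H.subtype)} :=
      { toFun := fun x => ⟨((x : H) : G), (hmemc x).1 x.2⟩
        map_one' := rfl
        map_mul' := fun _ _ => rfl }
    have hsur : Function.Surjective f := fun x => ⟨⟨⟨x, hc x.2⟩, (hmemc _).2 x.2⟩, rfl⟩
    have h1 : (J.subgroupOf (centralizer {zz K₁})).map f =
        (J.map H.subtype).subgroupOf (centralizer {zz (K₁.map H.subtype)}) := by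
      ext x
      constructor
      · rintro ⟨y, hy, rfl⟩
        exact ⟨y, hy, rfl⟩
      · rintro ⟨y, hy, hyx⟩
        refine ⟨⟨y, hJc hy⟩, hy, Subtype.ext hyx⟩
    rw [← h1]
    exact hJs.map hsur
  · let φ : J ≃* J.map H.subtype := J.equivMapOfInjective H.subtype H.subtype_injective
    have h2 : (oddCore J).map (φ : J →* J.map H.subtype) = oddCore (J.map H.subtype) :=
      Lib.Cores.map_equiv_pPrimeCore φ 2
    exact ⟨(QuotientGroup.congr _ _ φ h2).symm.trans e⟩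

end three

variable {Ω : Set (Subgroup G)} {A : Set G} {F : Set (Set G)} {u a x y : G} {K L : Subgroup G}

theorem Gp_eq_BA : Gp (RR Ω) A = BA Ω A := by
  apply le_antisymm
  · exact Gp_le fun x hx => RG.SS_le fun K hK => le_sSup (show K ∈ OBl Ω A from ⟨hK.1, by rw [hK.2]; exact hx⟩)
  · exact sSup_le fun K hK => (WR.le_RR (z := zz K) ⟨hK.1, rfl⟩).trans (le_Gp hK.2)

/-- members over points of a class of the non-commuting graph -/
theorem conn_aux (w : WR Ω) {s : G} (hs : Cl (RG.ZZ Ω) (RR Ω) s x = A) (hK : K ∈ Ov Ω x)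
    (hxO : x ∈ Om (RG.ZZ Ω) (RR Ω) s) (hy : y ∈ Cl (RG.ZZ Ω) (RR Ω) s x) :
    y = x ∨ ∀ L ∈ Ov Ω y, L ∈ comp (OBl Ω A) K := by
  have hmem : ∀ {v : G}, v ∈ Cl (RG.ZZ Ω) (RR Ω) s x → ∀ {L : Subgroup G}, L ∈ Ov Ω v → L ∈ OBl Ω A :=
    fun {v} hv {L} hL => ⟨hL.1, by rw [hL.2, ← hs]; exact hv⟩
  have hy' : Relation.ReflTransGen (St (RG.ZZ Ω) (RR Ω) s) x y := hy
  clear hy
  induction hy' with
  | refl => exact Or.inl rfl
  | @tail b c h1 h2 ih =>
    have hb : b ∈ Cl (RG.ZZ Ω) (RR Ω) s x := h1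
    have hc : c ∈ Cl (RG.ZZ Ω) (RR Ω) s x := Relation.ReflTransGen.tail h1 h2
    by_cases hcx : c = x
    · exact Or.inl hcx
    right
    intro L hL
    rcases ih with rfl | ih
    · exact mem_comp_of mem_comp_self ⟨hmem hb hK, hmem hc hL, not_cm_of w (Ne.symm hcx) h2.2 hK hL⟩
    · by_cases hbc : b = c
      · subst hbc
        exact ih L hL
      · obtain ⟨M, hM⟩ := (cl_sub hxO hb).1
        exact mem_comp_of (ih M hM) ⟨hmem hb hM, hmem hc hL, not_cm_of w hbc h2.2 hM hL⟩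

/-- **the members over a block are connected** -/
theorem conn_OBl (w : WR Ω) (hyp : Hyp Ω) (f : Frm (RG.ZZ Ω) (RR Ω) F) (hA : A ∈ F) (hK : K ∈ OBl Ω A)
    (hL : L ∈ OBl Ω A) : L ∈ comp (OBl Ω A) K := by
  have h := GW.of_wr w hyp
  obtain ⟨B, hB, hBA⟩ := f.other hA
  obtain ⟨u, hu⟩ := f.ne B hB
  have hcl : ∀ x ∈ A, Cl (RG.ZZ Ω) (RR Ω) u x = A := fun x hx => (f.cl_eq h hA hB hBA.symm hx hu).symm
  have hO : ∀ x ∈ A, x ∈ Om (RG.ZZ Ω) (RR Ω) u := fun x hx =>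
    om_of_cm h (f.sub B hB hu) (f.sub A hA hx) (f.cm B hB A hA hBA u hu x hx)
  -- different points
  have key : ∀ {K L : Subgroup G}, K ∈ OBl Ω A → L ∈ OBl Ω A → zz L ≠ zz K → L ∈ comp (OBl Ω A) K := by
    intro K L hK hL hne
    have hy : zz L ∈ Cl (RG.ZZ Ω) (RR Ω) u (zz K) := by rw [hcl _ hK.2]; exact hL.2
    exact (conn_aux w (hcl _ hK.2) ⟨hK.1, rfl⟩ (hO _ hK.2) hy).resolve_left hne L ⟨hL.1, rfl⟩
  by_cases hne : zz L = zz K
  · obtain ⟨y, hyA, hyx, -⟩ := f.exists_not_cm h hA hK.2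
    obtain ⟨M, hM, hMz⟩ := f.sub A hA hyA
    have hMA : M ∈ OBl Ω A := ⟨hM, by rw [hMz]; exact hyA⟩
    exact comp_trans (key hK hMA (by rw [hMz]; exact hyx)) (key hMA hL (by rw [hMz, hne]; exact hyx.symm))
  · exact key hK hL hne

/-- **a block of a frame is in the input world** -/
theorem blkW_of_frm (b : Blk Ω A) (f : Frm (RG.ZZ Ω) (RR Ω) F) (hA : A ∈ F)
    (core : ∀ t : G, orderOf t = 2 → centralizerPPrimeCore 2 t = ⊥) (c3 : RTwoM.C3E Ω)
    (n3 : ∀ K ∈ Ω, ¬ Three K) : SBlk (PB Ω A) := by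
  have w := b.wr
  have h := GW.of_wr w b.w.hyp
  obtain ⟨B, hB, hBA⟩ := f.other hA
  obtain ⟨u, hu⟩ := f.ne B hB
  have huZ := f.sub B hB hu
  have hG := Gp_eq_BA (Ω := Ω) (A := A)
  let e : ↥(sSup (PB Ω A)) ≃* ↥((sSup (PB Ω A)).map (NB A).subtype) :=
    (sSup (PB Ω A)).equivMapOfInjective (NB A).subtype (NB A).subtype_injective
  refine ⟨b.w2, ?_, ?_, ?_, ?_, ?_⟩
  · -- core
    have h1 : oP' 2 (BA Ω A) = ⊥ := by
      rw [← hG, eq_bot_iff]
      refine (FB.oP'_le_cent h f hA hB hBA.symm hu).trans ?_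
      have h2 := core u (orderOf_eq_prime (by rw [pow_two]; exact h.sq u huZ) (h.ne u huZ))
      exact h2.le
    have h2 : pPrimeCore 2 ↥((sSup (PB Ω A)).map (NB A).subtype) = ⊥ := by
      have h3 : oP' 2 ((sSup (PB Ω A)).map (NB A).subtype) = ⊥ := by rw [b.sSup_map, h1]
      rw [oP'_def, Subgroup.map_eq_bot_iff_of_injective _ (Subgroup.subtype_injective _)] at h3
      exact h3
    have h3 := Lib.Cores.map_equiv_pPrimeCore e 2
    rw [h2, Subgroup.map_eq_bot_iff_of_injective _ e.injective] at h3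
    exact h3
  · -- conn
    intro K hK L hL
    have key : ∀ M, Relation.ReflTransGen (IndDefs.Adj (OBl Ω A)) (K.map (NB A).subtype) M →
        Relation.ReflTransGen (IndDefs.Adj (PB Ω A)) K (M.subgroupOf (NB A)) := by
      intro M hM
      induction hM with
      | refl =>
        have h1 : (K.map (NB A).subtype).subgroupOf (NB A) = K :=
          comap_map_eq_self_of_injective (NB A).subtype_injective K
        rw [h1]
      | tail hab hbc ih =>
        refine Relation.ReflTransGen.tail ih ⟨b.subgroupOf_mem hbc.1, b.subgroupOf_mem hbc.2.1, fun h1 => ?_⟩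
        refine hbc.2.2 fun x hx y hy => ?_
        exact congrArg Subtype.val (h1 ⟨x, b.le hbc.1 hx⟩ hx ⟨y, b.le hbc.2.1 hy⟩ hy)
    have h1 := key _ (conn_OBl w b.w.hyp f hA hK hL)
    have h2 : (L.map (NB A).subtype).subgroupOf (NB A) = L :=
      comap_map_eq_self_of_injective (NB A).subtype_injective L
    rwa [h2] at h1
  · -- nnil
    intro K hK hn
    have hz1 : ((zz K : ↥(sSup (PB Ω A))) : ↥(NB A)) = zz (K.map (sSup (PB Ω A)).subtype) := zz_map b.w2.hyp hK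
    have hK' : K.map (sSup (PB Ω A)).subtype ∈ PB Ω A := hK
    have hz2 := b.zz_coe hK'
    have haA : (((zz K : ↥(sSup (PB Ω A))) : ↥(NB A)) : G) ∈ A := by
      rw [hz1, hz2]
      exact hK'.2
    have h1 : zz K ∈ pCore 2 ↥(sSup (PB Ω A)) := hn
    have h2 : e (zz K) ∈ pCore 2 ↥((sSup (PB Ω A)).map (NB A).subtype) := by
      rw [← Lib.Cores.map_equiv_pCore e 2]
      exact ⟨_, h1, rfl⟩
    have h3 : (((zz K : ↥(sSup (PB Ω A))) : ↥(NB A)) : G) ∈ oP 2 ((sSup (PB Ω A)).map (NB A).subtype) := by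
      rw [oP_def]
      exact ⟨_, h2, rfl⟩
    rw [b.sSup_map, ← hG] at h3
    exact FB.not_mem_oP h f hA hB hBA.symm hu haA (FB.oP_le_cent h f hA hB hBA.symm hu h3)
  · -- c3
    intro z K hK y hy hyz
    have hm := b.mem_iff.1 hK
    obtain ⟨g, hg1, hg2, hg3, hg4⟩ := c3 (z : G) (K.map (NB A).subtype) ⟨hm.2.1, hm.2.2⟩ (y : G) ⟨y, hy, rfl⟩
      (congrArg Subtype.val hyz)
    have hgN : g ∈ NB A := b.mem_NB_of hm.1 hg1
    refine ⟨⟨g, hgN⟩, Subtype.ext hg1, ?_, fun h1 => hg3 (congrArg Subtype.val h1),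
      fun h1 => hg4 (congrArg Subtype.val h1)⟩
    apply map_injective (NB A).subtype_injective
    have h3 : (cj (⟨g, hgN⟩ : ↥(NB A)) K).map (NB A).subtype = cj g (K.map (NB A).subtype) := cj_map _ _ K
    rw [h3, hg2]
  · -- n3
    intro K hK h3
    have h1 : K ∈ restr Ω (NB A) := b.PB_sub hK
    have h2 : K.map (NB A).subtype ∈ OBl Ω A := hK
    exact n3 _ h2.1 (three_map_of_cent b.w.hyp h1 (b.cen _ h2.2) h3)

end Cfsg.Agent.Cit.Nil.CompR
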