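import Cfsg.Agent.Cit.Nil.CompR.SecBlk
import Cfsg.Agent.Cit.Nil.Ind.SubB
import Cfsg.Agent.Cit.Nil.RTwo.World

/-!
# S1309 (n6), COMP, `r = 2`, the section of a block: the input world

`SBlk Om` (for `G` = the stabiliser of the block, `Om` = the members over the block).
-/

set_option autoImplicit false

namespace Cfsg.Agent.Cit.Nil.CompR

open Subgroup Cfsg Cfsg.Agent.Cit Cfsg.Agent.Cit.Nil.RTwo

/-- the input of the section theorem: `B = ⟨Om⟩` core-free, `Om` connected and not nil in `B` -/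
structure SBlk {G : Type*} [Group G] [Finite G] (Om : Set (Subgroup G)) : Prop where
  w : W2 Om
  core : pPrimeCore 2 ↥(sSup Om : Subgroup G) = ⊥
  conn : ∀ K ∈ Om, ∀ L ∈ Om, L ∈ IndDefs.comp Om K
  nnil : ∀ K ∈ restr Om (sSup Om), ¬ IndDefs.NIL K
  c3 : C3E Om
  n3 : ∀ K ∈ Om, ¬ IndDefs.Three K

end Cfsg.Agent.Cit.Nil.CompR
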