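import Cfsg.Agent.Cit.Nil.CompR.SecMap
import Cfsg.Agent.Cit.Nil.RTwo.World
import Cfsg.Agent.Cit.Nil.RTwo.ElevenA
import Cfsg.Agent.Cit.Nil.RTwo.TEnd

/-!
# S1309 (n6), COMP, `r = 2`, the section of a block: one class and rotations in `B = ⟨Om⟩`

* `oneCls_restr` : if some point is swapped by a commuting point, the members are one class of `B`;
* `rot_of_ti` : a pair of type I gives a rotation in `B`;
* `rot_of_pr` : so does a pair of type p;
* `WMap.rot`, `WMap.oneCls` : transfer.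
-/

set_option autoImplicit false
set_option linter.unusedSectionVars false

namespace Cfsg.Agent.Cit.Nil.CompR

open Subgroup Cfsg Cfsg.Agent.Cit Cfsg.Agent.Cit.Nil.RTwo

variable {G : Type*} [Group G]

theorem isPGroup_zp {p : ℕ} {c : G} {e : ℕ} (h : c ^ p ^ e = 1) : IsPGroup p (zpowers c) := by
  rintro ⟨y, hy⟩
  obtain ⟨m, rfl⟩ := mem_zpowers_iff.1 hy
  refine ⟨e, Subtype.ext ?_⟩
  show (c ^ m) ^ p ^ e = 1
  rw [← zpow_natCast, ← zpow_mul, mul_comm, zpow_mul, zpow_natCast, h, one_zpow]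

/-- one rotation is enough if there is one class -/
theorem rot_of_mem {Om : Set (Subgroup G)} (hc : OneCls Om) {K : Subgroup G} (hK : K ∈ Om) {c : G} (hcK : cj c K = K)
    {e : ℕ} (h3 : c ^ 3 ^ e = 1) (hq : ∃ q ∈ K, c * q ≠ q * c) : Rot Om := by
  intro L hL
  obtain ⟨g, rfl⟩ := hc K hK L hL
  refine ⟨g * c * g⁻¹, ?_, isPGroup_zp (e := e) ?_, ?_⟩
  · rw [mem_normalizer_iff_cj, cj_mul, cj_mul, cj_inv_cj, hcK]
  · rw [← MulAut.conj_apply, ← map_pow, h3, map_one]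
  · obtain ⟨q, hqK, hne⟩ := hq
    refine ⟨g * q * g⁻¹, conj_mem_cj hqK, fun h => hne ?_⟩
    have h1 : g * (c * q) * g⁻¹ = g * (q * c) * g⁻¹ := by
      calc g * (c * q) * g⁻¹ = g * c * g⁻¹ * (g * q * g⁻¹) := by group
        _ = g * q * g⁻¹ * (g * c * g⁻¹) := h
        _ = _ := by group
    exact mul_left_cancel (mul_right_cancel h1)

variable [Finite G] {Om : Set (Subgroup G)} {K L K1 K2 L1 L2 : Subgroup G} {z t g x y b : G} {a c : Fin 3 → G}

theorem perm_pow_ne : ∀ σ : Equiv.Perm (Fin 3), (∀ i, σ i ≠ i) → σ ^ 3 = 1 ∧ σ ≠ 1 ∧ σ ^ 2 ≠ 1 := by decide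

/-- the `3`-part of an element which rotates the axes -/
theorem exists_three_part (Q : Q3 K z a) (hbz : b * z = z * b) (hbK : cj b K = K) {σ : Equiv.Perm (Fin 3)}
    (hσ : Act z a a b σ) (hσ0 : ∀ i, σ i ≠ i) :
    ∃ n e : ℕ, (b ^ n) ^ 3 ^ e = 1 ∧ cj (b ^ n) K = K ∧ ∃ q ∈ K, b ^ n * q ≠ q * b ^ n := by
  obtain ⟨e, n, hn, hord⟩ := Nat.exists_eq_pow_mul_and_not_dvd (orderOf_pos b).ne' 3 (by decide)
  refine ⟨n, e, ?_, ?_, ?_⟩
  · rw [← pow_mul, mul_comm, ← hord, pow_orderOf_eq_one]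
  · have h1 : ∀ m : ℕ, cj (b ^ m) K = K := by
      intro m
      induction m with
      | zero => rw [pow_zero, cj_one]
      | succ m ih => rw [pow_succ, cj_mul, hbK, ih]
    exact h1 n
  · have hpow : ∀ m : ℕ, Act z a a (b ^ m) (σ ^ m) := by
      intro m
      induction m with
      | zero => rw [pow_zero, pow_zero]; exact Act.one a z
      | succ m ih =>
        have h1 := ih.comp Q.z2 hσ hbz
        rw [pow_succ' b, pow_succ' σ]
        exact h1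
    obtain ⟨p3, p1, p2⟩ := perm_pow_ne σ hσ0
    by_contra hcon
    push Not at hcon
    have h1 : Act z a a (b ^ n) 1 := fun i => Or.inl (by
      rw [hcon _ (Q.mem i), mul_inv_cancel_right]; rfl)
    have h2 : σ ^ n = 1 := (hpow n).unique Q h1
    have h3 : n = 3 * (n / 3) + n % 3 := (Nat.div_add_mod n 3).symm
    have h4 : σ ^ (n % 3) = 1 := by
      rw [h3, pow_add, pow_mul, p3, one_pow, one_mul] at h2
      exact h2
    have h5 : n % 3 = 1 ∨ n % 3 = 2 := by omega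
    rcases h5 with h5 | h5
    · rw [h5, pow_one] at h4; exact p1 h4
    · rw [h5] at h4; exact p2 h4

/-- the members generate a normal subgroup -/
theorem cj_mem_sSup (h : W2 Om) (g : G) (hx : x ∈ sSup Om) : g * x * g⁻¹ ∈ sSup Om := by
  have h1 : sSup Om ≤ (sSup Om).comap (MulAut.conj g).toMonoidHom := by
    refine sSup_le fun K hK k hk => ?_
    exact (le_sSup (h.hyp.conj K hK g) : cj g K ≤ sSup Om) (conj_mem_cj hk)
  exact h1 hx

theorem le_B (hK : K ∈ Om) : K ≤ sSup Om := le_sSup hK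

/-- a rotation of a member by an element of `B` -/
theorem rot_restr_of (h : W2 Om) (hcls : OneCls (restr Om (sSup Om))) (hL : Mem Om t L) (qc : Q3 L t c)
    (hb : b ∈ sSup Om) (hbt : b * t = t * b) (hbL : cj b L = L) {σ : Equiv.Perm (Fin 3)} (ha : Act t c c b σ)
    (hσ : ∀ i, σ i ≠ i) : Rot (restr Om (sSup Om)) := by
  obtain ⟨n, e, h3, hn, q, hq, hne⟩ := exists_three_part qc hbt hbL ha hσ
  have hLB := le_B hL.1
  have hmem : L.subgroupOf (sSup Om) ∈ restr Om (sSup Om) := subgroupOf_mem_restr hL.1 hLB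
  refine rot_of_mem hcls hmem (c := ⟨b ^ n, pow_mem hb n⟩) (e := e) ?_ (Subtype.ext h3) ?_
  · apply map_injective (sSup Om).subtype_injective
    rw [cj_map, map_subgroupOf_eq_of_le hLB]
    exact hn
  · exact ⟨⟨q, hLB hq⟩, hq, fun h1 => hne (congrArg Subtype.val h1)⟩

/-- members in a common 2-group lie over the same point -/
theorem zz_eq_of_le {K L S : Subgroup G} (hK : K ∈ Om) (hL : L ∈ Om) (h : W2 Om) (hS : IsPGroup 2 S) (hKS : K ≤ S)
    (hLS : L ≤ S) : zz K = zz L := by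
  have mK : Mem Om (zz K) K := ⟨hK, rfl⟩
  have mL : Mem Om (zz L) L := ⟨hL, rfl⟩
  refine (mL.inZ.eq_of_cent mK h fun k hk => ?_).symm
  exact (mL.central h hS hLS (hKS hk)).symm

/-- two members are conjugate to members over the same point -/
theorem exists_zz_eq (h : W2 Om) (hK : K ∈ Om) (hL : L ∈ Om) : ∃ g, zz (cj g K) = zz L := by
  haveI : Fact (Nat.Prime 2) := ⟨Nat.prime_two⟩
  obtain ⟨P, hP⟩ := (h.isPGroup hK).exists_le_sylow
  obtain ⟨S, hS⟩ := (h.isPGroup hL).exists_le_sylow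
  obtain ⟨g, hg⟩ := MulAction.exists_smul_eq G P S
  refine ⟨g, zz_eq_of_le (h.hyp.conj K hK g) hL h S.isPGroup' ?_ hS⟩
  rw [← hg]
  rintro _ ⟨k, hk, rfl⟩
  rw [Sylow.coe_subgroup_smul]
  exact Subgroup.smul_mem_pointwise_smul k (MulAut.conj g) _ (hP hk)

/-- if a point is swapped by an element, all members are conjugate -/
theorem oneCls_of_sw (h : W2 Om) (hz : RTwo.InZ Om z) (ht : g * z = z * g) (hsw : Sw Om z g) : OneCls Om := by
  intro K hK L hL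
  obtain ⟨M, hM⟩ := hz
  obtain ⟨k, hk⟩ := exists_zz_eq h hM.1 hL
  obtain ⟨l, hl⟩ := exists_zz_eq h hK hL
  by_cases heq : cj l K = L
  · exact ⟨l, heq⟩
  · have mL : Mem Om (zz L) L := ⟨hL, rfl⟩
    have mK : Mem Om (zz L) (cj l K) := ⟨h.hyp.conj K hK l, hl⟩
    have e1 : k * z * k⁻¹ = zz L := by
      rw [← hk]; exact (hM.cj h k).2.symm
    have hs : Sw Om (zz L) (k * g * k⁻¹) := by
      rw [← e1]; exact Sw.conj h hsw k
    have hc : (k * g * k⁻¹) * zz L = zz L * (k * g * k⁻¹) := by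
      rw [← e1]
      calc k * g * k⁻¹ * (k * z * k⁻¹) = k * (g * z) * k⁻¹ := by group
        _ = k * (z * g) * k⁻¹ := by rw [ht]
        _ = _ := by group
    refine ⟨k * g * k⁻¹ * l, ?_⟩
    rw [cj_mul]
    rcases mK.cases mL h heq (mK.cj_comm h hc) with h1 | h1
    · exact absurd h1 (hs _ mK)
    · exact h1

/-- **(R3)** -/
theorem oneCls_restr (h : W2 Om) (hz : RTwo.InZ Om z) (ht : RTwo.InZ Om t) (hc : z * t = t * z) (hsw : Sw Om z t) :
    OneCls (restr Om (sSup Om)) := by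
  have m := w2_restr h (B := sSup Om) fun K hK => le_B hK
  obtain ⟨K, hK⟩ := hz
  obtain ⟨L, hL⟩ := ht
  have hzB : z ∈ sSup Om := le_B hK.1 (hK.zmem h)
  have htB : t ∈ sSup Om := le_B hL.1 (hL.zmem h)
  have hz' : RTwo.InZ (restr Om (sSup Om)) ⟨z, hzB⟩ := by
    obtain ⟨z', h1, h2⟩ := m.lift_inZ hK.inZ
    have h3 : z' = ⟨z, hzB⟩ := Subtype.ext h2
    rwa [h3] at h1
  refine oneCls_of_sw m.w1 hz' (g := ⟨t, htB⟩) (Subtype.ext hc.symm) ?_
  exact m.sw_up hsw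

theorem perm_rot : ∀ σ τ : Equiv.Perm (Fin 3), σ 0 = 0 → σ 1 = 2 → τ 0 ≠ 0 → ∀ i, (σ * (τ * (σ * τ⁻¹))) i ≠ i := by
  decide

/-- **(R1)** -/
theorem rot_of_ti (h : W2 Om) (c3 : C3E Om) (hcls : OneCls (restr Om (sSup Om))) (hti : TI Om z t) :
    Rot (restr Om (sSup Om)) := by
  obtain ⟨K1, K2, L1, L2, a, b, c, d, C⟩ := hti.exists_cf h
  obtain ⟨r0, r1⟩ := C.rot h
  have hat : a 0 * t = t * a 0 := C.ta0.symm
  have haL : cj (a 0) L1 = L1 := h.h3 C.k1 C.l1 (C.qa.mem 0) (C.qa.sq 0) hat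
  obtain ⟨σ, hσ⟩ := C.qc.exists_act C.qc haL hat
  have s0 : σ 0 = 0 := by
    rcases hσ 0 with h1 | h1
    · exact (C.qc.inj (Or.inl (r0.symm.trans h1))).symm
    · exact (C.qc.inj (Or.inr (r0.symm.trans h1))).symm
  have s1 : σ 1 = 2 := by
    rcases hσ 1 with h1 | h1 <;> rcases r1 with h2 | h2
    · exact C.qc.inj (Or.inl (h1.symm.trans h2))
    · exact C.qc.inj (Or.inr (h1.symm.trans h2))
    · exact (C.qc.inj (Or.inr (h2.symm.trans h1))).symm
    · exact C.qc.inj (Or.inl (mul_left_cancel (h1.symm.trans h2)))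
  obtain ⟨g, hgt, hgL, hg1, hg2⟩ := c3 t L1 C.l1 (c 0) (C.qc.mem 0) (C.qc.sq 0)
  obtain ⟨τ, hτ⟩ := C.qc.exists_act C.qc hgL hgt
  have t0 : τ 0 ≠ 0 := by
    intro h0
    rcases hτ 0 with h1 | h1
    · rw [h0] at h1; exact hg1 h1
    · rw [h0] at h1; exact hg2 h1
  have hgi : g⁻¹ * t = t * g⁻¹ := by
    rw [inv_mul_eq_iff_eq_mul, ← mul_assoc, hgt, mul_inv_cancel_right]
  have k1 : Act t c c g⁻¹ τ⁻¹ := hτ.inv' C.t2 hgt
  have k2 : Act t c c (a 0 * g⁻¹) (σ * τ⁻¹) := k1.comp C.t2 hσ hat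
  have k3 : Act t c c (g * (a 0 * g⁻¹)) (τ * (σ * τ⁻¹)) := k2.comp C.t2 hτ hgt
  have k4 : Act t c c (a 0 * (g * (a 0 * g⁻¹))) (σ * (τ * (σ * τ⁻¹))) := k3.comp C.t2 hσ hat
  have haB : a 0 ∈ sSup Om := le_B C.k1.1 (C.qa.mem 0)
  have hB : a 0 * (g * (a 0 * g⁻¹)) ∈ sSup Om := by
    refine mul_mem haB ?_
    have := cj_mem_sSup h g haB
    rwa [mul_assoc] at this
  have hc1 : (a 0 * (g * (a 0 * g⁻¹))) * t = t * (a 0 * (g * (a 0 * g⁻¹))) := by
    calc (a 0 * (g * (a 0 * g⁻¹))) * t = a 0 * g * a 0 * (g⁻¹ * t) := by group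
      _ = a 0 * g * a 0 * (t * g⁻¹) := by rw [hgi]
      _ = a 0 * g * (a 0 * t) * g⁻¹ := by group
      _ = a 0 * g * (t * a 0) * g⁻¹ := by rw [hat]
      _ = a 0 * (g * t) * a 0 * g⁻¹ := by group
      _ = a 0 * (t * g) * a 0 * g⁻¹ := by rw [hgt]
      _ = (a 0 * t) * g * a 0 * g⁻¹ := by group
      _ = (t * a 0) * g * a 0 * g⁻¹ := by rw [hat]
      _ = _ := by group
  have hgL' : cj g⁻¹ L1 = L1 := by
    conv_lhs => rw [← hgL, ← cj_mul, inv_mul_cancel, cj_one]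
  have hc2 : cj (a 0 * (g * (a 0 * g⁻¹))) L1 = L1 := by
    rw [cj_mul, cj_mul, cj_mul, hgL', haL, hgL, haL]
  exact rot_restr_of h hcls C.l1 C.qc hB hc1 hc2 k4 (perm_rot σ τ s0 s1 t0)

theorem rho_ne : ∀ i, rho i ≠ i := by decide

/-- **(R2)** -/
theorem rot_of_pr (h : W2 Om) (hT : TO Om) (cf : CF Om) (hcls : OneCls Om) (hp : PR Om z t) : Rot Om := by
  obtain ⟨K, x, hK, hx⟩ := hp.hz.exists_q3 h
  obtain ⟨d, hdz, -, hd, -⟩ := hp.exists_rot hK hx h hT cf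
  have hdK : cj d K = K := by
    rcases hd 0 with h1 | h1
    · by_contra hne
      have h2 := hK.cj_comm h hdz
      have h3 : x (rho 0) ∈ cj d K := by rw [← h1]; exact conj_mem_cj (hx.mem 0)
      have h4 := hK.inf h2 h (Ne.symm hne) (hx.mem (rho 0)) h3
      rcases h4 with h4 | h4
      · exact hx.ne_one _ h4
      · exact hx.ne_z _ h4
    · by_contra hne
      have h2 := hK.cj_comm h hdz
      have h3 : z * x (rho 0) ∈ cj d K := by rw [← h1]; exact conj_mem_cj (hx.mem 0)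
      have h4 := hK.inf h2 h (Ne.symm hne) (mul_mem hx.zmem (hx.mem (rho 0))) h3
      rcases h4 with h4 | h4
      · exact hx.zx_ne_one _ h4
      · exact hx.zx_ne_z _ h4
  obtain ⟨n, e, h3, hn, hq⟩ := exists_three_part hx hdz hdK hd rho_ne
  exact rot_of_mem hcls hK.1 hn h3 hq

/-! ### (R4) -/

section map

variable {G₁ G₂ : Type*} [Group G₁] [Group G₂] [Finite G₁] [Finite G₂] {f : G₁ →* G₂} {O₁ : Set (Subgroup G₁)}
  {O₂ : Set (Subgroup G₂)}

theorem WMap.oneCls (m : WMap f O₁ O₂) (h : OneCls O₁) : OneCls O₂ := by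
  intro K' hK' L' hL'
  rw [m.im] at hK' hL'
  obtain ⟨K, hK, rfl⟩ := hK'
  obtain ⟨L, hL, rfl⟩ := hL'
  obtain ⟨g, rfl⟩ := h K hK L hL
  exact ⟨f g, (cj_map f g K).symm⟩

theorem WMap.rot (m : WMap f O₁ O₂) (h : Rot O₁) : Rot O₂ := by
  intro K' hK'
  rw [m.im] at hK'
  obtain ⟨K, hK, rfl⟩ := hK'
  obtain ⟨c, hc, h3, q, hq, hne⟩ := h K hK
  have hcK := mem_normalizer_iff_cj.1 hc
  obtain ⟨e, he⟩ := h3 ⟨c, mem_zpowers c⟩
  have he' : c ^ 3 ^ e = 1 := congrArg Subtype.val he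
  refine ⟨f c, ?_, isPGroup_zp (e := e) (by rw [← map_pow, he', map_one]), f q, ⟨q, hq, rfl⟩, fun h1 => hne ?_⟩
  · rw [mem_normalizer_iff_cj, ← cj_map, hcK]
  · have h2 : c * q * c⁻¹ ∈ K := by
      have := conj_mem_cj (g := c) hq
      rwa [hcK] at this
    have h4 := m.inj_on hK h2 hq (by rw [map_mul, map_mul, map_inv, h1, mul_inv_cancel_right])
    rwa [mul_inv_eq_iff_eq_mul] at h4

end map

end Cfsg.Agent.Cit.Nil.CompR
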