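import Cfsg.Agent.Cit.Nil.CompR.SecQuo
import Cfsg.Agent.Cit.Nil.CompR.SecBlkW
import Cfsg.Agent.Cit.Nil.CompR.SecRot

/-!
# S1309 (n6), COMP, `r = 2`, the section of a block: the section theorem

`SBlk.secW` : a block world with a pair of type p is a world `SecW`.
-/

set_option autoImplicit false
set_option linter.style.haveILetI false
set_option linter.unusedSectionVars false

namespace Cfsg.Agent.Cit.Nil.CompR

open Subgroup Cfsg Cfsg.Agent.Cit Cfsg.Agent.Cit.Nil.RTwo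
open IndDefs (T0 comp Adj NIL)

universe u

variable {G : Type u} [Group G] [Finite G] {Om : Set (Subgroup G)} {K L : Subgroup G} {z t : G}

/-- `Three` in `↥B`, `B` normal, gives `Three` in `G` -/
theorem three_of_normal (h : W2 Om) {B : Subgroup G} (hB : B.Normal) {K₁ : Subgroup B} (hK₁ : K₁ ∈ restr Om B)
    (h3 : IndDefs.Three K₁) : IndDefs.Three (K₁.map B.subtype) := by
  obtain ⟨J, hJc, hKJ, hJs, ⟨e⟩⟩ := h3
  have hz := zz_map h.hyp hK₁
  have hmemc : ∀ x : B, x ∈ centralizer {zz K₁} ↔ (x : G) ∈ centralizer {zz (K₁.map B.subtype)} := by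
    intro x
    rw [mem_centralizer_singleton_iff, mem_centralizer_singleton_iff, ← hz]
    exact ⟨fun h => congrArg Subtype.val h, fun h => Subtype.ext h⟩
  refine ⟨J.map B.subtype, ?_, Subgroup.map_mono hKJ, ?_, ?_⟩
  · rintro _ ⟨x, hx, rfl⟩
    exact (hmemc x).1 (hJc hx)
  · let f : centralizer {zz K₁} →* centralizer {zz (K₁.map B.subtype)} :=
      { toFun := fun x => ⟨((x : B) : G), (hmemc x).1 x.2⟩
        map_one' := rfl
        map_mul' := fun _ _ => rfl }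
    have hr : f.range = B.subgroupOf (centralizer {zz (K₁.map B.subtype)}) := by
      ext x
      constructor
      · rintro ⟨y, rfl⟩
        exact (y : B).2
      · intro hx
        exact ⟨⟨⟨x, hx⟩, (hmemc _).2 x.2⟩, rfl⟩
    have h1 : (J.subgroupOf (centralizer {zz K₁})).map f =
        (J.map B.subtype).subgroupOf (centralizer {zz (K₁.map B.subtype)}) := by
      ext x
      constructor
      · rintro ⟨y, hy, rfl⟩
        exact ⟨y, hy, rfl⟩
      · rintro ⟨y, hy, hyx⟩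
        refine ⟨⟨y, hJc hy⟩, hy, Subtype.ext hyx⟩
    rw [← h1]
    refine Ind.SubB.map_isSubnormal f ?_ hJs
    rw [hr]
    exact (Subgroup.Normal.subgroupOf hB _).isSubnormal
  · let φ : J ≃* J.map B.subtype := J.equivMapOfInjective B.subtype B.subtype_injective
    have h2 : (oddCore J).map (φ : J →* J.map B.subtype) = oddCore (J.map B.subtype) :=
      Lib.Cores.map_equiv_pPrimeCore φ 2
    exact ⟨(QuotientGroup.congr _ _ φ h2).symm.trans e⟩

theorem sSup_normal (h : W2 Om) : (sSup Om : Subgroup G).Normal := by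
  refine ⟨fun x hx g => ?_⟩
  have h1 : (sSup Om : Subgroup G) ≤ (sSup Om : Subgroup G).comap (MulAut.conj g).toMonoidHom := by
    refine sSup_le fun K hK k hk => ?_
    exact (le_sSup (h.hyp.conj K hK g) : cj g K ≤ sSup Om) (conj_mem_cj hk)
  exact h1 hx

/-- `Z(B)` as the image of the centre of `↥B` -/
theorem mem_ZB_iff {x : ↥(sSup Om : Subgroup G)} : (x : G) ∈ ZB Om ↔ x ∈ center ↥(sSup Om : Subgroup G) := by
  rw [ZB, mem_inf, mem_center_iff, mem_centralizer_iff]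
  constructor
  · rintro ⟨-, h⟩ g
    exact Subtype.ext (h g g.2)
  · intro h
    exact ⟨x.2, fun g hg => congrArg Subtype.val (h ⟨g, hg⟩)⟩

/-- an involution acting on three labels fixes one -/
theorem exists_fixed {α : Type*} {c0 c1 c2 : α} (n01 : c0 ≠ c1) (n02 : c0 ≠ c2) (n12 : c1 ≠ c2) (π : α → α)
    (hπ : ∀ x, x ∈ ({c0, c1, c2} : Set α) → π x ∈ ({c0, c1, c2} : Set α)) (h2 : ∀ x, π (π x) = x) :
    ∃ c ∈ ({c0, c1, c2} : Set α), π c = c := by
  have m0 : c0 ∈ ({c0, c1, c2} : Set α) := by simp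
  have m1 : c1 ∈ ({c0, c1, c2} : Set α) := by simp
  have m2 : c2 ∈ ({c0, c1, c2} : Set α) := by simp
  have hinj : ∀ x y, π x = π y → x = y := fun x y h => by rw [← h2 x, h, h2]
  have h0 := hπ c0 m0
  have h1 := hπ c1 m1
  have h3 := hπ c2 m2
  simp only [Set.mem_insert_iff, Set.mem_singleton_iff] at h0 h1 h3
  rcases h0 with h0 | h0 | h0
  · exact ⟨c0, m0, h0⟩
  · -- `π c0 = c1`, `π c1 = c0`
    have h4 : π c1 = c0 := by rw [← h0, h2]
    rcases h3 with h3 | h3 | h3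
    · exact absurd (hinj _ _ (h3.trans h4.symm)) n12.symm
    · exact absurd (hinj _ _ (h3.trans h0.symm)) n02.symm
    · exact ⟨c2, m2, h3⟩
  · have h4 : π c2 = c0 := by rw [← h0, h2]
    rcases h1 with h1 | h1 | h1
    · exact absurd (hinj _ _ (h1.trans h4.symm)) n12
    · exact ⟨c1, m1, h1⟩
    · exact absurd (hinj _ _ (h1.trans h0.symm)) n01.symm

namespace SBlk

/-- **the section theorem** -/
theorem secW (i : SecIn.{u}) (b : SBlk Om) (hz : InZ Om z) (ht : InZ Om t) (hzt : z ≠ t) (hcm : z * t = t * z)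
    (hsw : Sw Om z t) : SecW Om := by
  haveI : Fact (Nat.Prime 2) := ⟨Nat.prime_two⟩
  obtain ⟨B, hB⟩ : ∃ B : Subgroup G, B = sSup Om := ⟨_, rfl⟩
  have hle : ∀ K ∈ Om, K ≤ B := fun K hK => by rw [hB]; exact le_sSup hK
  have hBn : B.Normal := by rw [hB]; exact sSup_normal b.w
  have mB : WMap B.subtype (restr Om B) Om := w2_restr b.w hle
  have hclsB : OneCls (restr Om B) := by rw [hB]; exact oneCls_restr b.w hz ht hcm hsw
  have hrotB : (∃ z t, TI (restr Om B) z t) → Rot (restr Om B) := by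
    rintro ⟨z, t, hti⟩
    have h1 := mB.ti hti
    subst hB
    exact rot_of_ti b.w b.c3 hclsB h1
  have htopB : sSup (restr Om B) = ⊤ := by
    rw [eq_top_iff, ← map_subtype_le_map_subtype, ← MonoidHom.range_eq_map, range_subtype, hB]
    refine sSup_le fun K hK => ?_
    rw [← map_subgroupOf_eq_of_le (show K ≤ sSup Om from le_sSup hK)]
    exact Subgroup.map_mono (le_sSup (subgroupOf_mem_restr hK (le_sSup hK)))
  have hconnB : ∀ K ∈ restr Om B, ∀ L ∈ restr Om B, L ∈ comp (restr Om B) K := by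
    intro K hK L hL
    have h1 := Ind.SubB.subgroupOf_mem_comp (B := B) (K := K.map B.subtype) (L := L.map B.subtype)
      (fun M hM => hle M (IndDefs.comp_sub (mem_restr.1 hK) hM)) (b.conn _ (mem_restr.1 hK) _ (mem_restr.1 hL))
    have h2 : (K.map B.subtype).subgroupOf B = K := comap_map_eq_self_of_injective B.subtype_injective K
    have h3 : (L.map B.subtype).subgroupOf B = L := comap_map_eq_self_of_injective B.subtype_injective L
    rwa [h2, h3] at h1
  have hcoreB : pPrimeCore 2 ↥B = ⊥ := by subst hB; exact b.core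
  have hnilB : ∀ K ∈ restr Om B, ¬ NIL K := by subst hB; exact b.nnil
  obtain ⟨K0, hK0⟩ := hz
  have hzB : ∀ {v}, InZ Om v → v ∈ B := fun {v} hv => by
    obtain ⟨K, hK⟩ := hv
    exact hle K hK.1 (RTwo.Mem.zmem hK b.w)
  have hneB : (restr Om B).Nonempty := ⟨_, subgroupOf_mem_restr hK0.1 (hle _ hK0.1)⟩
  -- lifts of points
  have hlift : ∀ {v} (hv : InZ Om v), InZ (restr Om B) ⟨v, hzB hv⟩ := by
    intro v hv
    obtain ⟨v', h1, h2⟩ := mB.lift_inZ hv
    have h3 : v' = ⟨v, hzB hv⟩ := Subtype.ext h2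
    rw [← h3]; exact h1
  have h3B : ∀ K ∈ restr Om B, ¬ IndDefs.Three K := fun K hK h3 =>
    b.n3 _ (mem_restr.1 hK) (three_of_normal b.w hBn hK h3)
  obtain ⟨f, hfd⟩ : ∃ f : ↥B →* ↥B ⧸ center ↥B, f = QuotientGroup.mk' (center ↥B) := ⟨_, rfl⟩
  have hf : Function.Surjective f := by rw [hfd]; exact QuotientGroup.mk'_surjective _
  have hfk : f.ker = center ↥B := by rw [hfd]; exact QuotientGroup.ker_mk' _
  have hzz : ∀ J ∈ restr Om B, zz J ∉ f.ker := by
    obtain ⟨K, hK⟩ := hneB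
    obtain ⟨-, h1, -⟩ := fsimp_quo i.hev (⟨mB.w1.hyp, mB.w1.card, hcoreB⟩ : T0 (restr Om B)) htopB hconnB hK
      (hnilB K hK)
    rw [hfk]; exact h1
  have mQ' : WMap f (restr Om B) (img f (restr Om B)) := WMap.of_central mB.w1 hf hfk.le hzz
  have hclsQ : OneCls (img f (restr Om B)) := mQ'.oneCls hclsB
  have hz0 : InZ Om z := ⟨K0, hK0⟩
  obtain ⟨h2, mQ, S⟩ := sw_quo i mB.w1 hcoreB htopB hconnB hnilB hrotB
    (by
      rw [← hfd]
      intro hT cf
      refine rot_of_pr mQ'.w2 hT cf hclsQ (z := f ⟨z, hzB hz0⟩) (t := f ⟨t, hzB ht⟩) ?_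
      have hz' := hlift hz0
      have ht' := hlift ht
      refine ⟨mQ'.inZ hz', mQ'.inZ ht', fun e => hzt ?_, ?_, ?_⟩
      · exact congrArg Subtype.val (mQ'.eq_of hz' ht' e)
      · rw [← map_mul, ← map_mul]
        exact congrArg f (Subtype.ext hcm)
      · exact mQ'.sw hz' (mB.sw_up (show Sw Om (B.subtype ⟨z, hzB hz0⟩) (B.subtype ⟨t, hzB ht⟩) from hsw)))
    (fun h => by rw [← hfd]; exact mQ'.rot h) (by rw [← hfd]; exact hclsQ) hneB h3B
  rw [← hfd] at mQ S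
  subst hB
  refine ⟨b.w, ?_, ?_, ?_, ?_, ?_, ?_⟩
  · -- `Z(B)` is a 2-group
    have h4 : ZB Om = (center ↥(sSup Om : Subgroup G)).map (sSup Om : Subgroup G).subtype := by
      ext x
      constructor
      · intro hx
        exact ⟨⟨x, hx.1⟩, mem_ZB_iff.1 hx, rfl⟩
      · rintro ⟨y, hy, rfl⟩
        exact mem_ZB_iff.2 hy
    rw [h4]
    exact h2.map _
  · -- points are not central
    intro v hv hvZ
    have hv' := hlift hv
    obtain ⟨K, hK⟩ := hv'
    refine hzz K hK.1 ?_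
    rw [hfk, hK.2]
    exact mem_ZB_iff.1 hvZ
  · -- `C_B(R_v)`
    intro v hv x hx hxv
    have hv' := hlift hv
    have h4 : (⟨x, hx⟩ : ↥(sSup Om : Subgroup G)) ∈ CX (restr Om (sSup Om)) ⟨v, hzB hv⟩ := mB.cx_up hv' hxv
    have h5 := S.cx _ (mQ.inZ hv') _ (mQ.cx hv' h4)
    have h6 : f ⟨x, hx⟩ * f ⟨x, hx⟩ = 1 := by
      have hvv := (mQ.inZ hv').z2 mQ.w2
      rcases h5 with h5 | h5 | h5 | h5
      · rw [h5, one_mul]
      · rw [h5]; exact hvv
      · exact CC.sq h5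
      · have h7 := CC.sq h5
        have h8 : f ⟨x, hx⟩ * f ⟨v, hzB hv⟩ = f ⟨v, hzB hv⟩ * f ⟨x, hx⟩ :=
          CX_le (mQ.inZ hv') mQ.w2 (mQ.cx hv' h4)
        calc f ⟨x, hx⟩ * f ⟨x, hx⟩ = (f ⟨v, hzB hv⟩ * f ⟨v, hzB hv⟩) * (f ⟨x, hx⟩ * f ⟨x, hx⟩) := by rw [hvv, one_mul]
          _ = f ⟨v, hzB hv⟩ * (f ⟨v, hzB hv⟩ * f ⟨x, hx⟩) * f ⟨x, hx⟩ := by group
          _ = f ⟨v, hzB hv⟩ * (f ⟨x, hx⟩ * f ⟨v, hzB hv⟩) * f ⟨x, hx⟩ := by rw [h8]
          _ = (f ⟨v, hzB hv⟩ * f ⟨x, hx⟩) * (f ⟨v, hzB hv⟩ * f ⟨x, hx⟩) := by group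
          _ = 1 := h7
    have h7 : (⟨x, hx⟩ : ↥(sSup Om : Subgroup G)) * ⟨x, hx⟩ ∈ f.ker := by
      rw [MonoidHom.mem_ker, map_mul]; exact h6
    rw [hfk] at h7
    exact mem_ZB_iff.2 h7
  · -- labels
    intro v hv g hg hgv hgg
    have hv' := hlift hv
    obtain ⟨c0, c1, c2, hcc, n01, n02, n12, -⟩ := S.three _ (mQ.inZ hv')
    obtain ⟨g', hg'⟩ : ∃ g' : ↥(sSup Om : Subgroup G), g' = ⟨g, hg⟩ := ⟨_, rfl⟩
    have hgv' : f g' * f ⟨v, hzB hv⟩ = f ⟨v, hzB hv⟩ * f g' := by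
      rw [← map_mul, ← map_mul, hg']
      exact congrArg f (Subtype.ext hgv)
    have hgg' : f g' * f g' = 1 := by
      rw [← map_mul, hg', ← map_one f]
      exact congrArg f (Subtype.ext hgg)
    obtain ⟨c', hc', hfix⟩ := exists_fixed n01 n02 n12 (fun x => f g' * x * (f g')⁻¹) (by
        intro x hx
        rw [← hcc] at hx ⊢
        have h4 := CC.conj mQ.w2 hx (f g')
        rwa [hgv', mul_inv_cancel_right] at h4) (by
        intro x
        have h4 : (f g')⁻¹ = f g' := inv_eq_of_mul_eq_one_right hgg'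
        calc f g' * (f g' * x * (f g')⁻¹) * (f g')⁻¹ = (f g' * f g') * x * ((f g')⁻¹ * (f g')⁻¹) := by group
          _ = x := by rw [h4, hgg', one_mul, mul_one])
    rw [← hcc] at hc'
    obtain ⟨c, hc, hfc⟩ := mQ.cc_up hv' hc'
    refine ⟨c, mB.cc hc, c.2, ?_⟩
    have h5 : g' * c * g'⁻¹ * c⁻¹ ∈ f.ker := by
      rw [MonoidHom.mem_ker, map_mul, map_mul, map_mul, map_inv, map_inv, hfc]
      have h6 : f g' * c' * (f g')⁻¹ = c' := hfix
      rw [h6, mul_inv_cancel]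
    rw [hfk] at h5
    have h6 := mem_ZB_iff.2 h5
    rw [hg'] at h6
    exact h6
  · -- weight one
    intro v K1 K2 a b' F c hc ρ w hρ hρc hw
    have hv' := hlift F.k1.inZ
    obtain ⟨p, hp⟩ := CC.exists_dir b.w F hc
    have hq := hρ.dc b.w F hp
    rw [hρc, mul_inv_cancel_right] at hq
    -- everything lies in `B`
    have hKB : ∀ {K}, Mem Om v K → ∀ {k}, k ∈ K → k ∈ (sSup Om : Subgroup G) := fun {K} hK {k} hk =>
      (le_sSup hK.1 : K ≤ sSup Om) hk
    obtain ⟨a', ha'⟩ : ∃ a' : Fin 3 → ↥(sSup Om : Subgroup G), ∀ i, (a' i : G) = a i :=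
      ⟨fun i => ⟨a i, hKB F.k1 (F.qa.mem i)⟩, fun i => rfl⟩
    obtain ⟨b1, hb1⟩ : ∃ b1 : Fin 3 → ↥(sSup Om : Subgroup G), ∀ i, (b1 i : G) = b' i :=
      ⟨fun i => ⟨b' i, hKB F.k2 (F.qb.mem i)⟩, fun i => rfl⟩
    obtain ⟨v', hvv⟩ : ∃ v' : ↥(sSup Om : Subgroup G), v' = ⟨v, hzB F.k1.inZ⟩ := ⟨_, rfl⟩
    have hvv' : (v' : G) = v := by rw [hvv]
    rw [← hvv] at hv'
    have q3' : ∀ {K : Subgroup G} {x : Fin 3 → G} {x' : Fin 3 → ↥(sSup Om : Subgroup G)}, Q3 K v x →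
        (∀ i, (x' i : G) = x i) → Q3 (K.subgroupOf (sSup Om)) v' x' := by
      intro K x x' hq hx
      refine ⟨fun i => ?_, fun i => ?_, fun i => ?_, ?_, ?_, ?_⟩
      · rw [mem_subgroupOf, hx]; exact hq.mem i
      · exact Subtype.ext (by rw [Subgroup.coe_mul, hx, hvv']; exact hq.sq i)
      · exact Subtype.ext (by rw [Subgroup.coe_mul, hx, hx, hx]; exact hq.mul i)
      · exact Subtype.ext (by rw [Subgroup.coe_mul, hvv']; exact hq.z2)
      · intro h4; exact hq.z1 (by rw [← hvv', h4]; rfl)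
      · intro k hk
        rw [mem_subgroupOf] at hk
        rcases hq.cov _ hk with h4 | h4 | ⟨i, h4 | h4⟩
        · left; exact Subtype.ext h4
        · right; left; exact Subtype.ext (by rw [hvv']; exact h4)
        · right; right; exact ⟨i, Or.inl (Subtype.ext (by rw [hx]; exact h4))⟩
        · right; right; exact ⟨i, Or.inr (Subtype.ext (by rw [Subgroup.coe_mul, hx, hvv']; exact h4))⟩
    have memB : ∀ {K : Subgroup G}, Mem Om v K → Mem (restr Om (sSup Om)) v' (K.subgroupOf (sSup Om)) := by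
      intro K hK
      have h4 := subgroupOf_mem_restr hK.1 (hle K hK.1)
      refine ⟨h4, Subtype.ext ?_⟩
      rw [zz_map b.w.hyp h4, map_subgroupOf_eq_of_le (hle K hK.1), hK.2, hvv']
    have FB : Frame (restr Om (sSup Om)) v' (K1.subgroupOf (sSup Om)) (K2.subgroupOf (sSup Om)) a' b1 := by
      refine ⟨memB F.k1, memB F.k2, fun h4 => F.ne ?_, q3' F.qa ha', q3' F.qb hb1⟩
      rw [← map_subgroupOf_eq_of_le (hle K1 F.k1.1), h4, map_subgroupOf_eq_of_le (hle K2 F.k2.1)]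
    -- the label
    have hcB : c ∈ (sSup Om : Subgroup G) := by
      obtain ⟨t, l⟩ := hc
      have h4 : t * c ∈ (sSup Om : Subgroup G) := by
        have h5 : RZ Om v ≤ sSup Om := RZ_le fun K hK => hle K hK.1
        exact h5 l.wz
      have h5 := mul_mem (inv_mem (hzB l.ti.2.1)) h4
      rwa [inv_mul_cancel_left] at h5
    have key : ∀ p, p ∈ DC Om v a b' c → p ∈ DC (restr Om (sSup Om)) v' a' b1 ⟨c, hcB⟩ := by
      rintro p ⟨t, l, hd⟩
      have ht' := hlift l.ti.2.1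
      have hl : Lab (restr Om (sSup Om)) v' ⟨t, hzB l.ti.2.1⟩ ⟨c, hcB⟩ := by
        have l' : Lab Om ((sSup Om : Subgroup G).subtype v') ((sSup Om : Subgroup G).subtype ⟨t, hzB l.ti.2.1⟩) c := by
          have h4 : (sSup Om : Subgroup G).subtype v' = v := hvv'
          rw [h4]; exact l
        obtain ⟨d, h4, h5⟩ := mB.lab_up hv' ht' l'
        have h6 : d = ⟨c, hcB⟩ := Subtype.ext h5
        rw [← h6]; exact h4
      refine ⟨⟨t, hzB l.ti.2.1⟩, hl, ?_⟩
      rcases hd with hd | hd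
      · left; exact Subtype.ext (by rw [Subgroup.coe_mul, Subgroup.coe_mul, ha', hb1]; exact hd)
      · right
        exact Subtype.ext (by rw [Subgroup.coe_mul, Subgroup.coe_mul, Subgroup.coe_mul, ha', hb1, hvv']; exact hd)
    have hp' := mQ.dc (key p hp)
    have hq' := mQ.dc (key _ hq)
    obtain ⟨v0, h01, h02, hv0⟩ := S.line _ _ _ _ _ (mQ.frame FB)
    obtain ⟨c1, hc1⟩ := hv0 p
    have h4 := (hc1 p).2 (Or.inl rfl)
    have h5 := S.uniq _ _ _ _ _ (mQ.frame FB) _ _ _ hp' h4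
    rw [h5] at hq'
    have h6 := (hc1 _).1 hq'
    have dec : ∀ w v0 : Fin 3 × Fin 3, v0.1 ≠ 0 → v0.2 ≠ 0 → (w = 0 ∨ w = v0 ∨ w = -v0) →
        ¬ ((w.1 ≠ 0 ∧ w.2 = 0) ∨ (w.1 = 0 ∧ w.2 ≠ 0)) := by decide
    refine dec w v0 h01 h02 ?_ hw
    rcases h6 with h6 | h6 | h6
    · left; exact left_eq_add.1 h6.symm
    · right; left; exact add_left_cancel h6
    · right; right; rw [sub_eq_add_neg] at h6; exact add_left_cancel h6
  · -- pairs of type p
    intro z t hz ht hzt hcm hsw hsw'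
    have hz' := hlift hz
    have ht' := hlift ht
    have hcm' : f ⟨z, hzB hz⟩ * f ⟨t, hzB ht⟩ = f ⟨t, hzB ht⟩ * f ⟨z, hzB hz⟩ := by
      rw [← map_mul, ← map_mul]
      exact congrArg f (Subtype.ext hcm)
    have hsQ := mQ.sw hz' (mB.sw_up (show Sw Om ((sSup Om : Subgroup G).subtype ⟨z, hzB hz⟩) ((sSup Om : Subgroup G).subtype ⟨t, hzB ht⟩) from hsw))
    obtain ⟨c, D⟩ := S.dich _ _ (mQ.inZ hz') (mQ.inZ ht')
      (fun e => hzt (congrArg Subtype.val (mQ.eq_of hz' ht' e))) hcm'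
    rcases D.alt with h4 | h4
    · exact (fx_sw_false (mQ.inZ hz') h4.2.1 hsQ).elim
    · obtain ⟨-, -, -, h5, h6, -⟩ := h4
      obtain ⟨n, hn, hfn⟩ := mQ.lift_inZ h5
      refine ⟨n, mB.inZ hn, ?_⟩
      have h7 : f (⟨z, hzB hz⟩ * ⟨t, hzB ht⟩) ∈ CX (img f (restr Om (sSup Om))) (f n) := by
        have hcc := CC.sq h6
        have e : f (⟨z, hzB hz⟩ * ⟨t, hzB ht⟩) = f n * c := by
          rw [hfn, map_mul, mul_assoc (f ⟨z, hzB hz⟩ * f ⟨t, hzB ht⟩), hcc, mul_one]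
        rw [e]
        refine mul_mem (z_mem_CX mQ.w2) ?_
        obtain ⟨u, l⟩ := h6
        rw [hfn]
        exact l.cz
      exact mB.cx hn (mQ.cx_up hn h7)

end SBlk

end Cfsg.Agent.Cit.Nil.CompR
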