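import Cfsg.Agent.Cit.Nil.CompR.SecBlk
import Cfsg.Agent.Cit.Nil.CompR.SecThree
import Cfsg.Agent.Cit.Nil.CompR.TPm
import Cfsg.Agent.Cit.Nil.Ind.SubB
import Cfsg.Agent.StdEven.Syl

/-!
# S1309 (n6), COMP, `r = 2`, the product situation: `T'` for `C(e)` (helper531's (E2))

* `sub_map` : transfer of subnormality along an injective homomorphism; `quo_map` : transfer of `J/O(J)`;
* **`Blk.false_of_three`** : (T3) in the stabiliser of a block;
* **`tps_of_blk`** : `TPs (ZZ Om) (RR Om) e`.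
-/

set_option autoImplicit false
set_option linter.style.haveILetI false
set_option linter.unusedSectionVars false
set_option maxHeartbeats 400000

namespace Cfsg.Agent.Cit.Nil.CompR

open Subgroup Cfsg Cfsg.Agent.Cit Cfsg.Agent.Cit.Nil.RTwo
open Cfsg.Agent.StdEven.Syl
open RG (WR ZZ Ov RR)
open RTwoM (WM)
open Cfsg.Agent.Cit.Nil.AN (Ce)

namespace SecTP

/-- transfer of subnormality along an injective homomorphism -/
theorem sub_map {X Y : Type*} [Group X] [Group Y] (f : X →* Y) {J C : Subgroup X}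
    (hJC : J ≤ C) (hs : (J.subgroupOf C).IsSubnormal) : ((J.map f).subgroupOf (C.map f)).IsSubnormal := by
  have h1 := hs.map (f.subgroupMap_surjective C)
  convert h1 using 1
  ext x
  constructor
  · rintro ⟨y, hy, hyx⟩
    exact ⟨⟨y, hJC hy⟩, hy, Subtype.ext hyx⟩
  · rintro ⟨y, hy, rfl⟩
    exact ⟨y, hy, rfl⟩

/-- transfer of `J/O(J)` -/
theorem quo_map {X Y : Type*} [Group X] [Group Y] (f : X →* Y) (hf : Function.Injective f) (J : Subgroup X)
    {S : Type*} [Group S] (iso : (↥J ⧸ oddCore ↥J) ≃* S) :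
    Nonempty ((↥(J.map f) ⧸ oddCore ↥(J.map f)) ≃* S) := by
  let φ : J ≃* J.map f := J.equivMapOfInjective f hf
  have h2 : (oddCore J).map (φ : J →* J.map f) = oddCore (J.map f) := Lib.Cores.map_equiv_pPrimeCore φ 2
  exact ⟨(QuotientGroup.congr _ _ φ h2).symm.trans iso⟩

/-- transfer of `J/O(J)` to a subgroup -/
theorem quo_sub {X : Type*} [Group X] {J N : Subgroup X} (hJ : J ≤ N)
    {S : Type*} [Group S] (iso : (↥J ⧸ oddCore ↥J) ≃* S) :
    Nonempty ((↥(J.subgroupOf N) ⧸ oddCore ↥(J.subgroupOf N)) ≃* S) := by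
  let φ : ↥(J.subgroupOf N) ≃* J := subgroupOfEquivOfLe hJ
  have h2 : (oddCore ↥(J.subgroupOf N)).map (φ : ↥(J.subgroupOf N) →* J) = oddCore J :=
    Lib.Cores.map_equiv_pPrimeCore φ 2
  exact ⟨(QuotientGroup.congr _ _ φ h2).trans iso⟩

end SecTP

section

variable {G : Type*} [Group G] [Finite G] {Om : Set (Subgroup G)} {A : Set G}

/-- **(T3) in the stabiliser of a block** -/
theorem Blk.false_of_three (b : Blk Om A) (S : SecW (PB Om A)) {K J : Subgroup G} {e e' : G} (hK : K ∈ OBl Om A)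
    (hev : e * zz K = zz K * e) (hee : e * e = 1) (heK : ∀ k ∈ K, e * k = k * e) (he' : e' ∈ BA Om A)
    (he2 : e' * e' = 1) (hec : ∀ x ∈ BA Om A, e * x * e⁻¹ = e' * x * e'⁻¹)
    (hJ : J ≤ centralizer {zz K} ⊓ centralizer {e}) (hKJ : K ≤ J)
    (hsub : (J.subgroupOf (centralizer {zz K} ⊓ centralizer {e})).IsSubnormal)
    (iso : (↥J ⧸ oddCore ↥J) ≃* Matrix.SpecialLinearGroup (Fin 2) (ZMod 3)) : False := by
  have hJN : J ≤ NB A := (hJ.trans inf_le_left).trans (b.cen _ hK.2)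
  obtain ⟨v, hv⟩ : ∃ v : ↥(NB A), (v : G) = zz K := ⟨⟨zz K, b.point_mem hK.2⟩, rfl⟩
  obtain ⟨f, hf⟩ : ∃ f : ↥(NB A), (f : G) = e := ⟨⟨e, b.mem_NB_of hK.2 hev⟩, rfl⟩
  obtain ⟨f', hf'⟩ : ∃ f' : ↥(NB A), (f' : G) = e' := ⟨⟨e', b.BA_le he'⟩, rfl⟩
  have hm : Mem (PB Om A) v (K.subgroupOf (NB A)) := b.mem_of (by rw [hv]; exact hK.2) ⟨hK.1, hv.symm⟩
  obtain ⟨iso'⟩ := SecTP.quo_sub hJN iso
  have hmc : ∀ x : ↥(NB A), x ∈ (centralizer {v} ⊓ centralizer {f} : Subgroup ↥(NB A)) ↔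
      (x : G) ∈ (centralizer {zz K} ⊓ centralizer {e} : Subgroup G) := by
    intro x
    rw [Subgroup.mem_inf, Subgroup.mem_inf, mem_centralizer_singleton_iff, mem_centralizer_singleton_iff,
      mem_centralizer_singleton_iff, mem_centralizer_singleton_iff, ← hv, ← hf]
    constructor
    · rintro ⟨h1, h2⟩
      exact ⟨congrArg Subtype.val h1, congrArg Subtype.val h2⟩
    · rintro ⟨h1, h2⟩
      exact ⟨Subtype.ext h1, Subtype.ext h2⟩
  refine S.false_of_three hm (e := f) (e' := f') (Subtype.ext ?_) (Subtype.ext ?_) ?_ ?_ (Subtype.ext ?_) ?_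
    (J := J.subgroupOf (NB A)) ?_ ?_ ?_ iso'
  · simp only [Subgroup.coe_mul, hf, hv]
    exact hev
  · simp only [Subgroup.coe_mul, hf, Subgroup.coe_one]
    exact hee
  · intro k hk
    apply Subtype.ext
    simp only [Subgroup.coe_mul, hf]
    exact heK k hk
  · rw [b.mem_sSup_iff, hf']
    exact he'
  · simp only [Subgroup.coe_mul, hf', Subgroup.coe_one]
    exact he2
  · intro x hx
    rw [b.mem_sSup_iff] at hx
    apply Subtype.ext
    simp only [Subgroup.coe_mul, Subgroup.coe_inv, hf, hf']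
    exact hec x hx
  · intro x hx
    exact (hmc x).2 (hJ hx)
  · intro x hx
    exact hKJ hx
  · let φ : ↥(centralizer {v} ⊓ centralizer {f} : Subgroup ↥(NB A)) →*
        ↥(centralizer {zz K} ⊓ centralizer {e} : Subgroup G) :=
      { toFun := fun x => ⟨((x : ↥(NB A)) : G), (hmc x).1 x.2⟩
        map_one' := rfl
        map_mul' := fun _ _ => rfl }
    exact hsub.comap φ

end

section

universe u

variable {G : Type u} [Group G] [Finite G] {Om : Set (Subgroup G)} {e n : G}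

/-- **`T'` for `C(e)` in the product situation** -/
theorem tps_of_blk (w : IndDefs.SCW G Om) (core : ∀ t : G, orderOf t = 2 → centralizerPPrimeCore 2 t = ⊥)
    {M : Subgroup G} {Kl : G → Set G} (hee : e * e = 1) (he1 : e ≠ 1)
    (syl : ∀ S : Sylow 2 G, ∀ x ∈ ZZ Om, x ∈ M → RR Om x ≤ (S : Subgroup G) → (S : Subgroup G) ≤ M)
    (hn : n ∈ ZZ Om) (hnM : n ∈ M) (hne : Ce e (RR Om n))
    (blk : ∀ v ∈ ZZ Om, v ∈ M → v ∈ Kl v ∧ Blk Om (Kl v) ∧ SecW (PB Om (Kl v)))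
    (dec : ∀ v ∈ ZZ Om, v ∈ M → ∃ e' ∈ BA Om (Kl v), e' * e' = 1 ∧
      ∀ x ∈ BA Om (Kl v), e * x * e⁻¹ = e' * x * e'⁻¹) : TPs (ZZ Om) (RR Om) e := by
  haveI : Fact (Nat.Prime 2) := ⟨Nat.prime_two⟩
  have hwr : WR Om := WR.of_hyp w.t0.hyp w.t0.card
  have hoe : orderOf e = 2 := orderOf_eq_prime (by rw [pow_two]; exact hee) he1
  obtain ⟨C, hC⟩ : ∃ C : Subgroup G, C = centralizer {e} := ⟨_, rfl⟩
  have mC : ∀ g, g ∈ C ↔ g * e = e * g := fun g => by rw [hC, mem_centralizer_singleton_iff]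
  have hcore : Cfsg.pPrimeCore 2 ↥(centralizer ({e} : Set G)) = ⊥ := by
    have h1 := core e hoe
    unfold centralizerPPrimeCore at h1
    rwa [Subgroup.map_eq_bot_iff_of_injective _ (Subgroup.subtype_injective _)] at h1
  refine (tpm_of_ih w he1 hcore ?_).tps hwr w.t0.hyp
  rw [← hC]
  rintro K0 hK0 ⟨J0, hJ0c, hKJ0, hJ0s, ⟨iso⟩⟩
  have hK : K0.map C.subtype ∈ Om := mem_restr.1 hK0
  have hKC : K0.map C.subtype ≤ C := map_subtype_le K0
  have hz0 : ((zz K0 : ↥C) : G) = zz (K0.map C.subtype) := zz_map w.t0.hyp hK0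
  -- into a Sylow subgroup of `C(e)` which lies in `M`
  have hRC : RR Om n ≤ C := fun k hk => (mC k).2 (hne k hk).symm
  obtain ⟨T, hT, hRT⟩ := exists_isSyl (hwr.RR_two hn) hRC
  obtain ⟨S, hTS⟩ := hT.two.exists_le_sylow
  have hSM := syl S n hn hnM (hRT.trans hTS)
  have hK2 : IsPGroup 2 ↥(K0.map C.subtype) :=
    IsPGroup.of_card (n := 3) (by rw [w.t0.card _ hK]; norm_num)
  obtain ⟨c, hc, hcK⟩ := hT.exists_conj hK2 hKC
  have hce := (mC c).1 hc
  obtain ⟨f, hf⟩ : ∃ f : ↥C →* G, ∀ x, f x = c * (x : G) * c⁻¹ :=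
    ⟨(MulAut.conj c).toMonoidHom.comp C.subtype, fun x => rfl⟩
  have hinj : Function.Injective f := by
    intro x y hxy
    rw [hf, hf] at hxy
    exact Subtype.ext (by simpa using hxy)
  obtain ⟨K1, hK1⟩ : ∃ K1, K1 = K0.map f := ⟨_, rfl⟩
  have hK1c : K1 = cj c (K0.map C.subtype) := by
    rw [hK1]
    ext x
    constructor
    · rintro ⟨y, hy, rfl⟩
      rw [hf]
      exact conj_mem_cj ⟨y, hy, rfl⟩
    · intro hx
      obtain ⟨y, hy, hyx⟩ := mem_cj.1 hx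
      refine ⟨y, hy, ?_⟩
      rw [hf]
      change (y : G) = c⁻¹ * x * c at hyx
      rw [hyx]; group
  have hK1O : K1 ∈ Om := by rw [hK1c]; exact w.t0.hyp.conj _ hK c
  have hzK1 : zz K1 = c * (zz K0 : ↥C) * c⁻¹ := by rw [hK1c, w.t0.hyp.zz_cj hK, hz0]
  have hK1C : K1 ≤ C := by
    rw [hK1]
    rintro _ ⟨y, -, rfl⟩
    rw [hf]
    exact mul_mem (mul_mem hc y.2) (inv_mem hc)
  have hK1T : K1 ≤ T := by
    rw [hK1]
    rintro _ ⟨y, hy, rfl⟩
    rw [hf]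
    exact hcK _ ⟨y, hy, rfl⟩
  have hzm : zz K1 ∈ K1 := w.t0.hyp.zz_mem hK1O
  have hcen : (centralizer {zz K0} : Subgroup ↥C).map f = centralizer {zz K1} ⊓ centralizer {e} := by
    ext y
    rw [Subgroup.mem_inf, mem_centralizer_singleton_iff, mem_centralizer_singleton_iff, hzK1]
    constructor
    · rintro ⟨x, hx, rfl⟩
      have h1 : (x : G) * (zz K0 : ↥C) = (zz K0 : ↥C) * (x : G) :=
        congrArg Subtype.val (mem_centralizer_singleton_iff.1 hx)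
      rw [hf]
      refine ⟨?_, (mC _).1 (mul_mem (mul_mem hc x.2) (inv_mem hc))⟩
      calc c * (x : G) * c⁻¹ * (c * (zz K0 : ↥C) * c⁻¹) = c * ((x : G) * (zz K0 : ↥C)) * c⁻¹ := by group
        _ = c * ((zz K0 : ↥C) * (x : G)) * c⁻¹ := by rw [h1]
        _ = _ := by group
    · rintro ⟨h1, h2⟩
      have h3 : c⁻¹ * y * c ∈ C := mul_mem (mul_mem (inv_mem hc) ((mC y).2 h2)) hc
      refine ⟨⟨c⁻¹ * y * c, h3⟩, mem_centralizer_singleton_iff.2 (Subtype.ext ?_), ?_⟩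
      · change c⁻¹ * y * c * (zz K0 : ↥C) = (zz K0 : ↥C) * (c⁻¹ * y * c)
        calc c⁻¹ * y * c * (zz K0 : ↥C) = c⁻¹ * (y * (c * (zz K0 : ↥C) * c⁻¹)) * c := by group
          _ = c⁻¹ * (c * (zz K0 : ↥C) * c⁻¹ * y) * c := by rw [h1]
          _ = _ := by group
      · rw [hf]
        change c * (c⁻¹ * y * c) * c⁻¹ = y
        group
  have hzZ : zz K1 ∈ ZZ Om := ⟨K1, hK1O, rfl⟩
  have hzM : zz K1 ∈ M := hSM (hTS (hK1T hzm))
  obtain ⟨h1, b, hS⟩ := blk _ hzZ hzM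
  obtain ⟨e', he', he2, hec⟩ := dec _ hzZ hzM
  obtain ⟨iso'⟩ := SecTP.quo_map f hinj J0 iso
  refine b.false_of_three hS ⟨hK1O, h1⟩ ((mC _).1 (hK1C hzm)).symm hee (fun k hk => ((mC k).1 (hK1C hk)).symm)
    he' he2 hec (J := J0.map f) ?_ ?_ ?_ iso'
  · rw [← hcen]; exact Subgroup.map_mono hJ0c
  · rw [hK1]; exact Subgroup.map_mono hKJ0
  · rw [← hcen]; exact SecTP.sub_map f hJ0c hJ0s

end

end Cfsg.Agent.Cit.Nil.CompR
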