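import Cfsg.Agent.Cit.Nil.CompR.ProdEnd
import Cfsg.Agent.Cit.Nil.CompR.ProdFrm
import Cfsg.Agent.Cit.Nil.CompR.ProdTwo
import Cfsg.Agent.Cit.Nil.CompR.ProdTwoM
import Cfsg.Agent.Cit.Nil.CompR.SecMain
import Cfsg.Agent.Cit.Nil.CompR.SecFrm
import Cfsg.Agent.Cit.Nil.CompR.SecTP
import Cfsg.Agent.Cit.Nil.CompR.CentE
import Cfsg.Agent.Cit.Nil.CompR.TPm
import Cfsg.Agent.Cit.Nil.RTwoM.Leaf
import Cfsg.Agent.Cit.Nil.SCK

/-!
# S1309 (n6), COMP, `r = 2`: the product situation is impossible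

* `PE.of_fram` : the input of the end, from `Fram`;
* `Frm.blk` : a block without C-pairs is a `Blk`;
* `false_of_frames` : `SCW`, core-free, `WM`, `TP`, every point lies in a frame, the block facts (D), (Q): contradiction.
-/

set_option autoImplicit false
set_option linter.style.haveILetI false
set_option linter.unusedSectionVars false

namespace Cfsg.Agent.Cit.Nil.CompR

open Subgroup Cfsg Cfsg.Agent.Cit
open Cfsg.Agent.Cit.Nil.AN (Om Cl OneC Ce Cm)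
open Cfsg.Agent.Cit.Nil.ROne (CP CS TT FSimp)
open Cfsg.Agent.Cit.Nil.RTwoM (WM)
open Cfsg.Agent.Cit.Nil.RTwoM.L1 (WS)
open RG (WR Ov RR)
open Cfsg.Agent.OddOrderLocal.NilParts

universe u

section frm

variable {G : Type*} [Group G] [Finite G] {Ω : Set (Subgroup G)} {K L M : Subgroup G} {z x y g s e n n' : G} {A : Set G}
  {F : Set (Set G)}

/-- the swap world of `WM` -/
theorem ws_of_wm (h : WM Ω) : WS (RG.ZZ Ω) (RR Ω) := by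
  have h1 : RR Ω = RTwoM.RZ Ω := funext fun z => RTwoM.RR_eq z
  rw [h1]
  exact h.ws

/-- the product situation is a `Fram` -/
theorem PW.fram (h : WM Ω) (p : PW (RG.ZZ Ω) (RR Ω))
    (cf : ∀ z ∈ RG.ZZ Ω, ∀ u ∈ RG.ZZ Ω, CP (RR Ω) z u → ∀ N : Subgroup G,
      N ≤ centralizer {z * u} → centralizer {z * u} ≤ normalizer (N : Set G) → Odd (Nat.card N) → N = ⊥)
    (blk : ∀ F, Frm (RG.ZZ Ω) (RR Ω) F → ∀ A ∈ F, (∀ a ∈ A, ∀ b ∈ A, ¬ CP (RR Ω) a b) → BlkD Ω A ∧ BlkQ Ω A) :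
    Fram (RG.ZZ Ω) (RR Ω) (sgOf (RG.ZZ Ω) (RR Ω)) (klOf (RG.ZZ Ω) (RR Ω)) :=
  Fram.of_frm p.w p.fr (fun _ hu _ hv hc => p.cp hu hv hc) (fun _ hx _ hu hc => p.csw (ws_of_wm h) hu hx hc)
    (fun _ hz _ hx hc => p.sf_of_mem h cf blk hz hx hc)

/-- the input of the end -/
theorem PE.of_fram (h : WM Ω) (w : GW (RG.ZZ Ω) (RR Ω)) (tp : TP (RG.ZZ Ω) (RR Ω))
    (f : Fram (RG.ZZ Ω) (RR Ω) (sgOf (RG.ZZ Ω) (RR Ω)) (klOf (RG.ZZ Ω) (RR Ω))) (hz : z ∈ RG.ZZ Ω)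
    (m2 : ∀ S : Sylow 2 G, MTwo (RG.ZZ Ω) (RR Ω) (S : Subgroup G)) :
    PE Ω (f.MM hz) fun x y => y ∈ klOf (RG.ZZ Ω) (RR Ω) x := by
  have sg : ∀ x, x ∈ RG.ZZ Ω ∩ (f.MM hz : Set G) → x ∈ sgOf (RG.ZZ Ω) (RR Ω) z := fun x hx => f.mem_of_MM hz hx.1 hx.2
  have gs : ∀ x, x ∈ sgOf (RG.ZZ Ω) (RR Ω) z → x ∈ RG.ZZ Ω ∩ (f.MM hz : Set G) := fun x hx =>
    ⟨f.mem_Z hz hx, f.mem_MM_of_comm hz hx rfl⟩
  have cn : CnZ (RG.ZZ Ω) (RR Ω) := CnZ.of_wr h.wr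
  refine ⟨h, ?_, ?_, ?_, ?_, ?_, ?_, ?_, ?_, ?_, ?_, ?_, ?_⟩
  · exact fun x hx => f.self x hx.1
  · exact fun x hx y _ h => f.kl_symm hx.1 h
  · intro x hx y _ v _ h1 h2
    rwa [f.klEq x hx.1 y h1] at h2
  · exact fun g _ x _ y _ h => klOf_conj w g h
  · intro x hx y hy hn
    have h1 := f.cm' hz (sg x hx) (sg y hy) hn
    exact h1.2
  · obtain ⟨u, hu, hn⟩ := f.ex z hz
    exact ⟨z, gs z (f.selfS hz), u, gs u hu, hn⟩
  · intro x hx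
    obtain ⟨b, hb, b', hb', hne, -⟩ := f.nc x hx.1
    have hsub : ∀ y ∈ klOf (RG.ZZ Ω) (RR Ω) x, y ∈ RG.ZZ Ω ∩ (f.MM hz : Set G) := fun y hy => gs y (f.kl_sub hz (sg x hx) hy)
    by_cases h1 : x = b
    · exact ⟨b', hsub b' hb', hb', fun h2 => hne (h1.symm.trans h2)⟩
    · exact ⟨b, hsub b hb, hb, h1⟩
  · exact fun x _ y _ hxy hc v _ hxv => one_of_klOf w tp hxy hxv hc
  · exact fun x hx g hg => f.mem_of_fus w hz (sg x hx) hg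
  · exact fun S x hx hxS => f.S_le_of_mem w hz S (sg x hx) hxS
  · intro S hS s hs hs1 c hc
    exact f.cen w hz S hS (tp.tps S) (m2 S) hs hs1 (mem_centralizer_singleton_iff.2 hc)
  · exact fun S hS s hs hs1 g hg => f.mem' w cn hz S hS (tp.tps S) (m2 S) hs hs1 hg

/-- the group of a class -/
theorem bg_eq (M : Subgroup G) (hA : A ⊆ RG.ZZ Ω ∩ M) {v : G} (e : ∀ x, x ∈ RG.ZZ Ω ∩ M → (x ∈ A ↔ x ∈ klOf (RG.ZZ Ω) (RR Ω) v)) :
    BG Ω M (fun x y => y ∈ klOf (RG.ZZ Ω) (RR Ω) x) v = BA Ω A := by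
  refine le_antisymm ?_ ?_
  · rw [BG, closure_le]
    rintro k ⟨x, hx, hvx, hk⟩
    have h1 : RR Ω x ≤ BA Ω A := RG.SS_le fun K hK => le_sSup ⟨hK.1, by rw [hK.2]; exact (e x hx).2 hvx⟩
    exact h1 hk
  · refine sSup_le fun K hK k hk => subset_closure ⟨zz K, hA hK.2, (e _ (hA hK.2)).1 hK.2, ?_⟩
    exact WR.le_RR ⟨hK.1, rfl⟩ hk

/-- a block without C-pairs -/
theorem Frm.blk (h : WM Ω) (w : GW (RG.ZZ Ω) (RR Ω)) (f : Frm (RG.ZZ Ω) (RR Ω) F) (hA : A ∈ F)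
    (hno : ∀ a ∈ A, ∀ b ∈ A, ¬ CP (RR Ω) a b) : Blk Ω A := by
  refine ⟨h, f.sub A hA, ?_, ?_⟩
  · intro a ha g hg
    have hg' := mem_centralizer_singleton_iff.1 hg
    have key : ∀ g : G, g * a = a * g → ∀ x ∈ A, g * x * g⁻¹ ∈ A := by
      intro g hg x hx
      have h1 : g * a * g⁻¹ = a := by rw [hg, mul_inv_cancel_right]
      have h2 : a ∈ (fun x => g * x * g⁻¹) '' A := ⟨a, ha, h1⟩
      obtain ⟨-, h3⟩ := f.uniq w (f.conj w g) hA ⟨A, hA, rfl⟩ ha h2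
      rw [h3]
      exact ⟨x, hx, rfl⟩
    intro x
    refine ⟨key g hg' x, fun hx => ?_⟩
    have h1 : g⁻¹ * a = a * g⁻¹ := by
      calc g⁻¹ * a = g⁻¹ * (a * g) * g⁻¹ := by group
        _ = a * g⁻¹ := by rw [← hg']; group
    have h2 := key g⁻¹ h1 _ hx
    have e1 : g⁻¹ * (g * x * g⁻¹) * g⁻¹⁻¹ = x := by group
    rwa [e1] at h2
  · intro K hK L hL hc
    by_contra hne
    refine not_cm_of h.wr hne (fun h1 => hno _ hK.2 _ hL.2 ⟨hne, h1⟩) ⟨hK.1, rfl⟩ ⟨hL.1, rfl⟩ hc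

/-- the class of a point of a block -/
theorem klOf_eq (w : GW (RG.ZZ Ω) (RR Ω)) (f : Frm (RG.ZZ Ω) (RR Ω) F) (hA : A ∈ F) (hx : x ∈ A) :
    klOf (RG.ZZ Ω) (RR Ω) x = A := by
  ext y
  constructor
  · rintro ⟨F', f', A', hA', hx', hy⟩
    obtain ⟨-, h2⟩ := f.uniq w f' hA hA' hx hx'
    rwa [h2]
  · exact fun hy => ⟨F, f, A, hA, hx, hy⟩

theorem SwP.conj (hyp : Hyp Ω) (h : SwP Ω x y) (g : G) : SwP Ω (g * x * g⁻¹) (g * y * g⁻¹) := by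
  have key : ∀ {x y : G}, (∀ K ∈ Ov Ω x, cj y K ≠ K) → ∀ K ∈ Ov Ω (g * x * g⁻¹), cj (g * y * g⁻¹) K ≠ K := by
    intro x y h K hK h1
    have h2 : cj g⁻¹ K ∈ Ov Ω x := by
      refine ⟨hyp.conj _ hK.1 _, ?_⟩
      rw [hyp.zz_cj hK.1, hK.2]
      group
    refine h _ h2 ?_
    calc cj y (cj g⁻¹ K) = cj g⁻¹ (cj (g * y * g⁻¹) K) := by
          rw [← cj_mul, ← cj_mul]
          congr 1
          group
      _ = cj g⁻¹ K := by rw [h1]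
  exact ⟨key h.1, key h.2⟩

/-- an odd normal subgroup of `C(e)` is trivial -/
theorem odd_eq_bot' (core : ∀ t : G, orderOf t = 2 → centralizerPPrimeCore 2 t = ⊥) (hee : e * e = 1) (he : e ≠ 1)
    {N : Subgroup G} (hN : N ≤ centralizer {e}) (hn : centralizer {e} ≤ normalizer (N : Set G))
    (hodd : Odd (Nat.card N)) : N = ⊥ := by
  haveI : Fact (Nat.Prime 2) := ⟨Nat.prime_two⟩
  have h1 := core e (orderOf_eq_prime (by rw [pow_two]; exact hee) he)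
  have h2 : Cfsg.pPrimeCore 2 ↥(centralizer ({e} : Set G)) = ⊥ :=
    (Subgroup.map_eq_bot_iff_of_injective _ (Subgroup.subtype_injective _)).1 h1
  have h3 : (N.subgroupOf (centralizer {e})).Normal := (normal_subgroupOf_iff_le_normalizer hN).2 hn
  have h4 : Nat.card (N.subgroupOf (centralizer {e})) = Nat.card N :=
    Nat.card_congr (Subgroup.subgroupOfEquivOfLe hN).toEquiv
  have h5 : N.subgroupOf (centralizer {e}) ≤ Cfsg.pPrimeCore 2 ↥(centralizer ({e} : Set G)) := by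
    refine Lib.Cores.le_pPrimeCore h3 ?_
    rw [h4]
    exact Nat.coprime_two_right.2 hodd
  rw [h2, le_bot_iff] at h5
  rw [eq_bot_iff]
  intro n hn'
  have h6 : (⟨n, hN hn'⟩ : ↥(centralizer ({e} : Set G))) ∈ N.subgroupOf (centralizer {e}) := hn'
  rw [h5, mem_bot] at h6
  exact mem_bot.2 (congrArg Subtype.val h6)

end frm

section main

variable {G : Type u} [Group G] [Finite G] {Ω : Set (Subgroup G)} {K L M : Subgroup G} {z x y g s e n n' : G} {A : Set G}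
  {F : Set (Set G)}

/-- the block world of a block with a pair of type p -/
theorem secW_of (i : SecIn.{u}) (b : Blk Ω A) (bw : SBlk (PB Ω A)) (hx : x ∈ A) (hy : y ∈ A) (hxy : x ≠ y)
    (hc : x * y = y * x) (hs : SwP Ω x y) : SecW (PB Ω A) ∧ ∃ n ∈ A, Ce (x * y) (RR Ω n) := by
  obtain ⟨x', hx'⟩ : ∃ x' : ↥(NB A), (x' : G) = x := ⟨⟨x, b.point_mem hx⟩, rfl⟩
  obtain ⟨y', hy'⟩ : ∃ y' : ↥(NB A), (y' : G) = y := ⟨⟨y, b.point_mem hy⟩, rfl⟩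
  subst hx' hy'
  have hne : x' ≠ y' := fun h1 => hxy (by rw [h1])
  have hcc : x' * y' = y' * x' := Subtype.ext hc
  have h1 : RTwo.Sw (PB Ω A) x' y' := (b.sw_iff hx).2 hs.1
  have h2 : RTwo.Sw (PB Ω A) y' x' := (b.sw_iff hy).2 hs.2
  have S : SecW (PB Ω A) := bw.secW i (b.inZ_iff.2 hx) (b.inZ_iff.2 hy) hne hcc h1
  refine ⟨S, ?_⟩
  obtain ⟨n, hn, hnc⟩ := S.pp x' y' (b.inZ_iff.2 hx) (b.inZ_iff.2 hy) hne hcc h1 h2
  have hn' := b.inZ_iff.1 hn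
  exact ⟨n, hn', (b.cx_iff hn').1 hnc⟩

/-- **the product situation, `r = 2`, is impossible** -/
theorem false_of_frames (i : SecIn.{u}) (w : IndDefs.SCW G Ω)
    (core : ∀ t : G, orderOf t = 2 → centralizerPPrimeCore 2 t = ⊥) (h : WM Ω) (cls : RTwoM.OneCls Ω)
    (c3 : RTwoM.C3E Ω) (tp : TP (RG.ZZ Ω) (RR Ω))
    (fr : ∀ z ∈ RG.ZZ Ω, ∃ F, Frm (RG.ZZ Ω) (RR Ω) F ∧ ∃ A ∈ F, z ∈ A)
    (gold : Cit.ROne.Gold ↥(generalizedFittingSubgroup G)) (hB : CloEnd.Bend ↥(generalizedFittingSubgroup G))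
    (h75 : CloEnd.Crit1175 ↥(generalizedFittingSubgroup G))
    (blk : ∀ F, Frm (RG.ZZ Ω) (RR Ω) F → ∀ A ∈ F, (∀ a ∈ A, ∀ b ∈ A, ¬ CP (RR Ω) a b) → BlkD Ω A ∧ BlkQ Ω A) :
    False := by
  have hyp := w.t0.hyp
  have gw : GW (RG.ZZ Ω) (RR Ω) := GW.of_wr h.wr hyp
  have cn : CnZ (RG.ZZ Ω) (RR Ω) := CnZ.of_wr h.wr
  have cf2 : ∀ z ∈ RG.ZZ Ω, ∀ u ∈ RG.ZZ Ω, CP (RR Ω) z u → ∀ N : Subgroup G,
      N ≤ centralizer {z * u} → centralizer {z * u} ≤ normalizer (N : Set G) → Odd (Nat.card N) → N = ⊥ := by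
    intro z hz u hu hc N h1 h2 h3
    have hcm := gw.comm_of_cp hz hu hc
    refine odd_eq_bot' core ?_ (gw.cp_mul_ne hu hc) h1 h2 h3
    calc z * u * (z * u) = z * (u * z) * u := by group
      _ = z * (z * u) * u := by rw [hcm]
      _ = (z * z) * (u * u) := by group
      _ = 1 := by rw [gw.sq z hz, gw.sq u hu, one_mul]
  have p : PW (RG.ZZ Ω) (RR Ω) := ⟨gw, tp, fr, fun z hz N h1 h2 h3 =>
    odd_eq_bot' core (gw.sq z hz) (gw.ne z hz) h1 h2 h3⟩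
  have f := p.fram h cf2 blk
  have m2 : ∀ S : Sylow 2 G, MTwo (RG.ZZ Ω) (RR Ω) (S : Subgroup G) := fun S => f.mTwo gw S cf2
  obtain ⟨K₁, hK₁, -⟩ := w.two
  have hz : zz K₁ ∈ RG.ZZ Ω := ⟨K₁, hK₁, rfl⟩
  obtain ⟨z, hze⟩ : ∃ z, z = zz K₁ := ⟨_, rfl⟩
  rw [← hze] at hz
  have pe := PE.of_fram h gw tp f hz m2
  have hev := SCMain.even w
  have hfs := SCMain.fsimp w
  have sg : ∀ x, x ∈ RG.ZZ Ω ∩ (f.MM hz : Set G) → x ∈ sgOf (RG.ZZ Ω) (RR Ω) z := fun x hx => f.mem_of_MM hz hx.1 hx.2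
  have gs : ∀ x, x ∈ sgOf (RG.ZZ Ω) (RR Ω) z → x ∈ RG.ZZ Ω ∩ (f.MM hz : Set G) := fun x hx =>
    ⟨f.mem_Z hz hx, f.mem_MM_of_comm hz hx rfl⟩
  -- the blocks
  have hbl : (∀ x ∈ RG.ZZ Ω ∩ f.MM hz, ∀ y ∈ RG.ZZ Ω ∩ f.MM hz, y ∈ klOf (RG.ZZ Ω) (RR Ω) x → ¬ CP (RR Ω) x y) →
      ∀ v ∈ RG.ZZ Ω ∩ f.MM hz, Blk Ω (klOf (RG.ZZ Ω) (RR Ω) v) ∧ SBlk (PB Ω (klOf (RG.ZZ Ω) (RR Ω) v)) ∧
        klOf (RG.ZZ Ω) (RR Ω) v ⊆ RG.ZZ Ω ∩ (f.MM hz : Set G) := by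
    intro hn v hv
    obtain ⟨F, fF, A, hA, hvA⟩ := fr v hv.1
    have e1 := klOf_eq gw fF hA hvA
    have hsub : klOf (RG.ZZ Ω) (RR Ω) v ⊆ RG.ZZ Ω ∩ (f.MM hz : Set G) := fun y hy => gs y (f.kl_sub hz (sg v hv) hy)
    have b : Blk Ω A := fF.blk h gw hA fun a ha c hc => hn a (hsub (by rw [e1]; exact ha)) c (hsub (by rw [e1]; exact hc))
      (by rw [klOf_eq gw fF hA ha]; exact hc)
    refine ⟨by rw [e1]; exact b, ?_, hsub⟩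
    rw [e1]
    exact blkW_of_frm b fF hA core c3 w.three
  refine pe.false_of cls c3 hfs hev gold hB h75 ?_ ?_
  · -- (PP)
    intro hn x hx y hy hxy hne hc hs
    obtain ⟨b, bw, hsub⟩ := hbl hn x hx
    obtain ⟨-, n, h1, h2⟩ := secW_of i b bw (f.self x hx.1) hxy hne hc hs
    exact ⟨n, hsub h1, h1, h2⟩
  · -- LEMMA E'
    rintro hn ⟨x, hx, y, hy, hxy, hne, hc, hs⟩ e hee he1 ⟨n, hn1, n', hn2, hnn, he, he'⟩ dec
    have hsec : ∀ v ∈ RG.ZZ Ω, v ∈ f.MM hz → v ∈ klOf (RG.ZZ Ω) (RR Ω) v ∧ Blk Ω (klOf (RG.ZZ Ω) (RR Ω) v) ∧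
        SecW (PB Ω (klOf (RG.ZZ Ω) (RR Ω) v)) := by
      intro v hv hvM
      obtain ⟨b, bw, hsub⟩ := hbl hn v ⟨hv, hvM⟩
      refine ⟨f.self v hv, b, ?_⟩
      obtain ⟨g, rfl⟩ := cls.oneCl h x v hx.1 hv
      have h1 := hs.conj hyp g
      have h2 := klOf_conj gw g hxy
      exact (secW_of i b bw (f.self _ hv) h2 (fun e => hne (mul_left_cancel (mul_right_cancel e)))
        (by calc g * x * g⁻¹ * (g * y * g⁻¹) = g * (x * y) * g⁻¹ := by group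
              _ = g * (y * x) * g⁻¹ := by rw [hc]
              _ = _ := by group) h1).1
    have hT : TPs (RG.ZZ Ω) (RR Ω) e := by
      refine tps_of_blk w core (M := f.MM hz) (Kl := klOf (RG.ZZ Ω) (RR Ω)) hee he1 ?_ hn1.1 hn1.2 he hsec ?_
      · exact fun S x hx hxM hxS => pe.syl S x ⟨hx, hxM⟩ hxS
      · intro v hv hvM
        obtain ⟨b, bw, hsub⟩ := hbl hn v ⟨hv, hvM⟩
        obtain ⟨e', h1, h2, h3⟩ := dec v ⟨hv, hvM⟩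
        rw [bg_eq (f.MM hz) hsub (fun x _ => Iff.rfl)] at h1 h3
        exact ⟨e', h1, h2, h3⟩
    exact f.cent_le_of_tps gw (fun S => tp.tps S) m2 hz (sg n hn1) (sg n' hn2) hnn he he' hT

end main

end Cfsg.Agent.Cit.Nil.CompR
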