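import Cfsg.Agent.Cit.Nil.CompR.World
import Cfsg.Agent.Cit.Nil.RTwoM.EndX
import Cfsg.Agent.Cit.Nil.RTwoM.L1.Bridge
import Cfsg.Agent.Cit.Nil.RTwoM.L1.Strong
import Cfsg.Agent.Cit.Nil.ROne.Strong
import Cfsg.Agent.Cit.Nil.ROne.EndG0
import Cfsg.Agent.Cit.CorTwo
import Cfsg.Agent.TwoFusion.StronglyEmbeddedBasic

/-!
# S1309 (6b), COMP, `r = 2`, the product situation: the end (helper815), (F5), piece (T1) of helper531's text

Port of `Comp/ProdEnd.lean` (`r = 1`) to points and `R_z`.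

* `PG Z K M Bl` : the product situation over `GW Z K` (any `r`): `M` the stabiliser of a frame, `Z ∩ M` its points,
  `Bl x y` : `x` and `y` are in the same block;
* `PG.exists_closed` : there is a C-pair inside a block: a strongly closed subgroup of `T_S`;
* `PG.exists_strong` : there is none, (PP) and LEMMA E' (`PPd`, `EEd`): the criterion `Crit1175`;
* `PE Om M Bl`, `BG Om M Bl v`, `SwP Om x y` : `r = 2`; **`PE.false_of`**.
-/

set_option autoImplicit false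
set_option linter.style.haveILetI false
set_option linter.unusedSectionVars false

namespace Cfsg.Agent.Cit.Nil.CompR

open Subgroup Cfsg Cfsg.Agent.Cit Cfsg.Agent.Cit.Nil.AN
open Cfsg.Agent.Cit.Nil.ROne (CP CS TT FSimp exists_sylow_subgroupOf)

variable {G : Type*} [Group G]

/-! ### The product situation, world-free form -/

/-- the product situation, world-free form: `M` the stabiliser of a frame, `Z ∩ M` the points of the frame,
`Bl x y` : same block -/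
structure PG (Z : Set G) (K : G → Subgroup G) (M : Subgroup G) (Bl : G → G → Prop) : Prop where
  w : GW Z K
  refl : ∀ x ∈ Z ∩ M, Bl x x
  symm : ∀ x ∈ Z ∩ M, ∀ y ∈ Z ∩ M, Bl x y → Bl y x
  trans : ∀ x ∈ Z ∩ M, ∀ y ∈ Z ∩ M, ∀ v ∈ Z ∩ M, Bl x y → Bl y v → Bl x v
  conj : ∀ g ∈ M, ∀ x ∈ Z ∩ M, ∀ y ∈ Z ∩ M, Bl x y → Bl (g * x * g⁻¹) (g * y * g⁻¹)
  /-- different classes commute -/
  cm : ∀ x ∈ Z ∩ M, ∀ y ∈ Z ∩ M, ¬ Bl x y → ∀ a ∈ K x, ∀ b ∈ K y, a * b = b * a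
  two : ∃ x ∈ Z ∩ M, ∃ y ∈ Z ∩ M, ¬ Bl x y
  ntr : ∀ x ∈ Z ∩ M, ∃ y ∈ Z ∩ M, Bl x y ∧ x ≠ y
  /-- the classes are `ONE` -/
  one : ∀ x ∈ Z ∩ M, ∀ y ∈ Z ∩ M, Bl x y → CP K x y → ∀ v ∈ Z ∩ M, Bl x v → Ce (x * y) (K v)
  mem : ∀ x ∈ Z ∩ M, ∀ g, g * x * g⁻¹ ∈ M → g ∈ M
  syl : ∀ S : Sylow 2 G, ∀ x ∈ Z ∩ M, K x ≤ (S : Subgroup G) → (S : Subgroup G) ≤ M
  cen : ∀ S : Sylow 2 G, (S : Subgroup G) ≤ M → ∀ s ∈ TT Z K (S : Subgroup G), s ≠ 1 → ∀ c, c * s = s * c → c ∈ M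
  mem' : ∀ S : Sylow 2 G, (S : Subgroup G) ≤ M → ∀ s ∈ TT Z K (S : Subgroup G), s ≠ 1 →
    ∀ g, g * s * g⁻¹ ∈ M → g ∈ M

namespace PG

variable {Z : Set G} {K : G → Subgroup G} {M : Subgroup G} {Bl : G → G → Prop} {x y v g b c k : G}
  (p : PG Z K M Bl)

include p

theorem conj_mem_K (hx : x ∈ Z) (g : G) (hk : k ∈ K x) : g * k * g⁻¹ ∈ K (g * x * g⁻¹) := by
  rw [p.w.conjK x hx g]
  exact conj_mem_cj hk

theorem cp_conj (hx : x ∈ Z) (hy : y ∈ Z) (hc : CP K x y) (g : G) : CP K (g * x * g⁻¹) (g * y * g⁻¹) := by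
  refine ⟨fun h1 => hc.1 (mul_left_cancel (mul_right_cancel h1)), fun a ha b hb => ?_⟩
  rw [p.w.conjK x hx g, mem_cj] at ha
  rw [p.w.conjK y hy g, mem_cj] at hb
  have h1 := hc.2 _ ha _ hb
  calc a * b = g * ((g⁻¹ * a * g) * (g⁻¹ * b * g)) * g⁻¹ := by group
    _ = g * ((g⁻¹ * b * g) * (g⁻¹ * a * g)) * g⁻¹ := by rw [h1]
    _ = b * a := by group

theorem conj_mem (hx : x ∈ Z ∩ M) (hg : g ∈ M) : g * x * g⁻¹ ∈ Z ∩ M :=
  ⟨p.w.conjZ x hx.1 g, M.mul_mem (M.mul_mem hg hx.2) (M.inv_mem hg)⟩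

/-- `C(x) ≤ M` -/
theorem mem_of_comm (hx : x ∈ Z ∩ M) (hg : g * x = x * g) : g ∈ M :=
  p.mem x hx g (by rw [hg, mul_inv_cancel_right]; exact hx.2)

theorem K_le (hx : x ∈ Z ∩ M) : K x ≤ M := fun _ hk => p.mem_of_comm hx (p.w.cent hx.1 hk)

/-- elements of a member preserve the classes -/
theorem bl_K (hx : x ∈ Z ∩ M) (hv : v ∈ Z ∩ M) (hk : k ∈ K x) : Bl v (k * v * k⁻¹) := by
  have hkM := p.K_le hx hk
  by_cases h1 : Bl x v
  · have h2 := p.conj k hkM x hx v hv h1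
    rw [p.w.cent hx.1 hk, mul_inv_cancel_right] at h2
    exact p.trans v hv x hx _ (p.conj_mem hv hkM) (p.symm x hx v hv h1) h2
  · have h2 := p.cm x hx v hv h1 k hk v (p.w.mem v hv.1)
    rw [h2, mul_inv_cancel_right]
    exact p.refl v hv

/-- the group generated by the members of the frame -/
def BB (Z : Set G) (K : G → Subgroup G) (M : Subgroup G) : Subgroup G := closure {k | ∃ x ∈ Z ∩ M, k ∈ K x}

theorem K_le_BB (hx : x ∈ Z ∩ M) : K x ≤ BB Z K M := fun _ hk => subset_closure ⟨x, hx, hk⟩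

theorem BB_le : BB Z K M ≤ M := (closure_le _).2 fun _ ⟨_, hx, hk⟩ => p.K_le hx hk

theorem bl_BB (hb : b ∈ BB Z K M) : ∀ v ∈ Z ∩ M, Bl v (b * v * b⁻¹) := by
  have key : ∀ b ∈ BB Z K M, b ∈ M ∧ ∀ v ∈ Z ∩ M, Bl v (b * v * b⁻¹) := by
    intro b hb
    refine ⟨p.BB_le hb, ?_⟩
    rw [BB] at hb
    induction hb using closure_induction with
    | mem b hb =>
      obtain ⟨x, hx, hk⟩ := hb
      exact fun v hv => p.bl_K hx hv hk
    | one =>
      intro v hv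
      rw [one_mul, inv_one, mul_one]
      exact p.refl v hv
    | mul a b ha hb h1 h2 =>
      intro v hv
      have hbM : b ∈ M := p.BB_le hb
      have haM : a ∈ M := p.BB_le ha
      have e : a * b * v * (a * b)⁻¹ = a * (b * v * b⁻¹) * a⁻¹ := by group
      rw [e]
      exact p.trans v hv _ (p.conj_mem hv hbM) _ (p.conj_mem (p.conj_mem hv hbM) haM) (h2 v hv)
        (h1 _ (p.conj_mem hv hbM))
    | inv a ha h1 =>
      intro v hv
      have haM : a⁻¹ ∈ M := M.inv_mem (p.BB_le ha)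
      have h2 := h1 _ (p.conj_mem hv haM)
      have e : a * (a⁻¹ * v * a⁻¹⁻¹) * a⁻¹ = v := by group
      rw [e] at h2
      exact p.symm _ (p.conj_mem hv haM) v hv h2
  exact (key b hb).2

/-- `M` normalises the group generated by the members -/
theorem conj_BB (hg : g ∈ M) (hb : b ∈ BB Z K M) : g * b * g⁻¹ ∈ BB Z K M := by
  have h1 : BB Z K M ≤ (BB Z K M).comap (MulAut.conj g).toMonoidHom := by
    refine (closure_le _).2 ?_
    rintro k ⟨x, hx, hk⟩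
    exact subset_closure ⟨g * x * g⁻¹, p.conj_mem hx hg, p.conj_mem_K hx.1 g hk⟩
  exact h1 hb

/-- `G0` is not contained in `M` -/
theorem not_le {G0 : Subgroup G} (f : FSimp G0) : ¬ G0 ≤ M := by
  intro hG
  obtain ⟨x, hx, y, hy, hxy⟩ := p.two
  have h1 : G0 ≤ BB Z K M := by
    refine f.le (fun g hg n hn => p.conj_BB (hG hg) hn) fun h1 => p.w.ne x hx.1 ?_
    have h2 := p.K_le_BB hx (p.w.mem x hx.1)
    rw [h1] at h2
    exact h2
  have key : ∀ x ∈ Z ∩ M, G0 ≤ closure {k | ∃ v ∈ Z ∩ M, Bl x v ∧ k ∈ K v} := by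
    intro x hx
    refine f.le (fun g hg n hn => ?_) fun h1 => p.w.ne x hx.1 ?_
    · have h2 : closure {k | ∃ v ∈ Z ∩ M, Bl x v ∧ k ∈ K v} ≤
          (closure {k | ∃ v ∈ Z ∩ M, Bl x v ∧ k ∈ K v}).comap (MulAut.conj g).toMonoidHom := by
        refine (closure_le _).2 ?_
        rintro k ⟨v, hv, hxv, hk⟩
        exact subset_closure ⟨g * v * g⁻¹, p.conj_mem hv (hG hg),
          p.trans x hx v hv _ (p.conj_mem hv (hG hg)) hxv (p.bl_BB (h1 hg) v hv), p.conj_mem_K hv.1 g hk⟩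
      exact h2 hn
    · have h2 : x ∈ closure {k | ∃ v ∈ Z ∩ M, Bl x v ∧ k ∈ K v} :=
        subset_closure ⟨x, hx, p.refl x hx, p.w.mem x hx.1⟩
      rw [h1] at h2
      exact h2
  refine f.na fun a ha b hb => ?_
  have ha' := key x hx ha
  have hb' := key y hy hb
  -- the two groups commute
  have h2 : closure {k | ∃ v ∈ Z ∩ M, Bl x v ∧ k ∈ K v} ≤ centralizer {k | ∃ v ∈ Z ∩ M, Bl y v ∧ k ∈ K v} := by
    refine (closure_le _).2 ?_
    rintro k ⟨v, hv, hxv, hk⟩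
    rw [SetLike.mem_coe, mem_centralizer_iff]
    rintro l ⟨u, hu, hyu, hl⟩
    refine p.cm u hu v hv (fun h3 => hxy ?_) l hl k hk
    exact p.trans x hx v hv y hy hxv (p.trans v hv u hu y hy (p.symm u hu v hv h3) (p.symm y hy u hu hyu))
  have h3 : closure {k | ∃ v ∈ Z ∩ M, Bl y v ∧ k ∈ K v} ≤ centralizer {a} := by
    refine (closure_le _).2 fun l hl => mem_centralizer_singleton_iff.2 ?_
    exact mem_centralizer_iff.1 (h2 ha') l hl
  exact (mem_centralizer_singleton_iff.1 (h3 hb')).symm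

section fin

variable [Finite G]

/-- a 2-subgroup of `BB` goes into `S` by an element of `BB` -/
theorem exists_cj_BB (S : Sylow 2 G) (hS : (S : Subgroup G) ≤ M) {R : Subgroup G} (hR : IsPGroup 2 R)
    (hRB : R ≤ BB Z K M) : ∃ b ∈ BB Z K M, cj b R ≤ (S : Subgroup G) := by
  obtain ⟨T, hT, hRT⟩ := exists_syl_ge hR hRB
  obtain ⟨m, hm, hmS⟩ := ROne.Strong.exists_cj_le S hS hT.2.1 (hT.1.trans p.BB_le)
  have hBm : cj m (BB Z K M) = BB Z K M := by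
    have key : ∀ m ∈ M, cj m (BB Z K M) ≤ BB Z K M := by
      intro m hm a ha
      have h1 := p.conj_BB hm (mem_cj.1 ha)
      have e : m * (m⁻¹ * a * m) * m⁻¹ = a := by group
      rwa [e] at h1
    refine le_antisymm (key m hm) ?_
    have h1 := cj_mono m (key m⁻¹ (M.inv_mem hm))
    rwa [cj_cj_inv] at h1
  have h1 : Syl (cj m T) (BB Z K M) := by
    have h2 := hT.cj m
    rwa [hBm] at h2
  obtain ⟨b, hb, hbT⟩ := hT.exists_conj h1
  exact ⟨b, hb, (cj_mono b hRT).trans (hbT.le.trans hmS)⟩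

/-- every class meets `C_S` -/
theorem exists_mem_CS (S : Sylow 2 G) (hS : (S : Subgroup G) ≤ M) (hx : x ∈ Z ∩ M) :
    ∃ v ∈ CS Z K (S : Subgroup G), Bl x v := by
  obtain ⟨b, hb, hbS⟩ := p.exists_cj_BB S hS (p.w.two hx.1) (p.K_le_BB hx)
  refine ⟨b * x * b⁻¹, ⟨p.w.conjZ x hx.1 b, ?_⟩, p.bl_BB hb x hx⟩
  rw [p.w.conjK x hx.1]
  exact hbS

theorem CS_sub (S : Sylow 2 G) (hS : (S : Subgroup G) ≤ M) (hv : v ∈ CS Z K (S : Subgroup G)) : v ∈ Z ∩ M :=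
  ⟨hv.1, hS (hv.2 (p.w.mem v hv.1))⟩

theorem exists_sylow : ∃ S : Sylow 2 G, (S : Subgroup G) ≤ M := by
  obtain ⟨x, hx, -⟩ := p.two
  obtain ⟨S, hS⟩ := p.w.exists_sylow hx.1
  exact ⟨S, p.syl S x hx hS.2⟩

theorem exists_ne (S : Sylow 2 G) (hS : (S : Subgroup G) ≤ M) :
    ∃ z ∈ CS Z K (S : Subgroup G), ∃ u ∈ CS Z K (S : Subgroup G), z ≠ u := by
  obtain ⟨x, hx, y, hy, hxy⟩ := p.two
  obtain ⟨z, hz, hxz⟩ := p.exists_mem_CS S hS hx
  obtain ⟨u, hu, hyu⟩ := p.exists_mem_CS S hS hy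
  refine ⟨z, hz, u, hu, ?_⟩
  rintro rfl
  exact hxy (p.trans x hx z (p.CS_sub S hS hz) y hy hxz (p.symm y hy z (p.CS_sub S hS hz) hyu))

theorem CS_conj (S : Sylow 2 G) {s z : G} (hs : s ∈ (S : Subgroup G)) (hz : z ∈ CS Z K (S : Subgroup G)) :
    s * z * s⁻¹ ∈ CS Z K (S : Subgroup G) := by
  have h1 := (p.w.cj_CS s (S : Subgroup G) hz.1).2 hz
  rwa [mem_normalizer_iff_cj.1 (le_normalizer hs)] at h1

theorem com (S : Sylow 2 G) {z u : G} (hz : z ∈ CS Z K (S : Subgroup G)) (hu : u ∈ CS Z K (S : Subgroup G))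
    (hne : z ≠ u) : CP K z u := p.w.com S S.isPGroup' hz.1 hu.1 hz.2 hu.2 hne

/-! ### A C-pair inside a class -/

/-- products of C-pairs inside a class are central in `BB` -/
theorem cen_mul (hx : x ∈ Z ∩ M) (hy : y ∈ Z ∩ M) (hxy : Bl x y) (hc : CP K x y) (hb : b ∈ BB Z K M) :
    b * (x * y) * b⁻¹ = x * y := by
  have h1 : BB Z K M ≤ centralizer {x * y} := by
    refine (closure_le _).2 ?_
    rintro k ⟨v, hv, hk⟩
    rw [SetLike.mem_coe, mem_centralizer_singleton_iff]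
    by_cases h1 : Bl x v
    · exact (p.one x hx y hy hxy hc v hv h1 k hk).symm
    · have h2 : ¬ Bl y v := fun h2 => h1 (p.trans x hx y hy v hv hxy h2)
      have h3 := p.cm x hx v hv h1 x (p.w.mem x hx.1) k hk
      have h4 := p.cm y hy v hv h2 y (p.w.mem y hy.1) k hk
      rw [← mul_assoc, ← h3, mul_assoc, ← h4, mul_assoc]
  rw [mem_centralizer_singleton_iff.1 (h1 hb), mul_inv_cancel_right]

theorem mul_mem_TT (S : Sylow 2 G) (hS : (S : Subgroup G) ≤ M) (hx : x ∈ Z ∩ M) (hy : y ∈ Z ∩ M) (hxy : Bl x y)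
    (hc : CP K x y) : x * y ∈ TT Z K (S : Subgroup G) := by
  classical
  have hR : IsPGroup 2 (⨆ z ∈ ({x, y} : Finset G), K z : Subgroup G) := by
    refine p.w.isPGroup_clique _ ?_ ?_
    · intro z hz
      rw [Finset.mem_insert, Finset.mem_singleton] at hz
      rcases hz with rfl | rfl
      · exact hx.1
      · exact hy.1
    · intro z hz u hu hne
      rw [Finset.mem_insert, Finset.mem_singleton] at hz hu
      rcases hz with rfl | rfl <;> rcases hu with rfl | rfl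
      · exact absurd rfl hne
      · exact hc
      · exact hc.symm
      · exact absurd rfl hne
  obtain ⟨b, hb, hbS⟩ := p.exists_cj_BB S hS hR (by
    refine iSup₂_le fun z hz => ?_
    rw [Finset.mem_insert, Finset.mem_singleton] at hz
    rcases hz with rfl | rfl
    · exact p.K_le_BB hx
    · exact p.K_le_BB hy)
  have key : ∀ z ∈ ({x, y} : Finset G), z ∈ Z → b * z * b⁻¹ ∈ CS Z K (S : Subgroup G) := by
    intro z hz hzZ
    refine ⟨p.w.conjZ z hzZ b, ?_⟩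
    rw [p.w.conjK z hzZ]
    exact (cj_mono b (le_iSup₂ (f := fun z (_ : z ∈ ({x, y} : Finset G)) => K z) z hz)).trans hbS
  rw [← p.cen_mul hx hy hxy hc hb]
  have e : b * (x * y) * b⁻¹ = b * x * b⁻¹ * (b * y * b⁻¹) := by group
  rw [e]
  exact mul_mem (subset_closure (key x (by simp) hx.1)) (subset_closure (key y (by simp) hy.1))

/-- **Case 1**, the strongly closed subgroup -/
theorem exists_closed (hdat : RTwoM.L1.Dat Z K) (hx : x ∈ Z ∩ M) (hy : y ∈ Z ∩ M) (hxy : Bl x y)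
    (hc : CP K x y) : ∃ S : Sylow 2 G, ∃ A : Subgroup G, A ≠ ⊥ ∧ A ≤ TT Z K (S : Subgroup G) ∧
      IsStronglyClosed A (S : Subgroup G) := by
  obtain ⟨S, hS⟩ := p.exists_sylow
  obtain ⟨z, hz, u, hu, hne⟩ := p.exists_ne S hS
  set A : Subgroup G := closure {t | ∃ x ∈ Z ∩ M, ∃ y ∈ Z ∩ M, Bl x y ∧ CP K x y ∧ t = x * y} with hA
  have hAT : A ≤ TT Z K (S : Subgroup G) := by
    rw [hA, closure_le]
    rintro t ⟨x, hx, y, hy, hxy, hc, rfl⟩
    exact p.mul_mem_TT S hS hx hy hxy hc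
  have hAM : M ≤ normalizer (A : Set G) := by
    have key : ∀ g ∈ M, A ≤ A.comap (MulAut.conj g).toMonoidHom := by
      intro g hg
      conv_lhs => rw [hA]
      rw [closure_le]
      rintro t ⟨x, hx, y, hy, hxy, hc, rfl⟩
      refine subset_closure ⟨g * x * g⁻¹, p.conj_mem hx hg, g * y * g⁻¹, p.conj_mem hy hg, p.conj g hg x hx y hy hxy,
        p.cp_conj hx.1 hy.1 hc g, ?_⟩
      change g * (x * y) * g⁻¹ = _
      group
    intro g hg
    rw [mem_normalizer_iff]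
    intro a
    refine ⟨fun ha => key g hg ha, fun ha => ?_⟩
    have h1 : g⁻¹ * (g * a * g⁻¹) * g⁻¹⁻¹ ∈ A := key g⁻¹ (inv_mem hg) ha
    have h2 : g⁻¹ * (g * a * g⁻¹) * g⁻¹⁻¹ = a := by group
    rwa [h2] at h1
  have hA1 : A ≠ ⊥ := by
    intro h1
    have h2 : x * y ∈ A := subset_closure ⟨x, hx, y, hy, hxy, hc, rfl⟩
    rw [h1] at h2
    exact p.w.cp_mul_ne hy.1 hc h2
  refine ⟨S, A, hA1, hAT, ?_⟩
  refine RTwoM.L1.strongB S hS (CS := CS Z K (S : Subgroup G)) ?_ (hdat S) ⟨z, hz⟩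
    (fun u hu x hx => p.mem u (p.CS_sub S hS hu) x hx)
    (fun s hs hs1 c hc => p.cen S hS s hs hs1 c hc) (hAT.trans p.w.TT_le) hAM
    (fun a ha => p.w.TT_sq S.isPGroup' (hAT ha)) ?_
  · exact fun v hv => hv.2 (p.w.mem v hv.1)
  · intro a ha ha1 R _ hR
    refine ⟨1, by rw [one_mul, mul_one], ?_⟩
    rw [cj_one]
    exact fun r hr => p.cen S hS a (hAT ha) ha1 r (hR r hr)

end fin

/-! ### No C-pair inside a class -/

omit p in
/-- reindexing -/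
theorem noncommProd_comp {ι β : Type*} [Fintype ι] [Monoid β] (e : ι ≃ ι) (f : ι → β)
    (h1 : ((Finset.univ : Finset ι) : Set ι).Pairwise (Function.onFun Commute fun i => f (e i)))
    (h2 : ((Finset.univ : Finset ι) : Set ι).Pairwise (Function.onFun Commute f)) :
    Finset.univ.noncommProd (fun i => f (e i)) h1 = Finset.univ.noncommProd f h2 := by
  have h3 : (Finset.univ : Finset ι).val.map (fun i => f (e i)) = (Finset.univ : Finset ι).val.map f := by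
    conv_rhs => rw [← Multiset.map_univ_val_equiv e, Multiset.map_map]
    rfl
  unfold Finset.noncommProd
  congr 1

/-- one element in each class -/
def Fam (Z : Set G) (M : Subgroup G) (Bl : G → G → Prop) {ι : Type*} (c : ι → G) : Prop :=
  (∀ i, c i ∈ Z ∩ M) ∧ ∀ i j, i ≠ j → ¬ Bl (c i) (c j)

section fam

variable {ι : Type*} [Fintype ι] {c d : ι → G}

theorem fam_comm (hc : Fam Z M Bl c) : ((Finset.univ : Finset ι) : Set ι).Pairwise (Function.onFun Commute c) :=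
  fun i _ j _ hij => p.cm _ (hc.1 i) _ (hc.1 j) (hc.2 i j hij) _ (p.w.mem _ (hc.1 i).1) _ (p.w.mem _ (hc.1 j).1)

theorem fam_split (hc : Fam Z M Bl c) (i : ι) : ∃ t, Finset.univ.noncommProd c (p.fam_comm hc) = c i * t ∧
    ∀ u ∈ Z ∩ M, Bl (c i) u → Ce t (K u) := by
  classical
  have hcom : (((Finset.univ : Finset ι).erase i : Finset ι) : Set ι).Pairwise (Function.onFun Commute c) :=
    (p.fam_comm hc).mono (fun _ _ => Finset.mem_coe.2 (Finset.mem_univ _))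
  refine ⟨((Finset.univ : Finset ι).erase i).noncommProd c hcom,
    (Finset.mul_noncommProd_erase Finset.univ (Finset.mem_univ i) c (p.fam_comm hc) hcom).symm, ?_⟩
  intro u hu hiu
  have h1 : ((Finset.univ : Finset ι).erase i).noncommProd c hcom ∈ centralizer (K u : Set G) := by
    refine Subgroup.noncommProd_mem _ _ fun j hj => mem_centralizer_iff.2 fun k hk => ?_
    refine (p.cm _ (hc.1 j) u hu (fun h1 => ?_) _ (p.w.mem _ (hc.1 j).1) k hk).symm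
    exact hc.2 i j (Finset.ne_of_mem_erase hj).symm
      (p.trans _ (hc.1 i) u hu _ (hc.1 j) hiu (p.symm _ (hc.1 j) u hu h1))
  exact fun k hk => (mem_centralizer_iff.1 h1 k hk).symm

/-- the two products, step 1: `c i` and `d i` commute -/
theorem fam_cd (hn : ∀ x ∈ Z ∩ M, ∀ y ∈ Z ∩ M, Bl x y → ¬ CP K x y) (hc : Fam Z M Bl c) (hd : Fam Z M Bl d)
    (hcd : ∀ i, Bl (c i) (d i)) {h k : G} (hh : h = Finset.univ.noncommProd c (p.fam_comm hc))
    (hk : k = Finset.univ.noncommProd d (p.fam_comm hd)) (hhk : h * k = k * h) (i : ι) :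
    c i * d i = d i * c i := by
  obtain ⟨s, hs, hs'⟩ := p.fam_split hc i
  obtain ⟨t, ht, ht'⟩ := p.fam_split hd i
  rw [← hh] at hs
  rw [← hk] at ht
  have hci := hc.1 i
  have hdi := hd.1 i
  have hdc : Bl (d i) (c i) := p.symm _ hci _ hdi (hcd i)
  have sc : s * c i = c i * s := hs' _ hci (p.refl _ hci) _ (p.w.mem _ hci.1)
  have sd : s * d i = d i * s := hs' _ hdi (hcd i) _ (p.w.mem _ hdi.1)
  have tc : t * c i = c i * t := ht' _ hci hdc _ (p.w.mem _ hci.1)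
  have td : t * d i = d i * t := ht' _ hdi (p.refl _ hdi) _ (p.w.mem _ hdi.1)
  -- `c d s t = d c t s`
  have e1 : c i * d i * (s * t) = d i * c i * (t * s) := by
    calc c i * d i * (s * t) = c i * (d i * s) * t := by group
      _ = c i * s * (d i * t) := by rw [← sd]; group
      _ = d i * t * (c i * s) := by rw [← hs, ← ht, hhk]
      _ = d i * (t * c i) * s := by group
      _ = _ := by rw [tc]; group
  set ζ := t * s * (s * t)⁻¹ with hζ
  have e2 : c i * d i = d i * c i * ζ := by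
    rw [hζ, ← mul_assoc, ← e1]; group
  have hζc : Ce ζ (K (c i)) := by
    have a1 : Ce s (K (c i)) := hs' _ hci (p.refl _ hci)
    have a2 : Ce t (K (c i)) := ht' _ hci hdc
    exact (a2.mul a1).mul (a1.mul a2).inv
  -- `v' = d⁻¹ c d`
  have hdM : (d i)⁻¹ ∈ M := M.inv_mem hdi.2
  have e3 : (d i)⁻¹ * c i * (d i)⁻¹⁻¹ = c i * ζ := by
    rw [inv_inv, mul_assoc, e2]; group
  have hv := p.conj_mem hci hdM
  have hbl : Bl (c i) ((d i)⁻¹ * c i * (d i)⁻¹⁻¹) := by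
    have h2 := p.conj _ hdM _ hdi _ hci hdc
    rw [inv_mul_cancel, one_mul, inv_inv] at h2
    rw [inv_inv]
    rw [inv_inv] at hv
    exact p.trans _ hci _ hdi _ hv (hcd i) h2
  have hcen : Ce ((d i)⁻¹ * c i * (d i)⁻¹⁻¹) (K (c i)) := by
    rw [e3]
    exact Ce.mul (fun k hk => (p.w.cent hci.1 hk).symm) hζc
  rcases (p.w.cen_iff hci.1 hv.1).1 hcen with h2 | h2
  · have h3 : c i = (d i)⁻¹ * c i * d i := by rwa [inv_inv] at h2
    calc c i * d i = (d i) * ((d i)⁻¹ * c i * d i) := by group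
      _ = d i * c i := by rw [← h3]
  · exact absurd h2 (hn _ hci _ hv hbl)

/-- the two products: `h k = c i d i r`, `r` centralises the block of `c i` -/
theorem fam_mul (hc : Fam Z M Bl c) (hd : Fam Z M Bl d) (hcd : ∀ i, Bl (c i) (d i)) {h k : G}
    (hh : h = Finset.univ.noncommProd c (p.fam_comm hc)) (hk : k = Finset.univ.noncommProd d (p.fam_comm hd)) (i : ι) :
    ∃ r, h * k = c i * d i * r ∧ ∀ u ∈ Z ∩ M, Bl (c i) u → Ce r (K u) := by
  obtain ⟨s, hs, hs'⟩ := p.fam_split hc i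
  obtain ⟨t, ht, ht'⟩ := p.fam_split hd i
  rw [← hh] at hs
  rw [← hk] at ht
  have hci := hc.1 i
  have hdi := hd.1 i
  have hdc : Bl (d i) (c i) := p.symm _ hci _ hdi (hcd i)
  have sd : s * d i = d i * s := hs' _ hdi (hcd i) _ (p.w.mem _ hdi.1)
  refine ⟨s * t, ?_, fun u hu hiu => (hs' u hu hiu).mul (ht' u hu (p.trans _ hdi _ hci u hu hdc hiu))⟩
  rw [hs, ht]
  calc c i * s * (d i * t) = c i * (s * d i) * t := by group
    _ = c i * (d i * s) * t := by rw [sd]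
    _ = _ := by group

end fam

end PG

end Cfsg.Agent.Cit.Nil.CompR

namespace Cfsg.Agent.Cit.Nil.CompR

open Subgroup Cfsg Cfsg.Agent.Cit Cfsg.Agent.Cit.Nil.AN
open Cfsg.Agent.Cit.Nil.ROne (CP CS TT FSimp exists_sylow_subgroupOf)

variable {G : Type*} [Group G]

/-- the group of the block of `v` -/
def BGz (Z : Set G) (K : G → Subgroup G) (M : Subgroup G) (Bl : G → G → Prop) (v : G) : Subgroup G :=
  closure {k | ∃ x ∈ Z ∩ M, Bl v x ∧ k ∈ K x}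

/-- two commuting points of a block: the product is a point of the block or `Sw` -/
def PRd (Z : Set G) (M : Subgroup G) (Bl Sw : G → G → Prop) : Prop :=
  ∀ x ∈ Z ∩ M, ∀ y ∈ Z ∩ M, Bl x y → x ≠ y → x * y = y * x → (x * y ∈ Z ∩ M ∧ Bl x (x * y)) ∨ Sw x y

/-- (PP) -/
def PPd (Z : Set G) (K : G → Subgroup G) (M : Subgroup G) (Bl Sw : G → G → Prop) : Prop :=
  ∀ x ∈ Z ∩ M, ∀ y ∈ Z ∩ M, Bl x y → x ≠ y → x * y = y * x → Sw x y → ∃ n ∈ Z ∩ M, Bl x n ∧ Ce (x * y) (K n)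

/-- LEMMA E' -/
def EEd (Z : Set G) (K : G → Subgroup G) (M : Subgroup G) (Bl Sw : G → G → Prop) : Prop :=
  (∃ x ∈ Z ∩ M, ∃ y ∈ Z ∩ M, Bl x y ∧ x ≠ y ∧ x * y = y * x ∧ Sw x y) → ∀ e, e * e = 1 → e ≠ 1 →
    (∃ n ∈ Z ∩ M, ∃ n' ∈ Z ∩ M, ¬ Bl n n' ∧ Ce e (K n) ∧ Ce e (K n')) →
    (∀ v ∈ Z ∩ M, ∃ e' ∈ BGz Z K M Bl v, e' * e' = 1 ∧ ∀ b ∈ BGz Z K M Bl v, e * b * e⁻¹ = e' * b * e'⁻¹) →
    ∀ g, g * e = e * g → g ∈ M

namespace PG

variable {Z : Set G} {K : G → Subgroup G} {M : Subgroup G} {Bl Sw : G → G → Prop} {x y v g b c k : G}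
  (p : PG Z K M Bl)

include p

section fam

variable {ι : Type*} [Fintype ι] {c d : ι → G}

/-- the two products, no factor `Sw` -/
theorem fam_none [Finite G] (hc : Fam Z M Bl c) (hd : Fam Z M Bl d) (hcd : ∀ i, Bl (c i) (d i)) {h k : G}
    (hh : h = Finset.univ.noncommProd c (p.fam_comm hc)) (hk : k = Finset.univ.noncommProd d (p.fam_comm hd))
    (hne : h * k ≠ 1) (h2 : ∀ i, c i * d i ≠ 1 → c i * d i ∈ Z ∩ M ∧ Bl (c i) (c i * d i)) :
    ∀ g, g * (h * k) = h * k * g → g ∈ M := by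
  classical
  have h3 : ∀ i j, i ≠ j → c i * d i ≠ 1 → c j * d j ≠ 1 → ¬ Bl (c i * d i) (c j * d j) := by
    intro i j hij hi hj h3
    obtain ⟨a1, a2⟩ := h2 i hi
    obtain ⟨b1, b2⟩ := h2 j hj
    exact hc.2 i j hij (p.trans _ (hc.1 i) _ a1 _ (hc.1 j) a2
      (p.trans _ a1 _ b1 _ (hc.1 j) h3 (p.symm _ (hc.1 j) _ b1 b2)))
  -- the product
  have comm_gf : ((Finset.univ : Finset ι) : Set ι).Pairwise fun i j => Commute (d i) (c j) := by
    intro i _ j _ hij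
    refine p.cm _ (hd.1 i) _ (hc.1 j) (fun h4 => ?_) _ (p.w.mem _ (hd.1 i).1) _ (p.w.mem _ (hc.1 j).1)
    exact hc.2 i j hij (p.trans _ (hc.1 i) _ (hd.1 i) _ (hc.1 j) (hcd i) h4)
  have hprod : h * k = Finset.univ.noncommProd (c * d)
      (Finset.noncommProd_mul_distrib_aux (p.fam_comm hc) (p.fam_comm hd) comm_gf) := by
    rw [Finset.noncommProd_mul_distrib c d (p.fam_comm hc) (p.fam_comm hd) comm_gf, hh, hk]
  -- a Sylow subgroup
  let A : Finset G := (Finset.univ.image (fun i => c i * d i)).filter (· ≠ 1)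
  have hA : ∀ a ∈ A, ∃ i, a = c i * d i ∧ c i * d i ≠ 1 := by
    intro a ha
    rw [Finset.mem_filter, Finset.mem_image] at ha
    obtain ⟨⟨i, -, rfl⟩, h4⟩ := ha
    exact ⟨i, rfl, h4⟩
  have hmem : ∀ i, c i * d i ≠ 1 → c i * d i ∈ A := fun i hi =>
    Finset.mem_filter.2 ⟨Finset.mem_image.2 ⟨i, Finset.mem_univ i, rfl⟩, hi⟩
  obtain ⟨S, hS⟩ := (p.w.isPGroup_clique A (by
    intro a ha
    obtain ⟨i, rfl, hi⟩ := hA a ha
    exact (h2 i hi).1.1) (by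
    intro a ha b hb hab
    obtain ⟨i, rfl, hi⟩ := hA a ha
    obtain ⟨j, rfl, hj⟩ := hA b hb
    refine ⟨hab, p.cm _ (h2 i hi).1 _ (h2 j hj).1 (h3 i j ?_ hi hj)⟩
    rintro rfl
    exact hab rfl)).exists_le_sylow
  have hCS : ∀ i, c i * d i ≠ 1 → c i * d i ∈ CS Z K (S : Subgroup G) := fun i hi =>
    ⟨(h2 i hi).1.1, (le_iSup₂ (f := fun z (_ : z ∈ A) => K z) _ (hmem i hi)).trans hS⟩
  -- some factor is not `1`
  obtain ⟨i, hi⟩ : ∃ i, c i * d i ≠ 1 := by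
    by_contra hcon
    push Not at hcon
    apply hne
    rw [hprod]
    have h4 : Finset.univ.noncommProd (c * d)
        (Finset.noncommProd_mul_distrib_aux (p.fam_comm hc) (p.fam_comm hd) comm_gf) ∈ (⊥ : Subgroup G) :=
      Subgroup.noncommProd_mem _ _ fun i _ => mem_bot.2 (hcon i)
    exact mem_bot.1 h4
  have hSM := p.syl S _ (h2 i hi).1 (hCS i hi).2
  refine p.cen S hSM (h * k) ?_ hne
  rw [hprod]
  refine Subgroup.noncommProd_mem _ _ fun i _ => ?_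
  by_cases h4 : c i * d i = 1
  · change c i * d i ∈ _
    rw [h4]
    exact one_mem _
  · exact subset_closure (hCS i h4)

/-- two products -/
theorem fam_main [Finite G] (hn : ∀ x ∈ Z ∩ M, ∀ y ∈ Z ∩ M, Bl x y → ¬ CP K x y) (hpr : PRd Z M Bl Sw)
    (hpp : PPd Z K M Bl Sw) (hee : EEd Z K M Bl Sw) (hc : Fam Z M Bl c) (hd : Fam Z M Bl d)
    (hcd : ∀ i, Bl (c i) (d i)) {i0 j0 : ι} (hij0 : i0 ≠ j0) (hfull : ∀ v ∈ Z ∩ M, ∃ i, Bl (c i) v) {h k : G}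
    (hh : h = Finset.univ.noncommProd c (p.fam_comm hc)) (hk : k = Finset.univ.noncommProd d (p.fam_comm hd))
    (hhh : h * h = 1) (hkk : k * k = 1) (hhk : h * k = k * h) (hne : h * k ≠ 1) :
    ∀ g, g * (h * k) = h * k * g → g ∈ M := by
  classical
  have h1 : ∀ i, c i * d i = d i * c i := fun i => p.fam_cd hn hc hd hcd hh hk hhk i
  have hcne : ∀ i, c i * d i ≠ 1 → c i ≠ d i := by
    intro i hi h2
    rw [← h2] at hi
    exact hi (p.w.sq _ (hc.1 i).1)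
  by_cases hsw : ∃ i, c i * d i ≠ 1 ∧ Sw (c i) (d i)
  swap
  · push Not at hsw
    refine p.fam_none hc hd hcd hh hk hne fun i hi => ?_
    exact (hpr _ (hc.1 i) _ (hd.1 i) (hcd i) (hcne i hi) (h1 i)).resolve_right (hsw i hi)
  obtain ⟨i1, hi1, hs1⟩ := hsw
  refine hee ⟨c i1, hc.1 i1, d i1, hd.1 i1, hcd i1, hcne i1 hi1, h1 i1, hs1⟩ (h * k) ?_ hne ?_ ?_
  · calc h * k * (h * k) = h * (k * h) * k := by group
      _ = h * (h * k) * k := by rw [hhk]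
      _ = (h * h) * (k * k) := by group
      _ = 1 := by rw [hhh, hkk, one_mul]
  · -- the points `n i`
    have hni : ∀ i, ∃ n ∈ Z ∩ M, Bl (c i) n ∧ Ce (c i * d i) (K n) := by
      intro i
      by_cases hi : c i * d i = 1
      · refine ⟨c i, hc.1 i, p.refl _ (hc.1 i), ?_⟩
        rw [hi]
        exact Ce.one _
      rcases hpr _ (hc.1 i) _ (hd.1 i) (hcd i) (hcne i hi) (h1 i) with h2 | h2
      · exact ⟨c i * d i, h2.1, h2.2, fun k hk => (p.w.cent h2.1.1 hk).symm⟩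
      · exact hpp _ (hc.1 i) _ (hd.1 i) (hcd i) (hcne i hi) (h1 i) h2
    have hne' : ∀ i n, n ∈ Z ∩ M → Bl (c i) n → Ce (c i * d i) (K n) → Ce (h * k) (K n) := by
      intro i n hn hin hcn
      obtain ⟨r, hr, hr'⟩ := p.fam_mul hc hd hcd hh hk i
      rw [hr]
      exact hcn.mul (hr' n hn hin)
    obtain ⟨n, hn1, hn2, hn3⟩ := hni i0
    obtain ⟨m, hm1, hm2, hm3⟩ := hni j0
    refine ⟨n, hn1, m, hm1, fun h2 => hc.2 i0 j0 hij0 ?_, hne' i0 n hn1 hn2 hn3, hne' j0 m hm1 hm2 hm3⟩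
    exact p.trans _ (hc.1 i0) _ hn1 _ (hc.1 j0) hn2 (p.trans _ hn1 _ hm1 _ (hc.1 j0) h2 (p.symm _ (hc.1 j0) _ hm1 hm2))
  · intro v hv
    obtain ⟨i, hi⟩ := hfull v hv
    obtain ⟨r, hr, hr'⟩ := p.fam_mul hc hd hcd hh hk i
    have hvi := p.symm _ (hc.1 i) _ hv hi
    refine ⟨c i * d i, mul_mem (subset_closure ⟨c i, hc.1 i, hvi, p.w.mem _ (hc.1 i).1⟩)
      (subset_closure ⟨d i, hd.1 i, p.trans _ hv _ (hc.1 i) _ (hd.1 i) hvi (hcd i), p.w.mem _ (hd.1 i).1⟩), ?_, ?_⟩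
    · calc c i * d i * (c i * d i) = c i * (d i * c i) * d i := by group
        _ = c i * (c i * d i) * d i := by rw [h1 i]
        _ = (c i * c i) * (d i * d i) := by group
        _ = 1 := by rw [p.w.sq _ (hc.1 i).1, p.w.sq _ (hd.1 i).1, one_mul]
    · intro b hb
      have h2 : BGz Z K M Bl v ≤ centralizer {r} := by
        refine (closure_le _).2 ?_
        rintro k ⟨u, hu, hvu, hk⟩
        rw [SetLike.mem_coe, mem_centralizer_singleton_iff]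
        exact (hr' u hu (p.trans _ (hc.1 i) _ hv _ hu hi hvu) k hk).symm
      have h3 := mem_centralizer_singleton_iff.1 (h2 hb)
      rw [hr]
      calc c i * d i * r * b * (c i * d i * r)⁻¹ = c i * d i * (r * b) * r⁻¹ * (c i * d i)⁻¹ := by group
        _ = c i * d i * (b * r) * r⁻¹ * (c i * d i)⁻¹ := by rw [h3]
        _ = _ := by group

end fam

/-- **Case 2** -/
theorem exists_strong [Finite G] {G0 : Subgroup G} (f : FSimp G0) (hZ : ∀ z ∈ Z, z ∈ G0)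
    (h75 : CloEnd.Crit1175 G0) (hn : ∀ x ∈ Z ∩ M, ∀ y ∈ Z ∩ M, Bl x y → ¬ CP K x y) (hpr : PRd Z M Bl Sw)
    (hpp : PPd Z K M Bl Sw) (hee : EEd Z K M Bl Sw) : ∃ H : Subgroup ↥G0, IsStronglyEmbedded H := by
  classical
  obtain ⟨S, hS⟩ := p.exists_sylow
  obtain ⟨z, hz, u, hu, hne⟩ := p.exists_ne S hS
  haveI : Fintype (CS Z K (S : Subgroup G)) := Fintype.ofFinite _
  let c : CS Z K (S : Subgroup G) → G := Subtype.val
  have hc : Fam Z M Bl c := by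
    refine ⟨fun v => p.CS_sub S hS v.2, fun v v' hvv h1 => ?_⟩
    exact hn _ (p.CS_sub S hS v.2) _ (p.CS_sub S hS v'.2) h1 (p.com S v.2 v'.2 (fun h2 => hvv (Subtype.ext h2)))
  have hfull : ∀ v ∈ Z ∩ M, ∃ i, Bl (c i) v := by
    intro v hv
    obtain ⟨v', h2, h3⟩ := p.exists_mem_CS S hS hv
    exact ⟨⟨v', h2⟩, p.symm _ hv _ (p.CS_sub S hS h2) h3⟩
  set h := Finset.univ.noncommProd c (p.fam_comm hc) with hh
  have hT : h ∈ TT Z K (S : Subgroup G) := Subgroup.noncommProd_mem _ _ fun v _ => subset_closure v.2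
  have hhh : h * h = 1 := p.w.TT_sq S.isPGroup' hT
  -- `h ≠ 1`
  have h1 : h ≠ 1 := by
    intro h1
    obtain ⟨t, ht, ht'⟩ := p.fam_split hc ⟨z, hz⟩
    rw [← hh, h1] at ht
    have hzM := p.CS_sub S hS hz
    obtain ⟨y, hy, hzy, hne'⟩ := p.ntr z hzM
    have h2 : Ce z (K y) := by
      have h3 : z = t⁻¹ := eq_inv_of_mul_eq_one_left ht.symm
      rw [h3]
      exact (ht' y hy hzy).inv
    exact hn z hzM y hy hzy (p.w.csymm hy.1 hzM.1 hne'.symm h2).symm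
  -- `h` is central in `S`
  have hcent : ∀ s ∈ (S : Subgroup G), s * h * s⁻¹ = h := by
    intro s hs
    have hinj : Function.Injective (fun v : CS Z K (S : Subgroup G) =>
        (⟨s * v * s⁻¹, p.CS_conj S hs v.2⟩ : CS Z K (S : Subgroup G))) := by
      intro v v' hvv
      have h2 : s * v * s⁻¹ = s * v' * s⁻¹ := congrArg Subtype.val hvv
      exact Subtype.ext (mul_left_cancel (mul_right_cancel h2))
    let e : CS Z K (S : Subgroup G) ≃ CS Z K (S : Subgroup G) := Equiv.ofBijective _ hinj.bijective_of_finite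
    have h2 := Finset.map_noncommProd Finset.univ c (p.fam_comm hc) (MulAut.conj s)
    change s * h * s⁻¹ = _ at h2
    rw [h2]
    exact noncommProd_comp e c _ (p.fam_comm hc)
  -- conjugates by elements of `M`
  have hconj : ∀ g ∈ M, ∃ d : CS Z K (S : Subgroup G) → G, ∃ hd : Fam Z M Bl d, (∀ v, Bl (c v) (d v)) ∧
      g * h * g⁻¹ = Finset.univ.noncommProd d (p.fam_comm hd) := by
    intro g hg
    have hg' : g⁻¹ ∈ M := M.inv_mem hg
    have hex : ∀ v : CS Z K (S : Subgroup G), ∃ v' : CS Z K (S : Subgroup G), Bl (g⁻¹ * v * g⁻¹⁻¹) v' := by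
      intro v
      obtain ⟨v', h2, h3⟩ := p.exists_mem_CS S hS (p.conj_mem (hc.1 v) hg')
      exact ⟨⟨v', h2⟩, h3⟩
    choose τ hτ using hex
    have hτ' : ∀ v, Bl (c v) (g * c (τ v) * g⁻¹) := by
      intro v
      have h2 := p.conj g hg _ (p.conj_mem (hc.1 v) hg') _ (hc.1 (τ v)) (hτ v)
      have e : g * (g⁻¹ * c v * g⁻¹⁻¹) * g⁻¹ = c v := by group
      rwa [e] at h2
    have hinj : Function.Injective τ := by
      intro v v' hvv
      by_contra hne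
      refine hc.2 v v' hne ?_
      have h2 := hτ' v'
      rw [← hvv] at h2
      exact p.trans _ (hc.1 v) _ (p.conj_mem (hc.1 (τ v)) hg) _ (hc.1 v') (hτ' v)
        (p.symm _ (hc.1 v') _ (p.conj_mem (hc.1 (τ v)) hg) h2)
    let e : CS Z K (S : Subgroup G) ≃ CS Z K (S : Subgroup G) := Equiv.ofBijective τ hinj.bijective_of_finite
    have hd : Fam Z M Bl (fun v => g * c (τ v) * g⁻¹) := by
      refine ⟨fun v => p.conj_mem (hc.1 _) hg, fun v v' hvv h2 => hc.2 v v' hvv ?_⟩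
      exact p.trans _ (hc.1 v) _ (p.conj_mem (hc.1 _) hg) _ (hc.1 v') (hτ' v)
        (p.trans _ (p.conj_mem (hc.1 _) hg) _ (p.conj_mem (hc.1 _) hg) _ (hc.1 v') h2
          (p.symm _ (hc.1 v') _ (p.conj_mem (hc.1 _) hg) (hτ' v')))
    refine ⟨fun v => g * c (τ v) * g⁻¹, hd, hτ', ?_⟩
    have h2 := Finset.map_noncommProd Finset.univ c (p.fam_comm hc) (MulAut.conj g)
    change g * h * g⁻¹ = _ at h2
    rw [h2]
    exact (noncommProd_comp e (fun v => g * c v * g⁻¹) (p.fam_comm hd) _).symm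
  -- the criterion
  have hhG : h ∈ G0 := by
    have h2 : TT Z K (S : Subgroup G) ≤ G0 := (closure_le _).2 fun v hv => hZ v hv.1
    exact h2 hT
  obtain ⟨T, hTS⟩ := exists_sylow_subgroupOf f.nor S
  exact h75 (M.subgroupOf G0) (fun h2 => p.not_le f (subgroupOf_eq_top.1 h2)) ⟨h, hhG⟩
    (by rw [← Subgroup.orderOf_coe]; exact orderOf_eq_prime (by rw [pow_two]; exact hhh) h1)
    (hS (p.w.TT_le hT)) ⟨T, by
      have h2 : (⟨h, hhG⟩ : G0) ∈ (T : Subgroup G0) := by rw [hTS]; exact p.w.TT_le hT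
      exact h2, fun s hs => by
      have h2 : s ∈ (T : Subgroup G0) := hs
      rw [hTS] at h2
      exact Subtype.ext (mul_inv_eq_iff_eq_mul.1 (hcent s h2))⟩
    (fun g hg => p.mem' S hS h hT h1 g hg) (fun g hg hg' => by
      have hcm : h * (g * h * (g : G)⁻¹) = g * h * (g : G)⁻¹ * h := congrArg Subtype.val hg.eq
      have hne' : (g : G) * h * (g : G)⁻¹ ≠ h := fun h2 => hg' (Subtype.ext h2)
      have hgM : (g : G) ∈ M := p.mem' S hS h hT h1 g (p.cen S hS h hT h1 _ hcm.symm)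
      obtain ⟨d, hd, hcd, hk⟩ := hconj g hgM
      intro x hx
      refine p.fam_main hn hpr hpp hee hc hd hcd (i0 := ⟨z, hz⟩) (j0 := ⟨u, hu⟩)
        (fun h2 => hne (congrArg Subtype.val h2)) hfull hh hk hhh ?_ hcm ?_ x ?_
      · have h2 : (g : G) * h * (g : G)⁻¹ * (g * h * (g : G)⁻¹) = g * (h * h) * (g : G)⁻¹ := by group
        rw [h2, hhh, mul_one, mul_inv_cancel]
      · intro h2
        apply hne'
        exact mul_left_cancel (h2.trans hhh.symm)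
      · exact congrArg Subtype.val (mem_centralizer_singleton_iff.1 hx))

end PG

end Cfsg.Agent.Cit.Nil.CompR

namespace Cfsg.Agent.Cit.Nil.CompR

open Subgroup Cfsg Cfsg.Agent.Cit Cfsg.Agent.Cit.Nil.AN
open Cfsg.Agent.Cit.Nil.ROne (CP CS TT FSimp)
open Cfsg.Agent.Cit.Nil.RG (WR RR Ov)
open Cfsg.Agent.Cit.Nil.RTwoM (WM OneCls C3E InZ)

variable {G : Type*} [Group G]

/-! ### `r = 2` -/

/-- the product situation, `r = 2` -/
structure PE (Om : Set (Subgroup G)) (M : Subgroup G) (Bl : G → G → Prop) : Prop where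
  w : WM Om
  refl : ∀ x ∈ RG.ZZ Om ∩ M, Bl x x
  symm : ∀ x ∈ RG.ZZ Om ∩ M, ∀ y ∈ RG.ZZ Om ∩ M, Bl x y → Bl y x
  trans : ∀ x ∈ RG.ZZ Om ∩ M, ∀ y ∈ RG.ZZ Om ∩ M, ∀ v ∈ RG.ZZ Om ∩ M, Bl x y → Bl y v → Bl x v
  conj : ∀ g ∈ M, ∀ x ∈ RG.ZZ Om ∩ M, ∀ y ∈ RG.ZZ Om ∩ M, Bl x y → Bl (g * x * g⁻¹) (g * y * g⁻¹)
  /-- different classes commute -/
  cm : ∀ x ∈ RG.ZZ Om ∩ M, ∀ y ∈ RG.ZZ Om ∩ M, ¬ Bl x y → ∀ a ∈ RR Om x, ∀ b ∈ RR Om y, a * b = b * a
  two : ∃ x ∈ RG.ZZ Om ∩ M, ∃ y ∈ RG.ZZ Om ∩ M, ¬ Bl x y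
  ntr : ∀ x ∈ RG.ZZ Om ∩ M, ∃ y ∈ RG.ZZ Om ∩ M, Bl x y ∧ x ≠ y
  /-- the classes are `ONE` -/
  one : ∀ x ∈ RG.ZZ Om ∩ M, ∀ y ∈ RG.ZZ Om ∩ M, Bl x y → CP (RR Om) x y → ∀ v ∈ RG.ZZ Om ∩ M, Bl x v → Ce (x * y) (RR Om v)
  mem : ∀ x ∈ RG.ZZ Om ∩ M, ∀ g, g * x * g⁻¹ ∈ M → g ∈ M
  syl : ∀ S : Sylow 2 G, ∀ x ∈ RG.ZZ Om ∩ M, RR Om x ≤ (S : Subgroup G) → (S : Subgroup G) ≤ M
  cen : ∀ S : Sylow 2 G, (S : Subgroup G) ≤ M → ∀ s ∈ TT (RG.ZZ Om) (RR Om) (S : Subgroup G), s ≠ 1 →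
    ∀ c, c * s = s * c → c ∈ M
  mem' : ∀ S : Sylow 2 G, (S : Subgroup G) ≤ M → ∀ s ∈ TT (RG.ZZ Om) (RR Om) (S : Subgroup G), s ≠ 1 →
    ∀ g, g * s * g⁻¹ ∈ M → g ∈ M

/-- the group of the block of `v` -/
def BG (Om : Set (Subgroup G)) (M : Subgroup G) (Bl : G → G → Prop) (v : G) : Subgroup G :=
  closure {k | ∃ x ∈ RG.ZZ Om ∩ M, Bl v x ∧ k ∈ RR Om x}

/-- type p -/
def SwP (Om : Set (Subgroup G)) (x y : G) : Prop := (∀ K ∈ Ov Om x, cj y K ≠ K) ∧ (∀ K ∈ Ov Om y, cj x K ≠ K)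

section inv

variable {Om : Set (Subgroup G)} {K : Subgroup G} {x y : G}

/-- `y` fixes the member `K` over `x` and does not centralise it: `y` is conjugate to `x y` under `K` -/
theorem exists_flip (h : WR Om) (hK : K ∈ Ov Om x) (hy : y * y = 1) (hc : cj y K = K)
    (hn : ¬ ∀ k ∈ K, y * k = k * y) : ∃ k ∈ K, k * y * k⁻¹ = x * y := by
  have key : ∃ k ∈ K, k * k = x ∧ y * k * y⁻¹ = k⁻¹ := by
    rcases h.inn_or_tr hK.1 hc hy with ⟨w, hw, hi⟩ | ⟨a, ht⟩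
    · -- inner
      have hw1 : w * w = zz K := by
        refine h.sq_eq hK.1 hw ?_ ?_
        · rintro rfl
          refine hn fun k hk => ?_
          have h1 := hi k hk
          rw [one_mul, inv_one, mul_one, mul_inv_eq_iff_eq_mul] at h1
          exact h1
        · intro hwz
          refine hn fun k hk => ?_
          have h1 := hi k hk
          rw [hwz, ← h.cen hK.1 hk, mul_inv_cancel_right, mul_inv_eq_iff_eq_mul] at h1
          exact h1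
      obtain ⟨b, hb, hbb, h1, h2⟩ := h.exists_anti hK.1 hw hw1
      obtain ⟨h3, -⟩ := h.anti hK.1 hw hb hw1 hbb h1 h2
      refine ⟨b, hb, by rw [hbb, hK.2], ?_⟩
      rw [hi b hb, h.inv_eq hK.1 hb hbb]
      -- `w b w⁻¹ = z b`
      have h4 : w * b = zz K * (b * w) := by
        rw [h3, ← mul_assoc, h.zs hK.1, one_mul]
      rw [h4, ← mul_assoc, mul_inv_cancel_right]
    · exact ⟨a, ht.mem, by rw [ht.sq, hK.2], ht.inv⟩
  obtain ⟨k, hk, hkk, h1⟩ := key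
  refine ⟨k, hk, ?_⟩
  have h2 : y * k⁻¹ * y⁻¹ = k := by
    have h3 : y * k⁻¹ * y⁻¹ = (y * k * y⁻¹)⁻¹ := by group
    rw [h3, h1, inv_inv]
  calc k * y * k⁻¹ = k * (y * k⁻¹ * y⁻¹) * y := by group
    _ = x * y := by rw [h2, hkk]

end inv

namespace PE

variable {Om : Set (Subgroup G)} {M X : Subgroup G} {Bl : G → G → Prop} [Finite G] (p : PE Om M Bl)

include p

theorem pg : PG (RG.ZZ Om) (RR Om) M Bl where
  w := GW.of_wr p.w.wr p.w.hyp
  refl := p.refl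
  symm := p.symm
  trans := p.trans
  conj := p.conj
  cm := p.cm
  two := p.two
  ntr := p.ntr
  one := p.one
  mem := p.mem
  syl := p.syl
  cen := p.cen
  mem' := p.mem'

theorem dat : RTwoM.L1.Dat (RG.ZZ Om) (RR Om) := by
  have e2 : RR Om = RTwoM.RZ Om := funext fun z => RTwoM.RR_eq z
  rw [e2]
  exact p.w.dat

/-- two commuting points of a block -/
theorem prd (hn : ∀ x ∈ RG.ZZ Om ∩ M, ∀ y ∈ RG.ZZ Om ∩ M, Bl x y → ¬ CP (RR Om) x y) : PRd (RG.ZZ Om) M Bl (SwP Om) := by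
  intro x hx y hy hxy hne hc
  have g := p.pg
  have key : ∀ x ∈ RG.ZZ Om ∩ M, ∀ y ∈ RG.ZZ Om ∩ M, Bl x y → x ≠ y → (∃ K ∈ Ov Om x, cj y K = K) →
      x * y ∈ RG.ZZ Om ∩ M ∧ Bl x (x * y) := by
    rintro x hx y hy hxy hne ⟨K, hK, hyK⟩
    obtain ⟨k, hk, hkk⟩ := exists_flip p.w.wr hK (g.w.sq y hy.1) hyK (fun h1 =>
      hn x hx y hy hxy ((cp_iff_wr p.w.wr).2 (p.w.wr.CP_of_cen hK h1 hne)))
    have hkR : k ∈ RR Om x := WR.le_RR hK hk
    have hkM : k ∈ M := g.K_le hx hkR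
    have h1 := g.conj_mem hy hkM
    have h2 := p.conj k hkM x hx y hy hxy
    rw [g.w.cent hx.1 hkR, mul_inv_cancel_right] at h2
    rw [hkk] at h1 h2
    exact ⟨h1, h2⟩
  by_cases h1 : ∃ K ∈ Ov Om x, cj y K = K
  · exact Or.inl (key x hx y hy hxy hne h1)
  by_cases h2 : ∃ K ∈ Ov Om y, cj x K = K
  · left
    obtain ⟨h3, h4⟩ := key y hy x hx (p.symm x hx y hy hxy) hne.symm h2
    rw [← hc] at h3 h4
    exact ⟨h3, p.trans x hx y hy _ h3 hxy h4⟩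
  · push Not at h1 h2
    exact Or.inr ⟨h1, h2⟩

/-- there is no strongly embedded subgroup in `X` -/
theorem not_strong (f : FSimp X) (hev : 2 ∣ Nat.card X) (hB : CloEnd.Bend X) {H : Subgroup ↥X}
    (hH : IsStronglyEmbedded H) : False := by
  obtain ⟨x, hx, y, hy, hxy⟩ := p.two
  have g := p.pg
  have hcp : RG.CP Om x y := (cp_iff_wr p.w.wr).1 ⟨fun h1 => hxy (h1 ▸ p.refl x hx), p.cm x hx y hy hxy⟩
  have hxX := p.w.zmemX f hev (z := x) hx.1
  have hyX := p.w.zmemX f hev (z := y) hy.1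
  obtain ⟨q, hq⟩ := isConj_iff.1 (Cfsg.Agent.TwoFusion.StronglyEmbeddedBasic.isConj_of_involutions hH
    (⟨x, hxX⟩ : X) ⟨y, hyX⟩
    (by rw [← Subgroup.orderOf_coe]; exact orderOf_eq_prime (by rw [pow_two]; exact g.w.sq x hx.1) (g.w.ne x hx.1))
    (by rw [← Subgroup.orderOf_coe]; exact orderOf_eq_prime (by rw [pow_two]; exact g.w.sq y hy.1) (g.w.ne y hy.1)))
  have hq' : (q : G) * x * (q : G)⁻¹ = y := congrArg Subtype.val hq
  rw [← hq'] at hcp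
  obtain ⟨P, Q, R, hP, hQ, hR, hQX, hRX, hQR, ⟨a, ha, b, hb, hab⟩, ⟨c, hc, d, hd, hcd⟩⟩ :=
    p.w.wr.exists_two (RTwoM.ncard_Ov p.w (z := x) hx.1) f.nor q.2 hx.1 hcp
  refine CloEnd.Two.not_stronglyEmbedded (G := X) ⟨⟨P.subgroupOf X, Q.subgroupOf X, R.subgroupOf X, hP.comap_subtype,
    comap_mono hQ, comap_mono hR, ?_, ?_, ?_⟩⟩ hB H hH
  · exact fun x hx y hy => Subtype.ext (hQR x hx y hy)
  · exact ⟨⟨a, hQX ha⟩, ha, ⟨b, hQX hb⟩, hb, fun h1 => hab (congrArg Subtype.val h1)⟩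
  · exact ⟨⟨c, hRX hc⟩, hc, ⟨d, hRX hd⟩, hd, fun h1 => hcd (congrArg Subtype.val h1)⟩

/-- **the product situation, `r = 2`, is impossible** -/
theorem false_of (cls : OneCls Om) (c3 : C3E Om) (f : FSimp X) (hev : 2 ∣ Nat.card X) (gold : Cit.ROne.Gold X)
    (hB : CloEnd.Bend X) (h75 : CloEnd.Crit1175 X)
    (hPP : (∀ x ∈ RG.ZZ Om ∩ M, ∀ y ∈ RG.ZZ Om ∩ M, Bl x y → ¬ CP (RR Om) x y) →
      ∀ x ∈ RG.ZZ Om ∩ M, ∀ y ∈ RG.ZZ Om ∩ M, Bl x y → x ≠ y → x * y = y * x → SwP Om x y →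
        ∃ n ∈ RG.ZZ Om ∩ M, Bl x n ∧ Ce (x * y) (RR Om n))
    (hE : (∀ x ∈ RG.ZZ Om ∩ M, ∀ y ∈ RG.ZZ Om ∩ M, Bl x y → ¬ CP (RR Om) x y) →
      (∃ x ∈ RG.ZZ Om ∩ M, ∃ y ∈ RG.ZZ Om ∩ M, Bl x y ∧ x ≠ y ∧ x * y = y * x ∧ SwP Om x y) →
      ∀ e, e * e = 1 → e ≠ 1 →
      (∃ n ∈ RG.ZZ Om ∩ M, ∃ n' ∈ RG.ZZ Om ∩ M, ¬ Bl n n' ∧ Ce e (RR Om n) ∧ Ce e (RR Om n')) →
      (∀ v ∈ RG.ZZ Om ∩ M, ∃ e' ∈ BG Om M Bl v, e' * e' = 1 ∧ ∀ b ∈ BG Om M Bl v, e * b * e⁻¹ = e' * b * e'⁻¹) →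
      ∀ g, g * e = e * g → g ∈ M) : False := by
  have hZ : ∀ z ∈ RG.ZZ Om, z ∈ X := fun z hz => p.w.zmemX f hev (z := z) hz
  by_cases hex : ∃ x ∈ RG.ZZ Om ∩ M, ∃ y ∈ RG.ZZ Om ∩ M, Bl x y ∧ CP (RR Om) x y
  · obtain ⟨x, hx, y, hy, hxy, hc⟩ := hex
    obtain ⟨S, A, hA, hAT, hcl⟩ := p.pg.exists_closed p.dat hx hy hxy hc
    exact p.w.false_of_closed cls c3 (z := x) hx.1 f hev gold hB S hA
      (hAT.trans ((closure_le _).2 fun v hv => hZ v hv.1))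
      (fun a ha b hb => p.pg.w.TT_comm S.isPGroup' (hAT ha) (hAT hb)) hcl
  · have hn : ∀ x ∈ RG.ZZ Om ∩ M, ∀ y ∈ RG.ZZ Om ∩ M, Bl x y → ¬ CP (RR Om) x y :=
      fun x hx y hy hxy hc => hex ⟨x, hx, y, hy, hxy, hc⟩
    obtain ⟨H, hH⟩ := p.pg.exists_strong f hZ h75 hn (p.prd hn) (hPP hn) (hE hn)
    exact p.not_strong f hev hB hH

end PE

end Cfsg.Agent.Cit.Nil.CompR
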