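import Cfsg.Agent.Cit.Nil.CompR.Frame
import Cfsg.Agent.Cit.Nil.CompR.Count

/-!
# S1309 (6b), COMP, any `r`, the product situation: (F4) of helper454's text (bb R18 #15492); `Comp/ProdFour.lean` for `GW`

`Fram Z K Sg Kl` : the product situation after (F1)-(F3): `Sg z` is the union of the frame of `z`, `Kl z` the class of `z`
in the frame.

* `Fram.MM` : the stabiliser `M` of the frame of `z`;
* `Fram.om_sub` : the members of `C(h)`, `h ∈ T_S`, `h ≠ 1`, are in the frame of `S`;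
* `Fram.cent_le` : `C(h) ≤ M`;
* `Fram.mem_MM_of_conj` : `g h g⁻¹ ∈ M` implies `g ∈ M`.
-/

set_option autoImplicit false
set_option linter.style.haveILetI false
set_option linter.unusedSectionVars false

namespace Cfsg.Agent.Cit.Nil.CompR

open Subgroup Cfsg Cfsg.Agent.Cit
open Cfsg.Agent.Cit.Nil.AN (Om Cl OneC Ce Cm)
open Cfsg.Agent.Cit.Nil.ROne (CP CS TT OneCls)
open Cfsg.Agent.OddOrderLocal.NilParts Cfsg.Agent.StdEven.Syl

variable {G : Type*} [Group G]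

/-- the product situation, output of (F1)-(F3) -/
structure Fram (Z : Set G) (K : G → Subgroup G) (Sg Kl : G → Set G) : Prop where
  subZ : ∀ z ∈ Z, Sg z ⊆ Z
  self : ∀ z ∈ Z, z ∈ Kl z
  sub : ∀ z ∈ Z, Kl z ⊆ Sg z
  sgEq : ∀ z ∈ Z, ∀ u ∈ Sg z, Sg u = Sg z
  klEq : ∀ z ∈ Z, ∀ u ∈ Kl z, Kl u = Kl z
  conj : ∀ z ∈ Z, ∀ g : G, ∀ u ∈ Sg z, g * u * g⁻¹ ∈ Sg (g * z * g⁻¹)
  /-- different classes of a frame commute -/
  cm : ∀ z ∈ Z, ∀ u ∈ Sg z, u ∉ Kl z → CP K z u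
  /-- there are at least two classes -/
  ex : ∀ z ∈ Z, ∃ u ∈ Sg z, u ∉ Kl z
  /-- a class is not a commuting family -/
  nc : ∀ z ∈ Z, ∃ b ∈ Kl z, ∃ b' ∈ Kl z, b ≠ b' ∧ ¬ CP K b b'
  /-- (F1) -/
  f1 : ∀ u ∈ Z, ∀ v ∈ Z, CP K u v → v ∈ Sg u
  /-- (F2) -/
  f2 : ∀ x ∈ Z, ∀ u ∈ Z, CP K u (x * u * x⁻¹) → x ∈ Sg u
  /-- (F3) -/
  f3 : ∀ z ∈ Z, ∀ x ∈ Z, x * z * x⁻¹ ∈ Sg z → x ∈ Sg z

/-- `T'` for `S`: the classes of `C(s)`, `s ∈ T_S`, `s ≠ 1`, are nil or `ONE` -/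
def TPS (Z : Set G) (K : G → Subgroup G) (S : Subgroup G) : Prop := ∀ s ∈ TT Z K S, s ≠ 1 → TPs Z K s

theorem TP.tps {Z : Set G} {K : G → Subgroup G} (h : TP Z K) (S : Sylow 2 G) : TPS Z K (S : Subgroup G) := h S

/-- `m = 2`: the case which needs the structure of the class of `C(z₁ z₂)` -/
def MTwo (Z : Set G) (K : G → Subgroup G) (S : Subgroup G) : Prop :=
  ∀ z₁ z₂, z₁ ≠ z₂ → CS Z K S = {z₁, z₂} → (∀ u ∈ Om Z K (z₁ * z₂), u ∈ Cl Z K (z₁ * z₂) z₁) →
    OneC Z K (z₁ * z₂) z₁ → False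

namespace Fram

variable {Z : Set G} {K : G → Subgroup G} {Sg Kl : G → Set G} {z u v g h x : G}

section basic

variable (f : Fram Z K Sg Kl)

include f

theorem mem_Z (hz : z ∈ Z) (hu : u ∈ Sg z) : u ∈ Z := f.subZ z hz hu

theorem selfS (hz : z ∈ Z) : z ∈ Sg z := f.sub z hz (f.self z hz)

theorem sg_symm (hz : z ∈ Z) (hu : u ∈ Sg z) : z ∈ Sg u := by
  rw [f.sgEq z hz u hu]; exact f.selfS hz

theorem kl_mem_Z (hz : z ∈ Z) (hu : u ∈ Kl z) : u ∈ Z := f.subZ z hz (f.sub z hz hu)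

theorem kl_symm (hz : z ∈ Z) (hu : u ∈ Kl z) : z ∈ Kl u := by
  rw [f.klEq z hz u hu]; exact f.self z hz

theorem kl_sub (hz : z ∈ Z) (hu : u ∈ Sg z) : Kl u ⊆ Sg z := by
  rw [← f.sgEq z hz u hu]; exact f.sub u (f.mem_Z hz hu)

theorem cm' (hz : z ∈ Z) (hu : u ∈ Sg z) (hv : v ∈ Sg z) (hn : v ∉ Kl u) : CP K u v :=
  f.cm u (f.mem_Z hz hu) v (by rw [f.sgEq z hz u hu]; exact hv) hn

theorem conj_iff (w : GW Z K) (hz : z ∈ Z) (g : G) : g * u * g⁻¹ ∈ Sg (g * z * g⁻¹) ↔ u ∈ Sg z := by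
  refine ⟨fun h1 => ?_, f.conj z hz g u⟩
  have h2 := f.conj _ (w.conjZ z hz g) g⁻¹ _ h1
  have e : ∀ x : G, g⁻¹ * (g * x * g⁻¹) * g⁻¹⁻¹ = x := fun x => by group
  rwa [e, e] at h2

/-- the stabiliser of the frame of `z` -/
def MM (hz : z ∈ Z) : Subgroup G where
  carrier := {g | g * z * g⁻¹ ∈ Sg z}
  one_mem' := by
    change 1 * z * 1⁻¹ ∈ Sg z
    rw [one_mul, inv_one, mul_one]; exact f.selfS hz
  mul_mem' {a b} ha hb := by
    change a * b * z * (a * b)⁻¹ ∈ Sg z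
    have h1 := f.conj z hz a _ hb
    rw [f.sgEq z hz _ ha] at h1
    have e : a * b * z * (a * b)⁻¹ = a * (b * z * b⁻¹) * a⁻¹ := by group
    rwa [e]
  inv_mem' {a} ha := by
    change a⁻¹ * z * a⁻¹⁻¹ ∈ Sg z
    have h1 := f.conj _ (f.mem_Z hz ha) a⁻¹ z (f.sg_symm hz ha)
    have e : a⁻¹ * (a * z * a⁻¹) * a⁻¹⁻¹ = z := by group
    rwa [e] at h1

theorem mem_MM (hz : z ∈ Z) : g ∈ f.MM hz ↔ g * z * g⁻¹ ∈ Sg z := Iff.rfl

/-- `g` stabilises the frame iff it maps some element of the frame into the frame -/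
theorem mem_MM_of (hz : z ∈ Z) (hu : u ∈ Sg z) (hg : g * u * g⁻¹ ∈ Sg z) : g ∈ f.MM hz := by
  rw [f.mem_MM hz]
  have h1 := f.conj u (f.mem_Z hz hu) g z (f.sg_symm hz hu)
  rwa [f.sgEq z hz _ hg] at h1

theorem mem_MM_conj (hz : z ∈ Z) (hg : g ∈ f.MM hz) (hu : u ∈ Sg z) : g * u * g⁻¹ ∈ Sg z := by
  have h1 := f.conj z hz g u hu
  rwa [f.sgEq z hz _ hg] at h1

theorem mem_MM_of_comm (hz : z ∈ Z) (hu : u ∈ Sg z) (hg : g * u = u * g) : g ∈ f.MM hz := by
  refine f.mem_MM_of hz hu ?_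
  rw [hg, mul_inv_cancel_right]; exact hu

/-- (F3) -/
theorem mem_of_MM (hz : z ∈ Z) (hx : x ∈ Z) (h1 : x ∈ f.MM hz) : x ∈ Sg z := f.f3 z hz x hx h1

/-- two frames with commuting involutions.. an element of `Z` commuting with an element of the frame is in the frame -/
theorem mem_of_comm (hz : z ∈ Z) (hu : u ∈ Sg z) (hx : x ∈ Z) (h1 : x * u = u * x) : x ∈ Sg z :=
  f.mem_of_MM hz hx (f.mem_MM_of_comm hz hu h1)

end basic

section syl

variable (f : Fram Z K Sg Kl) (w : GW Z K) {S : Subgroup G}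

include f w

/-- the members of `S` are in one frame -/
theorem cs_sub [Finite G] (hS : IsPGroup 2 S) (hz : z ∈ CS Z K S) (hu : u ∈ CS Z K S) : u ∈ Sg z := by
  by_cases hne : z = u
  · rw [← hne]; exact f.selfS hz.1
  · exact f.f1 z hz.1 u hu.1 (w.com S hS hz.1 hu.1 hz.2 hu.2 hne)

theorem cs_conj (hz : z ∈ CS Z K S) (hg : g ∈ S) : g * z * g⁻¹ ∈ CS Z K S := by
  refine ⟨w.conjZ z hz.1 g, ?_⟩
  rw [w.conjK z hz.1]
  intro x hx
  rw [mem_cj] at hx
  have h1 : x = g * (g⁻¹ * x * g) * g⁻¹ := by group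
  rw [h1]
  exact mul_mem (mul_mem hg (hz.2 hx)) (inv_mem hg)

theorem S_le [Finite G] (hS : IsPGroup 2 S) (hz : z ∈ CS Z K S) : S ≤ f.MM hz.1 := fun _ hg =>
  f.cs_sub w hS hz (f.cs_conj w hz hg)

/-- every class of the frame of `S` has a member in `S` -/
theorem meets [Finite G] (S : Sylow 2 G) (hz : z ∈ CS Z K (S : Subgroup G)) (hu : u ∈ Sg z) :
    ∃ v ∈ Kl u, v ∈ CS Z K (S : Subgroup G) := by
  by_contra hcon
  push Not at hcon
  have huZ := f.mem_Z hz.1 hu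
  refine hcon u (f.self u huZ) (w.mem_CS_of_clique S huZ fun v hv => Or.inr ?_)
  have hv1 : v ∈ Sg z := f.cs_sub w S.isPGroup' hz hv
  exact (f.cm' hz.1 hu hv1 fun h1 => hcon v h1 hv).symm

/-- an element centralising a class of the frame and having only one class, which is `ONE` -/
theorem false_of_one (hz : z ∈ Z) (hone : OneC Z K h z) (hall : ∀ x ∈ Om Z K h, x ∈ Cl Z K h z) {t : G}
    (ht : t ∈ Sg z) (htz : z ∉ Kl t) (hc : ∀ b ∈ Kl t, Ce h (K b)) : False := by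
  have htZ := f.mem_Z hz ht
  have hK : ∀ b ∈ Kl t, b ∈ Cl Z K h z := fun b hb => hall b ⟨f.kl_mem_Z htZ hb, hc b hb⟩
  have hcp : ∀ b ∈ Kl t, CP K z b := fun b hb => by
    have hb1 : b ∈ Sg z := f.kl_sub hz ht hb
    refine (f.cm' hz hb1 (f.selfS hz) ?_).symm
    rw [f.klEq t htZ b hb]
    exact htz
  obtain ⟨b, hb, b', hb', hne, hnc⟩ := f.nc t htZ
  have hbZ := f.kl_mem_Z htZ hb
  have hbZ' := f.kl_mem_Z htZ hb'
  apply hnc
  have h1 : Ce (z * b) (K b') := hone z (AN.cl_refl h z) b (hK b hb) (hcp b hb).2 b' (hK b' hb')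
  have h2 : Ce z (K b') := w.cen_of_cp hz (hcp b' hb').symm
  have h3 : Ce b (K b') := by
    have h4 := h2.inv.mul h1
    rwa [inv_mul_cancel_left] at h4
  exact (w.csymm hbZ' hbZ hne.symm h3).symm

end syl

section main

variable [Finite G] (f : Fram Z K Sg Kl) (w : GW Z K) (S : Sylow 2 G)

include f w

/-- the members of `C(h)` are in the frame, if `C(h)` has no class which is `ONE` and contains everything -/
theorem om_sub_of (hz : z ∈ CS Z K (S : Subgroup G)) (hh : h ∈ TT Z K (S : Subgroup G)) (hh1 : h ≠ 1)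
    (tp : TPS Z K (S : Subgroup G))
    (hno : (∀ x ∈ Om Z K h, x ∈ Cl Z K h z) → OneC Z K h z → Om Z K h ⊆ Sg z) : Om Z K h ⊆ Sg z := by
  intro u hu
  have hzh : z ∈ Om Z K h := ⟨hz.1, w.TT_cen S.isPGroup' hz hh⟩
  by_cases hall : ∀ x ∈ Om Z K h, x ∈ Cl Z K h z
  · rcases tp h hh hh1 z hzh with h1 | h1
    · -- nil
      have hKu : K u ≤ centralizer {h} := fun k hk => mem_centralizer_singleton_iff.2 (hu.2 k hk).symm
      have hP : IsPGroup 2 (K u ⊔ oP 2 (centralizer {h}) : Subgroup G) :=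
        OneBasic.isPGroup_sup_of_normalizes (w.two hu.1) (isPGroup_oP 2 _) (hKu.trans (le_normalizer_oP 2 _))
      have hzP : z ∈ (K u ⊔ oP 2 (centralizer {h}) : Subgroup G) := mem_sup_right h1
      have h2 : K (z * u * z⁻¹) ≤ (K u ⊔ oP 2 (centralizer {h}) : Subgroup G) := by
        rw [w.conjK u hu.1]
        intro x hx
        rw [mem_cj] at hx
        have h3 : x = z * (z⁻¹ * x * z) * z⁻¹ := by group
        rw [h3]
        exact mul_mem (mul_mem hzP (mem_sup_left hx)) (inv_mem hzP)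
      by_cases hne : u = z * u * z⁻¹
      · refine f.mem_of_comm hz.1 (f.selfS hz.1) hu.1 ?_
        rw [eq_mul_inv_iff_mul_eq] at hne
        exact hne
      · have h3 := w.com _ hP hu.1 (w.conjZ u hu.1 z) le_sup_left h2 hne
        exact f.sg_symm hu.1 (f.f2 z hz.1 u hu.1 h3)
    · exact hno hall h1 hu
  · push Not at hall
    obtain ⟨u0, hu0, hn0⟩ := hall
    have key : ∀ a b, a ∈ Cl Z K h z → b ∈ Om Z K h → b ∉ Cl Z K h z → CP K a b := by
      intro a b ha hb hbn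
      refine ⟨fun e => hbn (e ▸ ha), AN.cl_cm ha hb hbn⟩
    have h0 : u0 ∈ Sg z := f.f1 z hz.1 u0 hu0.1 (key z u0 (AN.cl_refl h z) hu0 hn0)
    by_cases hun : u ∈ Cl Z K h z
    · have h1 : u0 ∈ Sg u := f.f1 u hu.1 u0 hu0.1 (key u u0 hun hu0 hn0)
      have h2 : u ∈ Sg u0 := f.sg_symm hu.1 h1
      rwa [f.sgEq z hz.1 u0 h0] at h2
    · exact f.f1 z hz.1 u hu.1 (key z u (AN.cl_refl h z) hu hun)

/-- an element of `T_S` centralising a class of the frame -/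
theorem om_sub_of_cent (hz : z ∈ CS Z K (S : Subgroup G)) (hh : h ∈ TT Z K (S : Subgroup G)) (hh1 : h ≠ 1)
    (tp : TPS Z K (S : Subgroup G)) {t : G} (ht : t ∈ Sg z) (hc : ∀ b ∈ Kl t, Ce h (K b)) : Om Z K h ⊆ Sg z := by
  -- an element of `C_S` outside the class of `t`
  have htZ := f.mem_Z hz.1 ht
  obtain ⟨s, hs, hst⟩ := f.ex t htZ
  have hsz : s ∈ Sg z := by rwa [f.sgEq z hz.1 t ht] at hs
  obtain ⟨v, hv, hvS⟩ := f.meets w S hz hsz
  have hvz : v ∈ Sg z := f.kl_sub hz.1 hsz hv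
  have hvt : v ∉ Kl t := fun h1 => hst (by
    have h2 : s ∈ Kl v := f.kl_symm (f.mem_Z hz.1 hsz) hv
    rw [f.klEq t htZ v h1] at h2
    exact h2)
  have h1 : Om Z K h ⊆ Sg v := by
    refine f.om_sub_of w S hvS hh hh1 tp fun hall hone => ?_
    exact (f.false_of_one w hvS.1 hone hall (by rw [f.sgEq z hz.1 v hvz]; exact ht) hvt hc).elim
  rwa [f.sgEq z hz.1 v hvz] at h1

/-- **(F4), members**: the members of `C(h)`, `h ∈ T_S`, `h ≠ 1`, are in the frame of `S` -/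
theorem om_sub (hz : z ∈ CS Z K (S : Subgroup G)) (hh : h ∈ TT Z K (S : Subgroup G)) (hh1 : h ≠ 1)
    (tp : TPS Z K (S : Subgroup G)) (m2 : MTwo Z K (S : Subgroup G)) : Om Z K h ⊆ Sg z := by
  refine f.om_sub_of w S hz hh hh1 tp fun hall hone => ?_
  -- a member of `S` in another class
  obtain ⟨s, hs, hsn⟩ := f.ex z hz.1
  obtain ⟨v, hv, hvS⟩ := f.meets w S hz hs
  have hvz : v ∈ Sg z := f.kl_sub hz.1 hs hv
  have hvn : v ∉ Kl z := fun h1 => hsn (by
    have h2 : s ∈ Kl v := f.kl_symm (f.mem_Z hz.1 hs) hv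
    rw [f.klEq z hz.1 v h1] at h2
    exact h2)
  have hzv : z ∉ Kl v := fun h1 => hvn (f.kl_symm hvS.1 h1)
  have hne : z ≠ v := fun e => hvn (e ▸ f.self z hz.1)
  have hS := S.isPGroup'
  -- the product of two members of `S`
  have key : ∀ a ∈ CS Z K (S : Subgroup G), ∀ b ∈ CS Z K (S : Subgroup G), a ≠ b → ∀ t ∈ CS Z K (S : Subgroup G),
      t ∉ Kl a → t ∉ Kl b → Om Z K h ⊆ Sg z := by
    intro a ha b hb hab t ht hta htb
    have hcab := w.com S hS ha.1 hb.1 ha.2 hb.2 hab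
    have h1 : a * b ∈ TT Z K (S : Subgroup G) := mul_mem (subset_closure ha) (subset_closure hb)
    have h2 : a * b ≠ 1 := w.cp_mul_ne hb.1 hcab
    have haS : ∀ {x}, x ∈ CS Z K (S : Subgroup G) → x ∈ Sg z := fun hx => f.cs_sub w hS hz hx
    have h3 : ∀ c ∈ CS Z K (S : Subgroup G), t ∉ Kl c → ∀ x ∈ Kl t, Ce c (K x) := by
      intro c hc htc x hx
      have hxz : x ∈ Sg z := f.kl_sub hz.1 (haS ht) hx
      refine w.cen_of_cp hc.1 (f.cm' hz.1 hxz (haS hc) fun h4 => htc ?_)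
      rw [f.klEq t ht.1 x hx] at h4
      exact f.kl_symm ht.1 h4
    have h4 := f.om_sub_of_cent w S hz h1 h2 tp (haS ht) fun x hx => (h3 a ha hta x hx).mul (h3 b hb htb x hx)
    -- `Om h ⊆ Om (a b)`
    have hah : ∀ {x}, x ∈ CS Z K (S : Subgroup G) → x ∈ Cl Z K h z := fun hx =>
      hall _ ⟨hx.1, w.TT_cen hS hx hh⟩
    exact fun x hx => h4 ⟨hx.1, hone a (hah ha) b (hah hb) hcab.2 x (hall x hx)⟩
  by_cases h3 : ∃ t ∈ CS Z K (S : Subgroup G), t ≠ z ∧ t ≠ v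
  · obtain ⟨t, ht, htz, htv⟩ := h3
    by_cases c1 : t ∈ Kl z
    · refine key z hz t ht htz.symm v hvS hvn ?_
      rw [f.klEq z hz.1 t c1]; exact hvn
    · by_cases c2 : t ∈ Kl v
      · refine key v hvS t ht htv.symm z hz hzv ?_
        rw [f.klEq v hvS.1 t c2]; exact hzv
      · exact key z hz v hvS hne t ht c1 c2
  · -- `m = 2`
    push Not at h3
    have hCS : CS Z K (S : Subgroup G) = {z, v} := by
      ext x
      constructor
      · intro hx
        by_cases hxz : x = z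
        · exact Or.inl hxz
        · exact Or.inr (h3 x hx hxz)
      · rintro (rfl | rfl)
        · exact hz
        · exact hvS
    -- `h ∈ {z, v, z v}`
    have hcomm : z * v = v * z := w.comm_of_cp hz.1 hvS.1 (w.com S hS hz.1 hvS.1 hz.2 hvS.2 hne)
    have hcases : h = 1 ∨ h = z ∨ h = v ∨ h = z * v := by
      have hh' : h ∈ closure (CS Z K (S : Subgroup G)) := hh
      rw [hCS] at hh'
      have hzz := w.sq z hz.1
      have hvv := w.sq v hvS.1
      refine closure_induction (p := fun x _ => x = 1 ∨ x = z ∨ x = v ∨ x = z * v) ?_ ?_ ?_ ?_ hh'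
      · rintro x (rfl | rfl)
        · exact Or.inr (Or.inl rfl)
        · exact Or.inr (Or.inr (Or.inl rfl))
      · exact Or.inl rfl
      · have e1 : z * (z * v) = v := by rw [← mul_assoc, hzz, one_mul]
        have e2 : v * (z * v) = z := by rw [hcomm, ← mul_assoc, hvv, one_mul]
        have e3 : z * v * z = v := by rw [hcomm, mul_assoc, hzz, mul_one]
        have e4 : z * v * v = z := by rw [mul_assoc, hvv, mul_one]
        have e5 : z * v * (z * v) = 1 := by rw [← mul_assoc, e3, hvv]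
        rintro x y - - (rfl | rfl | rfl | rfl) (rfl | rfl | rfl | rfl)
        all_goals simp only [one_mul, mul_one, hzz, hvv, e1, e2, e3, e4, e5, hcomm.symm]
        all_goals simp
      · have hzi := w.inv hz.1
        have hvi := w.inv hvS.1
        rintro x - (rfl | rfl | rfl | rfl)
        · simp
        · simp [hzi]
        · simp [hvi]
        · right; right; right
          rw [mul_inv_rev, hzi, hvi, hcomm]
    rcases hcases with h4 | h4 | h4 | h4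
    · exact absurd h4 hh1
    · intro x hx
      refine f.mem_of_comm hz.1 (f.selfS hz.1) hx.1 ?_
      have h5 := hx.2 x (w.mem x hx.1)
      rw [h4] at h5
      exact h5.symm
    · intro x hx
      refine f.mem_of_comm hz.1 hvz hx.1 ?_
      have h5 := hx.2 x (w.mem x hx.1)
      rw [h4] at h5
      exact h5.symm
    · subst h4
      exact (m2 z v hne hCS hall hone).elim

/-- **(F4)**: `C(h) ≤ M` -/
theorem cent_le (hz : z ∈ CS Z K (S : Subgroup G)) (hh : h ∈ TT Z K (S : Subgroup G)) (hh1 : h ≠ 1)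
    (tp : TPS Z K (S : Subgroup G)) (m2 : MTwo Z K (S : Subgroup G)) (hg : g * h = h * g) : g ∈ f.MM hz.1 := by
  rw [f.mem_MM hz.1]
  refine f.om_sub w S hz hh hh1 tp m2 ⟨w.conjZ z hz.1 g, ?_⟩
  have h1 : Ce (g * h * g⁻¹) (K (g * z * g⁻¹)) := w.ce_conj hz.1 g (w.TT_cen S.isPGroup' hz hh)
  rwa [hg, mul_inv_cancel_right] at h1

omit f w in
/-- Sylow's theorem in a subgroup containing a Sylow subgroup of `G` -/
theorem exists_conj_into {M D : Subgroup G} (hS : (S : Subgroup G) ≤ M) (hD : IsPGroup 2 D) (hDM : D ≤ M) :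
    ∃ m ∈ M, ∀ d ∈ D, m * d * m⁻¹ ∈ (S : Subgroup G) := by
  have h1 := StdEven.Syl.isSyl_top_of_sylow S
  have h2 : StdEven.Syl.IsSyl (S : Subgroup G) M := ⟨hS, h1.two, fun X hX _ hSX => h1.max X hX le_top hSX⟩
  exact h2.exists_conj hD hDM

omit [Finite G] f w in
theorem comm_aux {k b : G} (hbb : b * b = 1) (h1 : k * (b * k * b⁻¹) = b * k * b⁻¹ * k) :
    k * (b * k * b⁻¹) * b = b * (k * (b * k * b⁻¹)) := by
  have hbi : b⁻¹ = b := inv_eq_of_mul_eq_one_right hbb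
  rw [hbi] at h1 ⊢
  calc k * (b * k * b) * b = k * b * k * (b * b) := by group
    _ = k * b * k := by rw [hbb, mul_one]
    _ = (k * (b * k * b)) * b := by
      calc k * b * k = k * b * k * (b * b) := by rw [hbb, mul_one]
        _ = (k * (b * k * b)) * b := by group
    _ = b * k * b * k * b := by rw [h1]
    _ = b * (k * (b * k * b)) := by group

/-- **(F4)**: `g h g⁻¹ ∈ M` implies `g ∈ M` -/
theorem mem_MM_of_conj (cn : CnZ Z K) (hz : z ∈ CS Z K (S : Subgroup G)) (hh : h ∈ TT Z K (S : Subgroup G)) (hh1 : h ≠ 1)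
    (tp : TPS Z K (S : Subgroup G)) (m2 : MTwo Z K (S : Subgroup G)) (hg : g * h * g⁻¹ ∈ f.MM hz.1) :
    g ∈ f.MM hz.1 := by
  by_contra hgn
  have hS := S.isPGroup'
  have hhh : h * h = 1 := w.TT_sq hS hh
  -- we may assume `g h g⁻¹ ∈ S`
  have hzp : IsPGroup 2 (zpowers (g * h * g⁻¹)) := by
    have h1 : (g * h * g⁻¹) ^ 2 = 1 := by
      rw [pow_two]
      calc g * h * g⁻¹ * (g * h * g⁻¹) = g * (h * h) * g⁻¹ := by group
        _ = 1 := by rw [hhh]; group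
    rw [IsPGroup.iff_card]
    rcases (Nat.dvd_prime Nat.prime_two).1 (orderOf_dvd_of_pow_eq_one h1) with h2 | h2
    · exact ⟨0, by rw [Nat.card_zpowers, h2, pow_zero]⟩
    · exact ⟨1, by rw [Nat.card_zpowers, h2, pow_one]⟩
  obtain ⟨m, hm, hmS⟩ := exists_conj_into S (f.S_le w hS hz) hzp (by rw [zpowers_le]; exact hg)
  have hb : m * g * h * (m * g)⁻¹ ∈ (S : Subgroup G) := by
    have h1 := hmS _ (mem_zpowers _)
    have e : m * g * h * (m * g)⁻¹ = m * (g * h * g⁻¹) * m⁻¹ := by group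
    rwa [e]
  have hgn' : m * g ∉ f.MM hz.1 := fun h1 => hgn (by
    have h2 := mul_mem (inv_mem hm) h1
    rwa [inv_mul_cancel_left] at h2)
  clear hgn hg hzp hmS
  generalize m * g = g at hb hgn'
  set b := g * h * g⁻¹ with hbdef
  have hbb : b * b = 1 := by
    calc b * b = g * (h * h) * g⁻¹ := by rw [hbdef]; group
      _ = 1 := by rw [hhh]; group
  have hgz : g * z * g⁻¹ ∈ Z := w.conjZ z hz.1 g
  -- `C(b) ≤ M ^ g`
  have hCb : ∀ x, x * b = b * x → x ∈ f.MM hgz := by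
    intro x hx
    have h1 : (g⁻¹ * x * g) * h = h * (g⁻¹ * x * g) := by
      calc (g⁻¹ * x * g) * h = g⁻¹ * (x * b) * g := by rw [hbdef]; group
        _ = g⁻¹ * (b * x) * g := by rw [hx]
        _ = h * (g⁻¹ * x * g) := by rw [hbdef]; group
    have h2 := f.cent_le w S hz hh hh1 tp m2 h1
    rw [f.mem_MM hz.1] at h2
    rw [f.mem_MM hgz]
    have h3 := f.conj z hz.1 g _ h2
    have e : g * (g⁻¹ * x * g * z * (g⁻¹ * x * g)⁻¹) * g⁻¹ = x * (g * z * g⁻¹) * x⁻¹ := by group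
    rwa [e] at h3
  -- different frames
  have hdis : ∀ y, y ∈ Sg z → y ∈ Sg (g * z * g⁻¹) → False := by
    intro y hy1 hy2
    apply hgn'
    rw [f.mem_MM hz.1, ← f.sgEq z hz.1 y hy1, f.sgEq _ hgz y hy2]
    exact f.selfS hgz
  -- `b` commutes with no member of `S`
  have hmv : ∀ y ∈ CS Z K (S : Subgroup G), b * y * b⁻¹ ≠ y := by
    intro y hy he
    have h1 : y * b = b * y := (mul_inv_eq_iff_eq_mul.1 he).symm
    exact hdis y (f.cs_sub w hS hz hy) (f.mem_of_MM hgz hy.1 (hCb y h1))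
  -- the Sylow subgroup `S'`
  have hgS : ((g • S : Sylow 2 G) : Subgroup G) = cj g (S : Subgroup G) := rfl
  have hzg : g * z * g⁻¹ ∈ CS Z K ((g • S : Sylow 2 G) : Subgroup G) := by
    rw [hgS]
    exact (w.cj_CS g _ hz.1).2 hz
  have hDM : (S : Subgroup G) ⊓ centralizer {b} ≤ f.MM hgz := fun x hx =>
    hCb x (mem_centralizer_singleton_iff.1 (mem_inf.1 hx).2)
  obtain ⟨n, hn, hnS⟩ := exists_conj_into (g • S) (f.S_le w (g • S).isPGroup' hzg) (hS.to_le inf_le_left) hDM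
  set S' : Sylow 2 G := n⁻¹ • (g • S) with hS'
  have hS'e : (S' : Subgroup G) = cj n⁻¹ ((g • S : Sylow 2 G) : Subgroup G) := rfl
  have hDS' : (S : Subgroup G) ⊓ centralizer {b} ≤ S' := by
    intro x hx
    rw [hS'e, mem_cj, inv_inv]
    exact hnS x hx
  have hCS' : ∀ y ∈ CS Z K (S' : Subgroup G), y ∈ Sg (g * z * g⁻¹) := by
    intro y hy
    rw [hS'e] at hy
    have e : y = n⁻¹ * (n * y * n⁻¹) * n⁻¹⁻¹ := by group
    have hyZ : n * y * n⁻¹ ∈ Z := w.conjZ y hy.1 n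
    rw [e] at hy
    have h1 := (w.cj_CS n⁻¹ _ hyZ).1 hy
    rw [e]
    exact f.mem_MM_conj hgz (inv_mem hn) (f.cs_sub w (g • S).isPGroup' hzg h1)
  refine Mv.false (S := S) (S' := S') (b := b)
    { w := w
      cn := cn
      ne := ⟨z, hz⟩
      mem := hb
      sq := hbb
      mv := hmv
      le := by
        intro y hy k hk
        apply hDS'
        have hbk : b * k * b⁻¹ ∈ (S : Subgroup G) := mul_mem (mul_mem hb (hy.2 hk)) (inv_mem hb)
        refine mem_inf.2 ⟨mul_mem (hy.2 hk) hbk, mem_centralizer_singleton_iff.2 ?_⟩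
        have hy' := f.cs_conj w hy hb
        have hcp := w.com S hS hy.1 hy'.1 hy.2 hy'.2 (fun e => hmv y hy e.symm)
        have h1 : k * (b * k * b⁻¹) = b * k * b⁻¹ * k := hcp.2 k hk _ (w.conj_mem_K hy.1 b hk)
        exact comm_aux hbb h1
      fx := by
        intro x hx hx1 y hy he
        have h2 : y * x = x * y := (mul_inv_eq_iff_eq_mul.1 he).symm
        have hxT : x ∈ TT Z K (S : Subgroup G) := by
          have h3 : closure {x | ∃ y ∈ CS Z K (S : Subgroup G), x = y * (b * y * b⁻¹)} ≤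
              TT Z K (S : Subgroup G) := by
            rw [closure_le]
            rintro _ ⟨y', hy', rfl⟩
            exact mul_mem (subset_closure hy') (subset_closure (f.cs_conj w hy' hb))
          exact h3 hx
        have h3 := f.cent_le w S hz hxT hx1 tp m2 h2
        exact hdis y (f.mem_of_MM hz.1 hy.1 h3) (hCS' y hy) }

end main

/-! ### The forms used in (F5) -/

section forms

variable [Finite G] (f : Fram Z K Sg Kl) (w : GW Z K)

theorem MM_eq (f : Fram Z K Sg Kl) (hz : z ∈ Z) (hu : u ∈ Sg z) : f.MM (f.mem_Z hz hu) = f.MM hz := by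
  ext g
  rw [f.mem_MM hz, f.mem_MM (f.mem_Z hz hu), f.sgEq z hz u hu]
  constructor
  · intro h1
    exact f.mem_MM_of hz hu h1
  · intro h1
    exact f.mem_MM_conj hz h1 hu

/-- every Sylow subgroup contains a member -/
theorem cs_nonempty (w : GW Z K) (hz : z ∈ Z) (S : Sylow 2 G) : ∃ u, u ∈ CS Z K (S : Subgroup G) := by
  obtain ⟨S₀, h0⟩ := w.exists_sylow hz
  obtain ⟨g, rfl⟩ := MulAction.exists_smul_eq G S₀ S
  exact ⟨g * z * g⁻¹, (w.cj_CS g _ hz).2 h0⟩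

include w

/-- a member of a Sylow subgroup of `M` -/
theorem exists_cs (hz : z ∈ Z) (S : Sylow 2 G) (hS : (S : Subgroup G) ≤ f.MM hz) :
    ∃ u, ∃ hu : u ∈ CS Z K (S : Subgroup G), u ∈ Sg z ∧ f.MM hu.1 = f.MM hz := by
  obtain ⟨u, hu⟩ := cs_nonempty w hz S
  have h1 : u ∈ Sg z := f.mem_of_MM hz hu.1 (hS (hu.2 (w.mem u hu.1)))
  exact ⟨u, hu, h1, f.MM_eq hz h1⟩

/-- **(F4)**: `S ≤ M`, `s ∈ T_S`, `s ≠ 1`: `C(s) ≤ M` -/
theorem cen (hz : z ∈ Z) (S : Sylow 2 G) (hS : (S : Subgroup G) ≤ f.MM hz) (tp : TPS Z K (S : Subgroup G))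
    (m2 : MTwo Z K (S : Subgroup G)) {s : G} (hs : s ∈ TT Z K (S : Subgroup G)) (hs1 : s ≠ 1) :
    centralizer {s} ≤ f.MM hz := by
  obtain ⟨u, hu, -, he⟩ := f.exists_cs w hz S hS
  rw [← he]
  exact fun g hg => f.cent_le w S hu hs hs1 tp m2 (mem_centralizer_singleton_iff.1 hg)

/-- **(F4)**: `S ≤ M`, `s ∈ T_S`, `s ≠ 1`, `g s g⁻¹ ∈ M`: `g ∈ M` -/
theorem mem' (cn : CnZ Z K) (hz : z ∈ Z) (S : Sylow 2 G) (hS : (S : Subgroup G) ≤ f.MM hz) (tp : TPS Z K (S : Subgroup G))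
    (m2 : MTwo Z K (S : Subgroup G)) {s : G} (hs : s ∈ TT Z K (S : Subgroup G)) (hs1 : s ≠ 1)
    (hg : g * s * g⁻¹ ∈ f.MM hz) : g ∈ f.MM hz := by
  obtain ⟨u, hu, -, he⟩ := f.exists_cs w hz S hS
  rw [← he] at hg ⊢
  exact f.mem_MM_of_conj w S cn hu hs hs1 tp m2 hg

omit w in
omit [Finite G] in
/-- `Z ∩ M` is the frame -/
theorem mem_Sg_iff (hz : z ∈ Z) : x ∈ Sg z ↔ x ∈ Z ∧ x ∈ f.MM hz :=
  ⟨fun hx => ⟨f.mem_Z hz hx, f.mem_MM_of_comm hz hx rfl⟩, fun hx => f.mem_of_MM hz hx.1 hx.2⟩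

omit [Finite G] in
/-- an element fusing an element of `Z ∩ M` into `M` lies in `M` -/
theorem mem_of_fus (hz : z ∈ Z) (hx : x ∈ Sg z) (hg : g * x * g⁻¹ ∈ f.MM hz) : g ∈ f.MM hz :=
  f.mem_MM_of hz hx (f.mem_of_MM hz (w.conjZ x (f.mem_Z hz hx) g) hg)

/-- `S ≤ M` if `M` contains a member of `S` -/
theorem S_le_of_mem (hz : z ∈ Z) (S : Sylow 2 G) (hx : x ∈ Sg z) (hxS : K x ≤ (S : Subgroup G)) :
    (S : Subgroup G) ≤ f.MM hz := by
  rw [← f.MM_eq hz hx]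
  exact f.S_le w S.isPGroup' ⟨f.mem_Z hz hx, hxS⟩

end forms

end Fram

end Cfsg.Agent.Cit.Nil.CompR
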