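import Cfsg.Agent.Cit.Nil.CompR.Loc
import Cfsg.Agent.Cit.Nil.CompR.Csw
import Cfsg.Agent.Cit.Nil.CompR.Count

/-!
# S1309 (6b), COMP, `r = 2`: the product situation, (F3) when a good product exists (helper724, bb R18 #20156, part 1)

* `PW.not_le_PM`, `PW.comm_CS`, `PW.exists_sylow_le` : the setting;
* `PW.good_mul` : `C(ue) ≤ M` if `u, e ∈ C_S` centralise a block;
* `PW.sf_of_good` : **(F3)** if there is a product `ue` with `C(ue) ≤ M`.
-/

set_option autoImplicit false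
set_option linter.style.haveILetI false
set_option linter.unusedSectionVars false

namespace Cfsg.Agent.Cit.Nil.CompR

open Subgroup Cfsg Cfsg.Agent.Cit Cfsg.Agent.Cit.Nil.AN
open Cfsg.Agent.Cit.Nil.ROne (CP CS TT OneCls CSw)
open Cfsg.Agent.Cit.Nil.RTwoM.L1 (WG WS)
open Cfsg.Agent.OddOrderLocal.NilParts Cfsg.Agent.StdEven.Syl

variable {G : Type*} [Group G] {Z : Set G} {K : G → Subgroup G} {z u v x y g s t e a b c : G} {A B : Set G}
  {F F' : Set (Set G)}

section card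

variable [Finite G]

theorem two_mul_card_le {A B : Subgroup G} (hAB : A ≤ B) (hx : x ∈ B) (hxA : x ∉ A) :
    2 * Nat.card A ≤ Nat.card B := by
  have h1 : Nat.card A ∣ Nat.card B := card_dvd_of_le hAB
  obtain ⟨k, hk⟩ := h1
  have hB : 0 < Nat.card B := Nat.card_pos
  have hk0 : k ≠ 0 := by rintro rfl; omega
  have hk1 : k ≠ 1 := by
    rintro rfl
    rw [mul_one] at hk
    have h2 := Subgroup.eq_of_le_of_card_ge hAB hk.le
    exact hxA (h2 ▸ hx)
  rw [hk, mul_comm]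
  exact Nat.mul_le_mul_left _ (by omega)

omit [Finite G] in
/-- the elements of `⟨H, a⟩` for an involution `a` centralising `H` -/
theorem mem_sup_invol {H : Subgroup G} (haa : a * a = 1) (ha : ∀ h ∈ H, a * h = h * a)
    (hx : x ∈ (zpowers a ⊔ H : Subgroup G)) : x ∈ H ∨ a * x ∈ H := by
  let N : Subgroup G :=
    { carrier := {x | x ∈ H ∨ a * x ∈ H}
      one_mem' := Or.inl (one_mem _)
      mul_mem' := by
        rintro x y (hx | hx) (hy | hy)
        · exact Or.inl (mul_mem hx hy)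
        · right
          have : a * (x * y) = x * (a * y) := by rw [← mul_assoc, ha x hx, mul_assoc]
          rw [this]
          exact mul_mem hx hy
        · right
          rw [← mul_assoc]
          exact mul_mem hx hy
        · left
          have h1 := ha _ hx
          have : x * y = (a * x) * (a * y) := by
            calc x * y = (a * a) * x * y := by rw [haa, one_mul]
              _ = (a * (a * x)) * y := by group
              _ = ((a * x) * a) * y := by rw [h1]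
              _ = _ := by group
          rw [this]
          exact mul_mem hx hy
      inv_mem' := by
        rintro x (hx | hx)
        · exact Or.inl (inv_mem hx)
        · right
          have h1 := ha _ (inv_mem hx)
          rw [mul_inv_rev, ← mul_assoc] at h1
          have ha' : a⁻¹ = a := inv_eq_of_mul_eq_one_right haa
          rw [ha'] at h1
          have h2 : a * x⁻¹ = x⁻¹ * a := by
            have h3 : a * x⁻¹ * a * a = x⁻¹ * a * a * a := by rw [h1]
            rw [mul_assoc, haa, mul_one, mul_assoc (x⁻¹ * a), haa, mul_one] at h3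
            exact h3
          rw [h2]
          have h4 := inv_mem hx
          rwa [mul_inv_rev, ha'] at h4 }
  have hle : zpowers a ⊔ H ≤ N := by
    refine sup_le ((zpowers_le).2 (Or.inr ?_)) fun x hx => Or.inl hx
    rw [haa]
    exact one_mem _
  exact hle hx

/-- `|⟨H, a⟩| ≤ 2 |H|` for an involution `a` centralising `H` -/
theorem card_sup_le {H : Subgroup G} (haa : a * a = 1) (ha : ∀ h ∈ H, a * h = h * a) :
    Nat.card (zpowers a ⊔ H : Subgroup G) ≤ 2 * Nat.card H := by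
  have h2 : Nat.card (zpowers a ⊔ H : Subgroup G) ≤ ((H : Set G) ∪ (fun x => a * x) ⁻¹' (H : Set G)).ncard := by
    rw [← Nat.card_coe_set_eq]
    exact Nat.card_le_card_of_injective (fun x : (zpowers a ⊔ H : Subgroup G) => ⟨x.1, mem_sup_invol haa ha x.2⟩)
      fun x y hxy => Subtype.ext (by
        have := congrArg Subtype.val hxy
        exact this)
  refine h2.trans ((Set.ncard_union_le _ _).trans ?_)
  have h3 : ((fun x => a * x) ⁻¹' (H : Set G)).ncard = (H : Set G).ncard :=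
    Set.ncard_preimage_of_injective_subset_range (mul_right_injective a) fun x _ => ⟨a⁻¹ * x, by simp⟩
  rw [h3, ← Nat.card_coe_set_eq]
  have h4 : Nat.card (H : Set G) = Nat.card H := rfl
  omega

/-- a group generated by `n` commuting involutions has order at most `2 ^ n` -/
theorem card_closure_le (A : Finset G) (h2 : ∀ a ∈ A, a * a = 1) (hc : ∀ a ∈ A, ∀ b ∈ A, a * b = b * a) :
    Nat.card (closure (A : Set G)) ≤ 2 ^ A.card := by
  classical
  induction A using Finset.induction_on with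
  | empty => simp
  | insert a A ha ih =>
    have h1 := ih (fun b hb => h2 b (Finset.mem_insert_of_mem hb)) fun b hb c hc' =>
      hc b (Finset.mem_insert_of_mem hb) c (Finset.mem_insert_of_mem hc')
    rw [Finset.coe_insert, Set.insert_eq, Subgroup.closure_union, Finset.card_insert_of_notMem ha, pow_succ,
      ← zpowers_eq_closure]
    have h3 : ∀ b ∈ closure (A : Set G), a * b = b * a := by
      intro b hb
      have h4 : closure (A : Set G) ≤ centralizer {a} := (closure_le _).2 fun b hb =>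
        mem_centralizer_singleton_iff.2 (hc b (Finset.mem_insert_of_mem hb) a (Finset.mem_insert_self a A))
      exact (mem_centralizer_singleton_iff.1 (h4 hb)).symm
    have h5 := card_sup_le (h2 a (Finset.mem_insert_self a A)) h3
    omega

end card

namespace PW

variable [Finite G] (p : PW Z K)

include p

/-- conjugate an element of `Z ∩ M` into a Sylow subgroup -/
theorem exists_conj_sylow (hz : z ∈ Z) {S : Sylow 2 G} (hzS : z ∈ CS Z K (S : Subgroup G)) {X : Subgroup G}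
    (hX : IsPGroup 2 X) (hXM : X ≤ p.PM z hz) : ∃ n ∈ p.PM z hz, ∀ x ∈ X, n * x * n⁻¹ ∈ (S : Subgroup G) := by
  have hSM : (S : Subgroup G) ≤ p.PM z hz := p.sylow_le S.isPGroup' hz hzS.2
  have hSy : IsSyl (S : Subgroup G) (p.PM z hz) := (isSyl_top_of_sylow S).mono hSM le_top
  exact hSy.exists_conj hX hXM

/-- `M` preserves `Σ` -/
theorem sf_of_conj (hz : z ∈ Z) {n : G} (hn : n ∈ p.PM z hz) (h1 : SF Z K z (n * x * n⁻¹)) : SF Z K z x := by
  have h2 := p.sf_conj n⁻¹ h1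
  rw [conj_inv_conj] at h2
  exact p.sf_trans ((p.mem_PM_iff hz).1 (inv_mem hn)) h2

theorem sf_conj_of (hz : z ∈ Z) {n : G} (hn : n ∈ p.PM z hz) (h1 : SF Z K z x) : SF Z K z (n * x * n⁻¹) :=
  p.sf_trans hn (p.sf_conj n h1)

/-- `R_x ≤ M` is impossible for `x ∉ Σ` -/
theorem not_le_PM (hz : z ∈ Z) (hx : x ∈ Z) (hn : ¬ SF Z K z x) : ¬ K x ≤ p.PM z hz := by
  intro hle
  obtain ⟨S, hzS⟩ := p.w.exists_sylow hz
  obtain ⟨n, hn1, hn2⟩ := p.exists_conj_sylow hz hzS (p.w.two hx) hle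
  refine hn (p.sf_of_conj hz hn1 (p.sf_CS S.isPGroup' hzS ⟨p.w.conjZ x hx n, ?_⟩))
  rw [p.w.conjK x hx]
  intro k hk
  have h1 := hn2 _ (mem_cj.1 hk)
  have e1 : n * (n⁻¹ * k * n) * n⁻¹ = k := by group
  rwa [e1] at h1

variable (ws : WS Z K)

include ws

/-- an element of `Z ∩ S`, not in the frame of `z`, commutes with `C_S` -/
theorem comm_CS {S : Subgroup G} (hS : IsPGroup 2 S) (hz : z ∈ CS Z K S) (hx : x ∈ Z) (hxS : x ∈ S)
    (hn : ¬ SF Z K z x) : ∀ v ∈ CS Z K S, x * v = v * x := by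
  intro v hv
  by_contra hne
  have hv' := p.conj_CS hxS hv
  have hne' : v ≠ x * v * x⁻¹ := fun e => hne (by
    calc x * v = x * v * x⁻¹ * x := by group
      _ = v * x := by rw [← e])
  exact hn (p.sf_trans (p.sf_CS hS hz hv) (p.csw ws hv.1 hx (p.w.com S hS hv.1 hv'.1 hv.2 hv'.2 hne')))

/-- **the setting** -/
theorem exists_setting {S : Sylow 2 G} (hz : z ∈ CS Z K (S : Subgroup G)) (hx : x ∈ Z) (hxM : x ∈ p.PM z hz.1)
    (hn : ¬ SF Z K z x) : ∃ S' : Sylow 2 G, (S' : Subgroup G) ⊓ p.PM z hz.1 ≤ S ∧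
      (CS Z K (S' : Subgroup G)).Nonempty ∧
      (∀ y ∈ CS Z K (S' : Subgroup G), y ∈ (S : Subgroup G) ∧ y ∈ p.PM z hz.1 ∧ ¬ SF Z K z y) ∧
      ∀ y ∈ CS Z K (S' : Subgroup G), ∀ v ∈ CS Z K (S : Subgroup G), y * v = v * y := by
  -- `x` in `S`
  obtain ⟨n₀, hn₀, hn₀'⟩ := p.exists_conj_sylow hz.1 hz (isPGroup_zpowers_inv (p.w.sq x hx)) (by rwa [zpowers_le])
  obtain ⟨x₀, rfl⟩ : ∃ x₀, x₀ = n₀ * x * n₀⁻¹ := ⟨_, rfl⟩
  have hx₀S := hn₀' x (mem_zpowers x)
  set x₀ := n₀ * x * n₀⁻¹ with hx₀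
  have hx₀Z : x₀ ∈ Z := p.w.conjZ x hx n₀
  have hnx₀ : ¬ SF Z K z x₀ := fun h1 => hn (p.sf_of_conj hz.1 hn₀ h1)
  have hc₀ := p.comm_CS ws S.isPGroup' hz hx₀Z hx₀S hnx₀
  -- a Sylow subgroup containing `K x₀` and `T_S`
  have hT : IsPGroup 2 (K x₀ ⊔ TT Z K (S : Subgroup G) : Subgroup G) := by
    refine IsPGroup.to_sup_of_normal_left' (p.w.two hx₀Z) (S.isPGroup'.to_le p.w.TT_le) ?_
    have h1 : TT Z K (S : Subgroup G) ≤ centralizer {x₀} := (closure_le _).2 fun v hv =>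
      mem_centralizer_singleton_iff.2 (hc₀ v hv).symm
    exact fun v hv => p.w.mem_norm hx₀Z (mem_centralizer_singleton_iff.1 (h1 hv))
  obtain ⟨S₁, hS₁⟩ := hT.exists_le_sylow
  have hx₁ : x₀ ∈ CS Z K (S₁ : Subgroup G) := ⟨hx₀Z, le_sup_left.trans hS₁⟩
  have hv₁ : ∀ v ∈ CS Z K (S : Subgroup G), v ∈ (S₁ : Subgroup G) := fun v hv =>
    hS₁ (le_sup_right (a := K x₀) (subset_closure hv))
  have hcc : ∀ y ∈ CS Z K (S₁ : Subgroup G), ∀ v ∈ CS Z K (S : Subgroup G), v * y = y * v := fun y hy v hv =>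
    p.comm_CS ws S₁.isPGroup' hx₁ hv.1 (hv₁ v hv)
      (fun h1 => hnx₀ (p.sf_trans (p.sf_CS S.isPGroup' hz hv) h1.symm)) y hy
  have hnS : ∀ y ∈ CS Z K (S₁ : Subgroup G), ¬ SF Z K z y := fun y hy h1 =>
    hnx₀ (p.sf_trans h1 (p.sf_CS S₁.isPGroup' hx₁ hy).symm)
  have hyM : ∀ y ∈ CS Z K (S₁ : Subgroup G), y ∈ p.PM z hz.1 := fun y hy =>
    p.centralizer_le hz.1 (p.sf_refl hz.1) (mem_centralizer_singleton_iff.2 (hcc y hy z hz).symm)
  -- conjugate `S₁ ∩ M` into `S`
  obtain ⟨n, hnM, hn1⟩ := p.exists_conj_sylow hz.1 hz (X := (S₁ : Subgroup G) ⊓ p.PM z hz.1)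
    (S₁.isPGroup'.to_le inf_le_left) inf_le_right
  have hgS : ((n • S₁ : Sylow 2 G) : Subgroup G) = cj n S₁ := rfl
  have hback : ∀ y ∈ CS Z K ((n • S₁ : Sylow 2 G) : Subgroup G), ∃ y₁ ∈ CS Z K (S₁ : Subgroup G), y = n * y₁ * n⁻¹ := by
    intro y hy
    rw [hgS] at hy
    have e1 : y = n * (n⁻¹ * y * n) * n⁻¹ := by group
    have hyZ : n⁻¹ * y * n ∈ Z := by
      have := p.w.conjZ y hy.1 n⁻¹
      rwa [inv_inv] at this
    rw [e1] at hy
    exact ⟨_, (p.w.cj_CS n S₁ hyZ).1 hy, e1⟩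
  have hin : ∀ y ∈ CS Z K ((n • S₁ : Sylow 2 G) : Subgroup G), y ∈ (S : Subgroup G) ∧ y ∈ p.PM z hz.1 ∧
      ¬ SF Z K z y := by
    intro y hy
    obtain ⟨y₁, hy₁, rfl⟩ := hback y hy
    refine ⟨hn1 y₁ ⟨hy₁.2 (p.w.mem y₁ hy₁.1), hyM y₁ hy₁⟩, ?_, fun h1 => hnS y₁ hy₁ (p.sf_of_conj hz.1 hnM h1)⟩
    exact mul_mem (mul_mem hnM (hyM y₁ hy₁)) (inv_mem hnM)
  refine ⟨n • S₁, ?_, ⟨n * x₀ * n⁻¹, ?_⟩, hin, fun y hy => ?_⟩
  · intro y hy
    obtain ⟨h1, h2⟩ := mem_inf.1 hy
    rw [hgS, mem_cj] at h1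
    have h3 : n⁻¹ * y * n ∈ p.PM z hz.1 := mul_mem (mul_mem (inv_mem hnM) h2) hnM
    have h4 := hn1 _ ⟨h1, h3⟩
    have e1 : n * (n⁻¹ * y * n) * n⁻¹ = y := by group
    rwa [e1] at h4
  · rw [hgS]
    exact (p.w.cj_CS n S₁ hx₀Z).2 hx₁
  · exact p.comm_CS ws S.isPGroup' hz hy.1 (hin y hy).1 (hin y hy).2.2

omit ws in
omit p in
/-- `C_S` and `C_{S'}` have the same size -/
theorem _root_.Cfsg.Agent.Cit.Nil.CompR.GW.ncard_CS_eq (w : GW Z K) (S S' : Sylow 2 G) :
    (CS Z K (S' : Subgroup G)).ncard = (CS Z K (S : Subgroup G)).ncard := by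
  haveI : Fact (Nat.Prime 2) := ⟨Nat.prime_two⟩
  obtain ⟨g, hg⟩ := MulAction.exists_smul_eq G S S'
  have hgS : (S' : Subgroup G) = cj g S := by
    rw [← hg]
    rfl
  rw [hgS, w.ncard_CS_cj g S]

omit ws in
/-- `C_S` has at least two points -/
theorem exists_ne_CS {S : Sylow 2 G} (hy : y ∈ CS Z K (S : Subgroup G)) :
    ∃ y' ∈ CS Z K (S : Subgroup G), y' ≠ y := by
  obtain ⟨F, f, A, hA, hyA⟩ := p.fr y hy.1
  obtain ⟨B, hB, hBA⟩ := f.other hA
  obtain ⟨u, hu, huB⟩ := p.meet f hy hA hyA hB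
  refine ⟨u, hu, ?_⟩
  rintro rfl
  exact hBA (f.disj p.w hB hA huB hyA)

/-- the situation of (2), (3), (4) -/
theorem false_of_good (loc : Loc3 Z K) (cn : CnZ Z K) {S S' : Sylow 2 G} (hz : z ∈ CS Z K (S : Subgroup G))
    (hle : (S' : Subgroup G) ⊓ p.PM z hz.1 ≤ S)
    (hin : ∀ y ∈ CS Z K (S' : Subgroup G), y ∈ (S : Subgroup G) ∧ y ∈ p.PM z hz.1 ∧ ¬ SF Z K z y)
    (hcc : ∀ y ∈ CS Z K (S' : Subgroup G), ∀ v ∈ CS Z K (S : Subgroup G), y * v = v * y)
    (hu : u ∈ CS Z K (S : Subgroup G)) (he : e ∈ CS Z K (S : Subgroup G)) (hue : u ≠ e)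
    (hg : centralizer {u * e} ≤ p.PM z hz.1) : False := by
  classical
  have w := p.w
  have hS := S.isPGroup'
  have hS' := S'.isPGroup'
  set T := TT Z K (S : Subgroup G) with hT
  -- (a) `T` commutes with `y`
  have hTy : ∀ y ∈ CS Z K (S' : Subgroup G), ∀ t ∈ T, t * y = y * t := by
    intro y hy t ht
    have h1 : T ≤ centralizer {y} := (closure_le _).2 fun v hv =>
      mem_centralizer_singleton_iff.2 (hcc y hy v hv).symm
    exact mem_centralizer_singleton_iff.1 (h1 ht)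
  have hyT : ∀ y ∈ CS Z K (S' : Subgroup G), y ∉ T := fun y hy h1 =>
    (hin y hy).2.2 (p.sf_CS hS hz (w.mem_CS_of_mem_TT S hy.1 h1))
  -- the members are not in `M`
  have hnle : ∀ y ∈ CS Z K (S' : Subgroup G), ¬ K y ≤ p.PM z hz.1 := fun y hy =>
    p.not_le_PM hz.1 hy.1 (hin y hy).2.2
  have hgood : ∀ v ∈ CS Z K (S : Subgroup G), centralizer {v} ≤ p.PM z hz.1 := fun v hv =>
    p.centralizer_le hz.1 (p.sf_CS hS hz hv)
  -- good elements do not centralise `K y`
  have hgn : ∀ t : G, centralizer {t} ≤ p.PM z hz.1 → ∀ y ∈ CS Z K (S' : Subgroup G), ¬ Ce t (K y) :=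
    fun t ht y hy h1 => hnle y hy fun k hk => ht (mem_centralizer_singleton_iff.2 (h1 k hk).symm)
  -- `S` normalises `T`
  have hST : ∀ s ∈ (S : Subgroup G), ∀ t ∈ T, s * t * s⁻¹ ∈ T := by
    intro s hs t ht
    have h1 : T ≤ cj s⁻¹ T := (closure_le _).2 fun v hv => by
      rw [SetLike.mem_coe, mem_cj, inv_inv]
      exact subset_closure (p.conj_CS hs hv)
    have h2 := h1 ht
    rwa [mem_cj, inv_inv] at h2
  -- (3)
  have h3 : ∀ y ∈ CS Z K (S' : Subgroup G), ∃ t ∈ T, t ∈ K y ∧ t ≠ 1 := by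
    intro y hy
    by_contra hcon
    push Not at hcon
    have hP : ∀ t ∈ T, centralizer {t} ≤ p.PM z hz.1 → ∀ k ∈ K y, t * k = k * t ↔ k ∈ p.PM z hz.1 := by
      intro t ht htg k hk
      constructor
      · exact fun h1 => htg (mem_centralizer_singleton_iff.2 h1.symm)
      · intro h1
        have hkS : k ∈ (S : Subgroup G) := hle ⟨hy.2 hk, h1⟩
        have h2 : k * t * k⁻¹ * t⁻¹ ∈ T := mul_mem (hST k hkS t ht) (inv_mem ht)
        have h4 : k * t * k⁻¹ * t⁻¹ ∈ K y := by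
          have e1 : k * t * k⁻¹ * t⁻¹ = k * (t * k⁻¹ * t⁻¹) := by group
          rw [e1]
          refine mul_mem hk ?_
          exact (mem_normalizer_iff.1 (w.mem_norm hy.1 (hTy y hy t ht)) k⁻¹).1 (inv_mem hk)
        have h5 := hcon _ h2 h4
        rw [mul_inv_eq_one, mul_inv_eq_iff_eq_mul] at h5
        exact h5.symm
    have huT : u ∈ T := subset_closure hu
    have heT : e ∈ T := subset_closure he
    have g1 := hP u huT (hgood u hu)
    have g2 := hP e heT (hgood e he)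
    have g3 := hP (u * e) (mul_mem huT heT) hg
    refine hgn u (hgood u hu) y hy (loc y hy.1 u e (w.sq u hu.1) (w.sq e he.1) ?_ (hTy y hy u huT) (hTy y hy e heT)
      (fun k hk => (g1 k hk).trans (g2 k hk).symm) fun k hk => (g1 k hk).trans (g3 k hk).symm)
    exact w.comm_of_cp hu.1 he.1 (w.com S hS hu.1 he.1 hu.2 he.2 hue)
  choose! τ hτT hτK hτ1 using h3
  -- (4)
  have hτc : ∀ y ∈ CS Z K (S' : Subgroup G), ∀ y' ∈ CS Z K (S' : Subgroup G), y ≠ y' → Ce (τ y) (K y') := by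
    intro y hy y' hy' hne k hk
    exact (w.com S' hS' hy.1 hy'.1 hy.2 hy'.2 hne).2 (τ y) (hτK y hy) k hk
  have hτn : ∀ y ∈ CS Z K (S' : Subgroup G), ¬ Ce (τ y) (K y) := by
    intro y hy h1
    rcases cn y hy.1 (τ y) (hτK y hy) h1 with h2 | h2
    · exact hτ1 y hy h2
    · exact hyT y hy (h2 ▸ hτT y hy)
  -- the subgroups `W A`
  let W : Finset G → Subgroup G := fun A => T ⊓ ⨅ y ∈ A, centralizer (K y : Set G)
  have memW : ∀ {A : Finset G} {t : G}, t ∈ W A ↔ t ∈ T ∧ ∀ y ∈ A, Ce t (K y) := by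
    intro A t
    simp only [W, mem_inf, mem_iInf, mem_centralizer_iff]
    exact ⟨fun h => ⟨h.1, fun y hy k hk => (h.2 y hy k hk).symm⟩, fun h => ⟨h.1, fun y hy k hk => (h.2 y hy k hk).symm⟩⟩
  have hfin : (CS Z K (S' : Subgroup G)).Finite := Set.toFinite _
  have key : ∀ A B : Finset G, (∀ y ∈ A, y ∈ CS Z K (S' : Subgroup G)) → (∀ y ∈ B, y ∈ CS Z K (S' : Subgroup G)) →
      Disjoint A B → 2 ^ A.card * Nat.card (W (A ∪ B)) ≤ Nat.card (W B) := by
    intro A B hA hB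
    induction A using Finset.induction_on with
    | empty =>
      intro _
      rw [Finset.card_empty, pow_zero, one_mul, Finset.empty_union]
    | insert a A ha ih =>
      intro hd
      rw [Finset.disjoint_insert_left] at hd
      have h1 := ih (fun y hy => hA y (Finset.mem_insert_of_mem hy)) hd.2
      have haC := hA a (Finset.mem_insert_self a A)
      have h2 : 2 * Nat.card (W (insert a A ∪ B)) ≤ Nat.card (W (A ∪ B)) := by
        refine two_mul_card_le (x := τ a) (fun t ht => ?_) ?_ ?_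
        · rw [memW] at ht ⊢
          exact ⟨ht.1, fun y hy => ht.2 y (by rw [Finset.insert_union]; exact Finset.mem_insert_of_mem hy)⟩
        · rw [memW]
          refine ⟨hτT a haC, fun y hy => hτc a haC y ?_ ?_⟩
          · rcases Finset.mem_union.1 hy with h3 | h3
            · exact hA y (Finset.mem_insert_of_mem h3)
            · exact hB y h3
          · rintro rfl
            rcases Finset.mem_union.1 hy with h3 | h3
            · exact ha h3
            · exact hd.1 h3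
        · rw [memW]
          exact fun h3 => hτn a haC (h3.2 a (by rw [Finset.insert_union]; exact Finset.mem_insert_self _ _))
      rw [Finset.card_insert_of_notMem ha, pow_succ]
      calc 2 ^ A.card * 2 * Nat.card (W (insert a A ∪ B)) = 2 ^ A.card * (2 * Nat.card (W (insert a A ∪ B))) := by
            rw [mul_assoc]
        _ ≤ 2 ^ A.card * Nat.card (W (A ∪ B)) := Nat.mul_le_mul_left _ h2
        _ ≤ _ := h1
  set C' : Finset G := hfin.toFinset with hC'
  have memC' : ∀ {y : G}, y ∈ C' ↔ y ∈ CS Z K (S' : Subgroup G) := by intro y; rw [hC', Set.Finite.mem_toFinset]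
  -- `|T| ≤ 2 ^ m`
  have hfinS : (CS Z K (S : Subgroup G)).Finite := Set.toFinite _
  have hcardT : Nat.card T ≤ 2 ^ C'.card := by
    have h1 : C'.card = hfinS.toFinset.card := by
      rw [hC', ← Set.ncard_eq_toFinset_card _ hfin, ← Set.ncard_eq_toFinset_card _ hfinS]
      exact w.ncard_CS_eq S S'
    have h2 : T = closure (hfinS.toFinset : Set G) := by
      rw [Set.Finite.coe_toFinset]
      rfl
    rw [h1, h2]
    refine card_closure_le _ (fun a ha => ?_) fun a ha b hb => ?_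
    · rw [Set.Finite.mem_toFinset] at ha
      exact w.sq a ha.1
    · rw [Set.Finite.mem_toFinset] at ha hb
      exact w.TT_comm hS (subset_closure ha) (subset_closure hb)
  have hWT : W ∅ = T := by
    ext t
    rw [memW]
    exact ⟨fun h => h.1, fun h => ⟨h, fun y hy => absurd hy (Finset.notMem_empty y)⟩⟩
  -- `W C' = 1`
  have hW1 : W C' = ⊥ := by
    have h1 := key C' ∅ (fun y hy => memC'.1 hy) (fun y hy => absurd hy (Finset.notMem_empty y))
      (Finset.disjoint_empty_right _)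
    rw [Finset.union_empty, hWT] at h1
    have h2 : 2 ^ C'.card * Nat.card (W C') ≤ 2 ^ C'.card * 1 := by rw [mul_one]; exact h1.trans hcardT
    have h4 := Nat.le_of_mul_le_mul_left h2 (pow_pos (by norm_num) _)
    exact (Subgroup.card_le_one_iff_eq_bot _).1 h4
  -- index at most 2
  have hidx : ∀ y ∈ C', Nat.card T ≤ 2 * Nat.card (W {y}) := by
    intro y hy
    have h1 := key (C'.erase y) {y} (fun y' hy' => memC'.1 (Finset.mem_of_mem_erase hy'))
      (fun y' hy' => memC'.1 (by rw [Finset.mem_singleton.1 hy']; exact hy))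
      (Finset.disjoint_singleton_right.2 (Finset.notMem_erase y C'))
    have h2 : 1 ≤ Nat.card (W (C'.erase y ∪ {y})) := Nat.card_pos
    have h4 : C'.card = (C'.erase y).card + 1 := (Finset.card_erase_add_one hy).symm
    rw [h4, pow_succ] at hcardT
    calc Nat.card T ≤ 2 ^ (C'.erase y).card * 2 := hcardT
      _ = 2 * (2 ^ (C'.erase y).card * 1) := by ring
      _ ≤ 2 * (2 ^ (C'.erase y).card * Nat.card (W (C'.erase y ∪ {y}))) :=
        Nat.mul_le_mul_left _ (Nat.mul_le_mul_left _ h2)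
      _ ≤ _ := Nat.mul_le_mul_left _ h1
  -- `u e ∈ W C'`
  have hmem : u * e ∈ W C' := by
    rw [memW]
    refine ⟨mul_mem (subset_closure hu) (subset_closure he), fun y hy => ?_⟩
    have hyC := memC'.1 hy
    -- otherwise `W {y} < ⟨W {y}, u⟩ < T`
    by_contra hcon
    have huW : u ∉ W {y} := fun h1 => hgn u (hgood u hu) y hyC ((memW.1 h1).2 y (Finset.mem_singleton_self y))
    have heW : e ∉ W {y} := fun h1 => hgn e (hgood e he) y hyC ((memW.1 h1).2 y (Finset.mem_singleton_self y))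
    have hueW : u * e ∉ W {y} := fun h1 => hcon ((memW.1 h1).2 y (Finset.mem_singleton_self y))
    have huT : u ∈ T := subset_closure hu
    have heT : e ∈ T := subset_closure he
    have hWT' : W {y} ≤ T := fun t ht => (memW.1 ht).1
    have h1 : 2 * Nat.card (W {y}) ≤ Nat.card (zpowers u ⊔ W {y} : Subgroup G) :=
      two_mul_card_le le_sup_right (le_sup_left (a := zpowers u) (mem_zpowers u)) huW
    have h2 : (zpowers u ⊔ W {y} : Subgroup G) = T :=
      Subgroup.eq_of_le_of_card_ge (sup_le ((zpowers_le).2 huT) hWT') ((hidx y hy).trans h1)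
    have h4 : e ∈ (zpowers u ⊔ W {y} : Subgroup G) := by rw [h2]; exact heT
    rcases mem_sup_invol (w.sq u hu.1) (fun h hh => w.TT_comm hS huT (hWT' hh)) h4 with h5 | h5
    · exact heW h5
    · exact hueW h5
  rw [hW1, mem_bot] at hmem
  exact hue (by rw [mul_eq_one_iff_eq_inv] at hmem; rw [hmem, w.inv he.1])

/-- **(F3) if there is a good product** -/
theorem sf_of_good (loc : Loc3 Z K) (cn : CnZ Z K) {S : Sylow 2 G} (hz : z ∈ CS Z K (S : Subgroup G))
    (hu : u ∈ CS Z K (S : Subgroup G)) (he : e ∈ CS Z K (S : Subgroup G)) (hue : u ≠ e)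
    (hg : centralizer {u * e} ≤ p.PM z hz.1) (hx : x ∈ Z) (hxM : x ∈ p.PM z hz.1) : SF Z K z x := by
  by_contra hn
  obtain ⟨S', h1, -, h3, h4⟩ := p.exists_setting ws hz hx hxM hn
  exact p.false_of_good ws loc cn hz h1 h3 h4 hu he hue hg

omit ws in
/-- the product of two elements of `C_S` is good if they lie outside a block -/
theorem good_mul {S : Sylow 2 G} (hz : z ∈ CS Z K (S : Subgroup G)) (f : Frm Z K F) (hA : A ∈ F) (hzA : z ∈ A)
    (hu : u ∈ CS Z K (S : Subgroup G)) (he : e ∈ CS Z K (S : Subgroup G)) (hue : u ≠ e) (hB : B ∈ F)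
    (huB : u ∉ B) (heB : e ∉ B) : centralizer {u * e} ≤ p.PM z hz.1 := by
  have w := p.w
  have hS := S.isPGroup'
  intro c hc
  have hcc := mem_centralizer_singleton_iff.1 hc
  obtain ⟨C₁, hC₁, hu₁⟩ := p.exists_block f hA hzA (p.sf_CS hS hz hu)
  obtain ⟨C₂, hC₂, he₂⟩ := p.exists_block f hA hzA (p.sf_CS hS hz he)
  have e1 : ∀ b ∈ B, Cm (K u) (K b) := fun b hb =>
    (p.cp_of f hC₁ hB (by rintro rfl; exact huB hu₁) hu₁ hb).2
  have e2 : ∀ b ∈ B, Cm (K e) (K b) := fun b hb =>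
    (p.cp_of f hC₂ hB (by rintro rfl; exact heB he₂) he₂ hb).2
  have hcp := w.com S hS hu.1 he.1 hu.2 he.2 hue
  have hs : ∀ b ∈ B, Ce (u * e) (K b) := fun b hb =>
    (ce_of_cm w hu.1 (e1 b hb).symm).mul (ce_of_cm w he.1 (e2 b hb).symm)
  have huO : u ∈ Om Z K (u * e) := ⟨hu.1, (ce_self w hu.1).mul (ce_of_cm w he.1 hcp.2)⟩
  -- `c u c⁻¹ ∈ Om(ue)`
  have hx : c * u * c⁻¹ ∈ Om Z K (u * e) := by
    refine ⟨w.conjZ u hu.1 c, ?_⟩
    rw [w.conjK u hu.1]
    intro k hk
    have h1 := huO.2 _ (mem_cj.1 hk)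
    have hcc' : (u * e) * c = c * (u * e) := hcc.symm
    calc u * e * k = (u * e * c) * (c⁻¹ * k * c) * c⁻¹ := by group
      _ = c * (u * e * (c⁻¹ * k * c)) * c⁻¹ := by rw [hcc']; group
      _ = c * ((c⁻¹ * k * c) * (u * e)) * c⁻¹ := by rw [h1]
      _ = k * (c * (u * e)) * c⁻¹ := by group
      _ = k * (u * e) := by rw [← hcc']; group
  have hsu := p.sf_CS hS hz hu
  refine p.mem_PM_of_sf hz.1 hsu ?_
  by_cases hcm : Cm (K (c * u * c⁻¹)) (K u)
  · exact p.cp hu.1 hx.1 ((cp_iff w hu.1).2 hcm.symm)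
  · exact p.block' f hB (TP.of_mul w p.tp hu.1 he.1 hcp) hs huO e1 hx hcm hC₁ hu₁

/-- **(F3), or two blocks and `|C_S| = 2`** -/
theorem sf_or_two (loc : Loc3 Z K) (cn : CnZ Z K) {S : Sylow 2 G} (hz : z ∈ CS Z K (S : Subgroup G))
    (hx : x ∈ Z) (hxM : x ∈ p.PM z hz.1) (hn : ¬ SF Z K z x) :
    ∃ F, Frm Z K F ∧ ∃ A ∈ F, ∃ B ∈ F, A ≠ B ∧ z ∈ A ∧ (∀ C ∈ F, C = A ∨ C = B) ∧
      ∃ u, u ∈ B ∧ CS Z K (S : Subgroup G) = {z, u} := by
  have hbad : ∀ u ∈ CS Z K (S : Subgroup G), ∀ e ∈ CS Z K (S : Subgroup G), u ≠ e →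
      ¬ centralizer {u * e} ≤ p.PM z hz.1 := fun u hu e he hue hg =>
    hn (p.sf_of_good ws loc cn hz hu he hue hg hx hxM)
  obtain ⟨F, f, A, hA, hzA⟩ := p.fr z hz.1
  have hbl : ∀ v₁ ∈ CS Z K (S : Subgroup G), ∀ v₂ ∈ CS Z K (S : Subgroup G), v₁ ≠ v₂ → ∀ B ∈ F, v₁ ∈ B ∨ v₂ ∈ B := by
    intro v₁ h1 v₂ h2 hne B hB
    by_contra hcon
    push Not at hcon
    exact hbad v₁ h1 v₂ h2 hne (p.good_mul hz f hA hzA h1 h2 hne hB hcon.1 hcon.2)
  obtain ⟨B, hB, hBA⟩ := f.other hA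
  obtain ⟨u, huS, huB⟩ := p.meet f hz hA hzA hB
  have hzB : z ∉ B := fun h1 => hBA (f.disj p.w hB hA h1 hzA)
  have huA : u ∉ A := fun h1 => hBA (f.disj p.w hB hA huB h1)
  have hzu : z ≠ u := fun e => hzB (e ▸ huB)
  have hF : ∀ C ∈ F, C = A ∨ C = B := by
    intro C hC
    rcases hbl z hz u huS hzu C hC with h1 | h1
    · exact Or.inl (f.disj p.w hC hA h1 hzA)
    · exact Or.inr (f.disj p.w hC hB h1 huB)
  refine ⟨F, f, A, hA, B, hB, hBA.symm, hzA, hF, u, huB, ?_⟩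
  ext v
  constructor
  · intro hv
    by_contra hcon
    simp only [Set.mem_insert_iff, Set.mem_singleton_iff, not_or] at hcon
    obtain ⟨C, hC, hvC⟩ := p.exists_block f hA hzA (p.sf_CS S.isPGroup' hz hv)
    rcases hF C hC with rfl | rfl
    · rcases hbl z hz v hv (Ne.symm hcon.1) B hB with h3 | h3
      · exact hzB h3
      · exact hBA (f.disj p.w hB hC h3 hvC)
    · rcases hbl u huS v hv (Ne.symm hcon.2) A hA with h3 | h3
      · exact huA h3
      · exact hBA (f.disj p.w hC hA hvC h3)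
  · rintro (rfl | rfl)
    · exact hz
    · exact huS

end PW

end Cfsg.Agent.Cit.Nil.CompR
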