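import Cfsg.Agent.Cit.Nil.CompR.QuoC
import Cfsg.Agent.Cit.Nil.CompR.MTwoZero
import Cfsg.Agent.Cit.Nil.RFour.Def

/-!
# S1309 (n6), `AllOne`, 3-cliques: the block worlds `C(z)/C(X_z)` (helper386)

* `Tri Z K` : every C-pair `(z,u)` lies in the 3-clique `{z, u, z u}`; `tri_of` : it holds if there is one 3-clique;
* `move3` : `⟨R_x : x ∈ B(v)⟩` is transitive on the pairs `{x, v x}`, `x ∈ B(v)`;
* **`BlkC.w4`** : the images of the members form a world `W4`, if there are two members over each point;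
* **`BlkC.c3_tri`**, `BlkC.c3_tri_img` : (C3).
-/

set_option autoImplicit false
set_option linter.style.haveILetI false
set_option linter.unusedSectionVars false

namespace Cfsg.Agent.Cit.Nil.CompR

open Subgroup Cfsg Cfsg.Agent.Cit
open Cfsg.Agent.Cit.Nil.ROne (CP CS)
open Cfsg.Agent.Cit.Nil.AN (Cm Ce Om Cl OneC St cl_sub cl_symm cl_refl cl_eq cl_step cl_trans)
open RG (WR ZZ Ov RR)
open IndDefs (comp T0 NIL mem_comp_self comp_symm comp_trans mem_comp_of)
open RTwoM.Quo (QM QT)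
open Cfsg.Agent.OddOrderLocal.NilParts

section tri

variable {G : Type*} [Group G] [Finite G] {Z : Set G} {K : G → Subgroup G} {z u v x y g h a b c : G}

/-- every C-pair lies in a 3-clique -/
def Tri (Z : Set G) (K : G → Subgroup G) : Prop :=
  ∀ z ∈ Z, ∀ u ∈ Z, CP K z u → z * u ∈ Z ∧ CP K z (z * u) ∧ CP K u (z * u)

theorem eq_mul_of (hw : GW Z K) (hz : z ∈ Z) (hu : u ∈ Z) (hc : CP K z u) (e : z * u * b = 1) : b = z * u := by
  have h1 := hw.comm_of_cp hz hu hc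
  have h2 : b = (z * u)⁻¹ := eq_inv_of_mul_eq_one_right e
  rw [h2, mul_inv_rev, hw.inv hz, hw.inv hu, h1]

/-- one 3-clique suffices -/
theorem tri_of (hw : GW Z K) (ao : AllOne Z K) (hn : ¬ No3 Z K) : Tri Z K := by
  classical
  unfold No3 at hn
  push Not at hn
  obtain ⟨z₀, hz₀, a₀, ha₀, b₀, hb₀, c1, c2, c3⟩ := hn
  obtain ⟨S₀, hS₀⟩ := (hw.isPGroup_clique {z₀, a₀, b₀} (by
    intro x hx
    simp only [Finset.mem_insert, Finset.mem_singleton] at hx
    rcases hx with rfl | rfl | rfl <;> assumption) (by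
    intro x hx y hy hne
    simp only [Finset.mem_insert, Finset.mem_singleton] at hx hy
    rcases hx with rfl | rfl | rfl <;> rcases hy with rfl | rfl | rfl
    · exact absurd rfl hne
    · exact c1
    · exact c2
    · exact c1.symm
    · exact absurd rfl hne
    · exact c3
    · exact c2.symm
    · exact c3.symm
    · exact absurd rfl hne)).exists_le_sylow
  have hS : ∀ x ∈ ({z₀, a₀, b₀} : Finset G), K x ≤ (S₀ : Subgroup G) := fun x hx =>
    (le_iSup₂ (f := fun x (_ : x ∈ ({z₀, a₀, b₀} : Finset G)) => K x) x hx).trans hS₀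
  have h3 : 3 ≤ (CS Z K (S₀ : Subgroup G)).ncard := by
    have h4 : (({z₀, a₀, b₀} : Finset G) : Set G) ⊆ CS Z K (S₀ : Subgroup G) := by
      intro x hx
      refine ⟨?_, hS x hx⟩
      simp only [Finset.coe_insert, Finset.coe_singleton, Set.mem_insert_iff, Set.mem_singleton_iff] at hx
      rcases hx with rfl | rfl | rfl <;> assumption
    have h5 := Set.ncard_le_ncard h4 (Set.toFinite _)
    rwa [Set.ncard_coe_finset, Finset.card_eq_three.2 ⟨z₀, a₀, b₀, c1.1, c2.1, c3.1, rfl⟩] at h5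
  intro z hz u hu hc
  obtain ⟨S, hSz, hSu⟩ := hw.exists_sylow_of_cp hz hu hc
  obtain ⟨g, hg⟩ := MulAction.exists_smul_eq G S₀ S
  have hgS : (S : Subgroup G) = cj g S₀ := by
    rw [← hg]
    rfl
  have h6 : 3 ≤ (CS Z K (S : Subgroup G)).ncard := by
    rw [hgS, hw.ncard_CS_cj g S₀]
    exact h3
  obtain ⟨b, hb, hbz, hbu⟩ : ∃ b ∈ CS Z K (S : Subgroup G), b ≠ z ∧ b ≠ u := by
    by_contra hcon
    push Not at hcon
    have h7 : CS Z K (S : Subgroup G) ⊆ {z, u} := by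
      intro b hb
      by_cases hbz : b = z
      · exact Or.inl hbz
      · exact Or.inr (hcon b hb hbz)
    have h8 := Set.ncard_le_ncard h7 (Set.toFinite _)
    have h9 := Set.ncard_insert_le z {u}
    rw [Set.ncard_singleton] at h9
    omega
  have k1 : CP K z b := hw.com S S.isPGroup' hz hb.1 hSz.2 hb.2 hbz.symm
  have k2 : CP K u b := hw.com S S.isPGroup' hu hb.1 hSu.2 hb.2 hbu.symm
  have k3 : b = z * u := eq_mul_of hw hz hu hc (ao.three z hz u hu b hb.1 hc k1 k2)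
  rw [← k3]
  exact ⟨hb.1, k1, k2⟩

/-- a step -/
theorem move3 (hw : GW Z K) (ao : AllOne Z K) (hv : v ∈ Z)
    (hx : x ∈ BB Z K v) (hy : y ∈ BB Z K v) : ∃ h : G, Ce h (K v) ∧ (h * x * h⁻¹ = y ∨ h * x * h⁻¹ = v * y) := by
  haveI : Fact (Nat.Prime 2) := ⟨Nat.prime_two⟩
  obtain ⟨D, hD⟩ : ∃ D : Subgroup G, D = K x ⊔ K y := ⟨_, rfl⟩
  have hxD : K x ≤ D := by rw [hD]; exact le_sup_left
  have hyD : K y ≤ D := by rw [hD]; exact le_sup_right
  have hDc : ∀ d ∈ D, Ce d (K v) := by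
    have h1 : D ≤ centralizer (K v : Set G) := by
      rw [hD]
      refine sup_le ?_ ?_
      · intro k hk
        rw [mem_centralizer_iff]
        exact fun l hl => hx.2.2 l hl k hk
      · intro k hk
        rw [mem_centralizer_iff]
        exact fun l hl => hy.2.2 l hl k hk
    intro d hd k hk
    exact (mem_centralizer_iff.1 (h1 hd) k hk).symm
  obtain ⟨P, hP⟩ := (((hw.two hx.1).comap_of_injective D.subtype D.subtype_injective :
    IsPGroup 2 ((K x).subgroupOf D))).exists_le_sylow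
  obtain ⟨Q, hQ⟩ := (((hw.two hy.1).comap_of_injective D.subtype D.subtype_injective :
    IsPGroup 2 ((K y).subgroupOf D))).exists_le_sylow
  obtain ⟨g, hg⟩ := MulAction.exists_smul_eq D P Q
  have hgS : (Q : Subgroup D) = cj g (P : Subgroup D) := by
    rw [← hg]
    rfl
  have h1 : cj (g : G) (K x) ≤ (Q : Subgroup D).map D.subtype := by
    have h2 : cj (g : G) (K x) = (cj g ((K x).subgroupOf D)).map D.subtype := by
      rw [cj_map, map_subgroupOf_eq_of_le hxD]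
      rfl
    rw [h2, hgS]
    exact Subgroup.map_mono (cj_mono g hP)
  have h2 : K y ≤ (Q : Subgroup D).map D.subtype := by
    rw [← map_subgroupOf_eq_of_le hyD]
    exact Subgroup.map_mono hQ
  have h3 : IsPGroup 2 ((Q : Subgroup D).map D.subtype) := Q.isPGroup'.map _
  refine ⟨g, hDc _ g.2, ?_⟩
  by_cases hne : (g : G) * x * (g : G)⁻¹ = y
  · exact Or.inl hne
  right
  have hgx : (g : G) * x * (g : G)⁻¹ ∈ Z := hw.conjZ x hx.1 g
  have h4 : CP K ((g : G) * x * (g : G)⁻¹) y := hw.com _ h3 hgx hy.1 (by rw [hw.conjK x hx.1]; exact h1) h2 hne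
  have h7 : CP K v ((g : G) * x * (g : G)⁻¹) := by
    rw [cp_iff hw hv]
    have h5 : (g : G) * v * (g : G)⁻¹ = v := by rw [hDc _ g.2 v (hw.mem v hv), mul_inv_cancel_right]
    have h6 := cm_conj hw hv hx.1 (g : G) hx.2.2
    rwa [h5] at h6
  have h8 := ao.three v hv y hy.1 _ hgx hy.2 h7 h4.symm
  exact eq_mul_of hw hv hy.1 hy.2 h8

end tri

/-- (C3) in `C(z)` from a correction -/
theorem c3_sub {G : Type*} [Group G] [Finite G] {z : G} {A : Subgroup ↥(centralizer ({z} : Set G))} (h8 : Nat.card A = 8)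
    {c h q : G} (hcj : cj c (A.map (centralizer {z}).subtype) = A.map (centralizer {z}).subtype)
    (hc3 : IsPGroup 3 (zpowers c)) (h2 : ∀ l ∈ A.map (centralizer {z}).subtype, h * l = l * h)
    (hz : h * c ∈ centralizer ({z} : Set G)) (hq : q ∈ A.map (centralizer {z}).subtype) (hcq : c * q ≠ q * c) :
    Nil.C3 A := by
  haveI : Fact (Nat.Prime 3) := ⟨Nat.prime_three⟩
  obtain ⟨n, hn1, hn2⟩ := c3_pow (K := A.map (centralizer {z}).subtype) hcj hc3 h2
  refine ⟨A, ⟨le_rfl, IsPGroup.of_card (n := 3) (by rw [h8]; norm_num), by rw [relIndex_self]; norm_num⟩,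
    h8, ⟨h * c, hz⟩ ^ n, ?_, ?_, ?_, ?_⟩
  · exact c3_norm hcj hn2
  · exact c3_norm hcj hn2
  · have h4 : zpowers ((⟨h * c, hz⟩ : ↥(centralizer ({z} : Set G))) ^ n) =
        (zpowers ((h * c) ^ n)).subgroupOf (centralizer {z}) := by
      apply map_injective (centralizer ({z} : Set G)).subtype_injective
      rw [MonoidHom.map_zpowers, map_subgroupOf_eq_of_le]
      · rfl
      · rw [zpowers_le]
        exact pow_mem hz n
    rw [h4]
    exact hn1.comap_of_injective _ (centralizer {z}).subtype_injective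
  · obtain ⟨q', hq', rfl⟩ := hq
    refine ⟨q', hq', fun h5 => hcq ?_⟩
    have h6 := congrArg Subtype.val h5
    rw [Subgroup.coe_mul, Subgroup.coe_mul] at h6
    have h7 : (h * c) ^ n * (centralizer {z}).subtype q' * ((h * c) ^ n)⁻¹ = (centralizer {z}).subtype q' := by
      rw [mul_inv_eq_iff_eq_mul]
      exact h6
    rw [hn2 _ ⟨q', hq', rfl⟩] at h7
    exact mul_inv_eq_iff_eq_mul.1 h7

namespace BlkC

variable {G : Type*} [Group G] [Finite G] {Ω : Set (Subgroup G)} {K L M : Subgroup G} {z u v x y g s a b c : G}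
  {A B : Subgroup ↥(centralizer ({z} : Set G))} {H : Type*} [Group H] {f : ↥(centralizer ({z} : Set G)) →* H}

variable (β : BlkC Ω z)

include β

/-- **the world `W4`** -/
theorem w4 (hs : Function.Surjective f) (hf : f.ker = NC (OmB Ω z)) (tri : Tri (ZZ Ω) (RR Ω))
    (h2 : ∀ u ∈ ZZ Ω, (Ov Ω u).ncard = 2) : RFour.W4 (img f (OmB Ω z)) where
  hyp := β.hyp_img hs hf
  card := β.card_img hf
  one := β.mone hf
  four := by
    rintro _ ⟨A, hA, rfl⟩
    obtain ⟨u, hu⟩ : ∃ u, u = zz (A.map (centralizer {z}).subtype) := ⟨_, rfl⟩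
    rw [β.fibre_ncard hf hA, ← hu]
    have huB : u ∈ BB (ZZ Ω) (RR Ω) z := by rw [hu]; exact β.mem_BB.2 ⟨⟨_, hA.1, rfl⟩, hA.2⟩
    obtain ⟨t1, t2, t3⟩ := tri z β.hz u huB.1 huB.2
    have hne : u ≠ z * u := fun h => β.gw.ne z β.hz (by
      have h4 : 1 * u = z * u := by rw [one_mul]; exact h
      exact (mul_right_cancel h4).symm)
    have e : {L | L ∈ Ω ∧ RG.CP Ω z (zz L) ∧ (u = zz L ∨ RG.CP Ω u (zz L))} = Ov Ω u ∪ Ov Ω (z * u) := by
      ext L
      constructor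
      · rintro ⟨h1, h3, h4 | h4⟩
        · exact Or.inl ⟨h1, h4.symm⟩
        · right
          refine ⟨h1, ?_⟩
          exact eq_mul_of β.gw β.hz huB.1 huB.2 (β.ao.three z β.hz u huB.1 (zz L) ⟨L, h1, rfl⟩ huB.2
            ((cp_iff_wr β.wr0).2 h3) ((cp_iff_wr β.wr0).2 h4))
      · rintro (⟨h1, h3⟩ | ⟨h1, h3⟩)
        · exact ⟨h1, by rw [h3]; exact (cp_iff_wr β.wr0).1 huB.2, Or.inl h3.symm⟩
        · exact ⟨h1, by rw [h3]; exact (cp_iff_wr β.wr0).1 t2, Or.inr (by rw [h3]; exact (cp_iff_wr β.wr0).1 t3)⟩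
    have hd : Disjoint (Ov Ω u) (Ov Ω (z * u)) := by
      rw [Set.disjoint_left]
      rintro L ⟨-, h1⟩ ⟨-, h3⟩
      exact hne (h1.symm.trans h3)
    rw [e, Set.ncard_union_eq hd (Set.toFinite _) (Set.toFinite _), h2 u huB.1, h2 _ t1]

/-- **(C3) in `C(z)`** -/
theorem c3_tri (hA : A ∈ OmB Ω z) (h3 : Nil.C3 (A.map (centralizer {z}).subtype)) : Nil.C3 A := by
  haveI : Fact (Nat.Prime 3) := ⟨Nat.prime_three⟩
  obtain ⟨Q, hQ, hQ8, c, hcK, -, hc3, q, hq, hcq⟩ := h3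
  have hcj := mem_normalizer_iff_cj.1 hcK
  obtain ⟨L, hL⟩ : ∃ L, L = A.map (centralizer {z}).subtype := ⟨_, rfl⟩
  rw [← hL] at hQ hcK hcj
  have hLO : L ∈ Ω := by rw [hL]; exact hA.1
  have hLz : RG.CP Ω z (zz L) := by rw [hL]; exact hA.2
  have hw := β.gw
  have hv : zz L ∈ ZZ Ω := ⟨L, hLO, rfl⟩
  have hzv : z ∈ BB (ZZ Ω) (RR Ω) (zz L) := ⟨β.hz, (cp_iff_wr β.wr0).2 hLz.symm⟩
  have hcv : c * zz L * c⁻¹ = zz L := by rw [← β.wr0.zcj hLO, hcj]
  have hcz : c * z * c⁻¹ ∈ BB (ZZ Ω) (RR Ω) (zz L) := by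
    refine ⟨hw.conjZ z β.hz c, (cp_iff_wr β.wr0).2 ?_⟩
    have h1 := β.wr0.CP_cj hLz.symm c
    rwa [hcv] at h1
  obtain ⟨h, h1, h2⟩ := move3 hw β.ao hv hcz hzv
  have hh : ∀ l ∈ L, h * l = l * h := fun l hl => h1 l (WR.le_RR ⟨hLO, rfl⟩ hl)
  have h8 := β.t0B.card A hA
  rcases h2 with h2 | h2
  · refine c3_sub (h := h) h8 (by rw [← hL]; exact hcj) hc3 (by rw [← hL]; exact hh) ?_ (by rw [← hL]; exact hQ.1 hq) hcq
    rw [mem_centralizer_singleton_iff]
    have h3 : h * c * z * (h * c)⁻¹ = z := by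
      calc h * c * z * (h * c)⁻¹ = h * (c * z * c⁻¹) * h⁻¹ := by group
        _ = z := h2
    rwa [mul_inv_eq_iff_eq_mul] at h3
  · -- `p = h c` swaps `z` and `v z`
    obtain ⟨p, hp⟩ : ∃ p, p = h * c := ⟨_, rfl⟩
    have hpz : p * z * p⁻¹ = zz L * z := by
      calc p * z * p⁻¹ = h * (c * z * c⁻¹) * h⁻¹ := by rw [hp]; group
        _ = zz L * z := h2
    have hpv : p * zz L * p⁻¹ = zz L := by
      calc p * zz L * p⁻¹ = h * (c * zz L * c⁻¹) * h⁻¹ := by rw [hp]; group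
        _ = zz L := by rw [hcv, hh _ (β.wr0.zm hLO), mul_inv_cancel_right]
    have hpp : p * p * z * (p * p)⁻¹ = z := by
      calc p * p * z * (p * p)⁻¹ = p * (p * z * p⁻¹) * p⁻¹ := by group
        _ = p * (zz L * z) * p⁻¹ := by rw [hpz]
        _ = (p * zz L * p⁻¹) * (p * z * p⁻¹) := by group
        _ = zz L * (zz L * z) := by rw [hpv, hpz]
        _ = z := by rw [← mul_assoc, β.wr0.zs hLO, one_mul]
    have hcc : ∀ l ∈ L, c * l * c⁻¹ ∈ L := fun l hl => by
      have h4 : c * l * c⁻¹ ∈ cj c L := conj_mem_cj hl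
      rwa [hcj] at h4
    have hcc' : ∀ l ∈ L, c⁻¹ * l * c ∈ L := fun l hl => by
      have h4 : l ∈ cj c L := by rw [hcj]; exact hl
      rwa [mem_cj] at h4
    have hpa : ∀ l ∈ L, p * l * p⁻¹ = c * l * c⁻¹ := fun l hl => by
      calc p * l * p⁻¹ = h * (c * l * c⁻¹) * h⁻¹ := by rw [hp]; group
        _ = c * l * c⁻¹ := by rw [hh _ (hcc l hl), mul_inv_cancel_right]
    have hodd : ∃ k : ℕ, (c * c) ^ k = c := by
      obtain ⟨j, hj⟩ := IsPGroup.iff_card.1 hc3
      rw [Nat.card_zpowers] at hj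
      obtain ⟨k, hk⟩ : Odd (orderOf c) := by rw [hj]; exact Odd.pow (by decide)
      refine ⟨k + 1, ?_⟩
      rw [← pow_two, ← pow_mul]
      have h4 : 2 * (k + 1) = (2 * k + 1) + 1 := by ring
      rw [h4, pow_succ, ← hk, pow_orderOf_eq_one, one_mul]
    refine c3_sub (c := c * c) (h := p * p * (c * c)⁻¹) (q := q) h8 ?_ ?_ ?_ ?_ ?_ ?_
    · rw [← hL, cj_mul, hcj, hcj]
    · exact hc3.to_le (zpowers_le.2 (mul_mem (mem_zpowers c) (mem_zpowers c)))
    · rw [← hL]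
      intro l hl
      have m1 := hcc' _ (hcc' l hl)
      have m2 := hcc' l hl
      obtain ⟨l', hl'⟩ : ∃ l', l' = c⁻¹ * (c⁻¹ * l * c) * c := ⟨_, rfl⟩
      rw [← hl'] at m1
      have e1 : p * (p * l' * p⁻¹) * p⁻¹ = l := by
        rw [hpa _ m1]
        have m3 := hcc _ m1
        rw [hpa _ m3, hl']
        group
      calc p * p * (c * c)⁻¹ * l = (p * (p * l' * p⁻¹) * p⁻¹) * (p * p * (c * c)⁻¹) := by rw [hl']; group
        _ = l * (p * p * (c * c)⁻¹) := by rw [e1]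
    · rw [inv_mul_cancel_right, mem_centralizer_singleton_iff]
      rwa [mul_inv_eq_iff_eq_mul] at hpp
    · rw [← hL]; exact hQ.1 hq
    · intro h4
      obtain ⟨k, hk⟩ := hodd
      apply hcq
      have h5 : Commute (c * c) q := h4
      have h6 := h5.pow_left k
      rw [hk] at h6
      exact h6

/-- (C3) of the image -/
theorem c3_tri_img (hf : f.ker = NC (OmB Ω z)) (hA : A ∈ OmB Ω z) (h3 : Nil.C3 (A.map (centralizer {z}).subtype)) :
    Nil.C3 (A.map f) :=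
  c3_map (β.bq.ker_inf hf hA) (β.t0B.card A hA) (β.c3_tri hA h3)

end BlkC

end Cfsg.Agent.Cit.Nil.CompR
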