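import Cfsg.Agent.Cit.Nil.CompR.SecFrm
import Cfsg.Agent.Cit.Nil.CompR.SecQuo
import Cfsg.Agent.Cit.Nil.CompR.SecRot
import Cfsg.Agent.Cit.Nil.CompR.BThLift
import Cfsg.Agent.Cit.Nil.RTwoM.AN.QuoF
import Cfsg.Agent.Cit.Nil.RTwo.InnerLift
import Cfsg.Agent.Cit.Nil.RTwo.DQ

/-!
# S1309 (n6), COMP, `r = 2`, the section of a block: `G / C(⟨Om⟩)` is a world (S) or (A)

`G` = the stabiliser of a block, `Om` = the members over the block.

* `rot_of_c3e` : rotations from (C3), elementwise;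
* `QT.cfa` : the cores of the centralisers of involutions of the quotient are trivial;
* `SBlk.inner` : 673's `main_inner'` applies to the quotient;
* `DQ.of_img`, **`SBlk.dq`** : the two facts on pairs of type I in `G`.
-/

set_option autoImplicit false
set_option linter.style.haveILetI false
set_option linter.unusedSectionVars false

namespace Cfsg.Agent.Cit.Nil.CompR

open Subgroup Cfsg Cfsg.Agent.Cit Cfsg.Agent.Cit.Nil.RTwo
open RTwoM.Quo (QM QT)

universe u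

theorem rot_key : ∀ σ τ ρ : Equiv.Perm (Fin 3), σ 0 ≠ 0 ∧ τ 1 ≠ 1 ∧ ρ 2 ≠ 2 → (∀ i, σ i ≠ i) ∨ (∀ i, τ i ≠ i) ∨
    (∀ i, ρ i ≠ i) ∨ (∀ i, (σ * τ) i ≠ i) ∨ (∀ i, (σ * ρ) i ≠ i) ∨ (∀ i, (τ * ρ) i ≠ i) := by decide

section rot

variable {G : Type*} [Group G] [Finite G] {Om : Set (Subgroup G)}

/-- rotations from (C3) -/
theorem rot_of_c3e (h : W2 Om) (c3 : RTwo.C3E Om) : Rot Om := by
  intro K hK
  have mK : Mem Om (zz K) K := ⟨hK, rfl⟩
  obtain ⟨a, Q⟩ := h.exists_q3 mK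
  have key : ∀ i, ∃ g, g * zz K = zz K * g ∧ cj g K = K ∧ ∃ σ, Act (zz K) a a g σ ∧ σ i ≠ i := by
    intro i
    obtain ⟨g, h1, h2, h3, h4⟩ := c3 _ K mK (a i) (Q.mem i) (Q.sq i)
    obtain ⟨σ, hσ⟩ := Q.exists_act Q h2 h1
    refine ⟨g, h1, h2, σ, hσ, fun e => ?_⟩
    rcases hσ i with h5 | h5
    · exact h3 (by rw [h5, e])
    · exact h4 (by rw [h5, e])
  have fin : ∀ (g : G) (σ : Equiv.Perm (Fin 3)), g * zz K = zz K * g → cj g K = K → Act (zz K) a a g σ →
      (∀ i, σ i ≠ i) → ∃ c ∈ normalizer (K : Set G), IsPGroup 3 (zpowers c) ∧ ∃ q ∈ K, c * q ≠ q * c := by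
    intro g σ h1 h2 h3 h4
    obtain ⟨n, e, h5, h6, h7⟩ := exists_three_part Q h1 h2 h3 h4
    exact ⟨g ^ n, mem_normalizer_iff_cj.2 h6, isPGroup_zp h5, h7⟩
  have two : ∀ g g' : G, g * zz K = zz K * g → cj g K = K → g' * zz K = zz K * g' → cj g' K = K →
      g * g' * zz K = zz K * (g * g') ∧ cj (g * g') K = K := by
    intro g g' h1 h2 h3 h4
    refine ⟨?_, by rw [cj_mul, h4, h2]⟩
    rw [mul_assoc, h3, ← mul_assoc, h1, mul_assoc]
  obtain ⟨x, x1, x2, σ, hσ, x3⟩ := key 0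
  obtain ⟨y, y1, y2, τ, hτ, y3⟩ := key 1
  obtain ⟨w, w1, w2, ρ, hρ, w3⟩ := key 2
  rcases rot_key σ τ ρ ⟨x3, y3, w3⟩ with h1 | h1 | h1 | h1 | h1 | h1
  · exact fin x σ x1 x2 hσ h1
  · exact fin y τ y1 y2 hτ h1
  · exact fin w ρ w1 w2 hρ h1
  · obtain ⟨e1, e2⟩ := two x y x1 x2 y1 y2
    exact fin _ _ e1 e2 (hτ.comp Q.z2 hσ x1) h1
  · obtain ⟨e1, e2⟩ := two x w x1 x2 w1 w2
    exact fin _ _ e1 e2 (hρ.comp Q.z2 hσ x1) h1
  · obtain ⟨e1, e2⟩ := two y w y1 y2 w1 w2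
    exact fin _ _ e1 e2 (hρ.comp Q.z2 hτ y1) h1

end rot

section quo

variable {M Y : Type u} [Group M] [Group Y] [Finite M] {Om : Set (Subgroup M)} {f : M →* Y} {K L : Subgroup M}

theorem QMwmap [Finite Y] (q : QM Om f) (h : W2 Om) : WMap f Om (img f Om) where
  w1 := h
  w2 := q.w2 h
  im := rfl
  inf K hK := q.inf_ker hK
  inj K hK L hL e := q.pt_inj h ⟨K, hK, rfl⟩ ⟨L, hL, rfl⟩ e

/-- the cores of the centralisers of involutions of the quotient are trivial -/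
theorem QTcfa [Finite Y] (i : SecIn.{u}) (q : QT Om f) (h : W2 Om) (hne : Om.Nonempty) : CFA Y := by
  obtain ⟨X, fX, -, hX2⟩ := q.fsimp i.hev
  have fs := CVT.KLOf.fs_of fX hX2
  have qm := q.qm i.hev
  have w := qm.w2 h
  obtain ⟨K, hK⟩ := hne
  have mK : Mem Om (zz K) K := ⟨hK, rfl⟩
  have mK' := qm.mem_map mK
  obtain ⟨L', hL', hne', -⟩ := mK'.other w
  intro j hj hj1
  by_contra hO
  exact CVT.KLOf.false_of_core i.hT i.hC i.hC2 fs (i.h1311 _ fs) (Om := img f Om)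
    ⟨w.hyp, fun K hK => w.isPGroup hK⟩ mK'.1 hL'.1
    (fun x hx y hy => mK'.comm hL' w hne' hx hy)
    (orderOf_eq_prime (by rw [pow_two]; exact hj) hj1) hO

end quo

section world

variable {G : Type u} [Group G] [Finite G] {Om : Set (Subgroup G)} {K L : Subgroup G} {z g x t : G}

theorem SBlk.not_nil (b : SBlk Om) (hK : K ∈ Om) : ¬ IndDefs.NIL K := by
  intro hn
  have hKB : K ≤ sSup Om := le_sSup hK
  have hr : K.subgroupOf (sSup Om) ∈ restr Om (sSup Om) := subgroupOf_mem_restr hK hKB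
  apply b.nnil _ hr
  have h1 := zz_map b.w.hyp hr
  rw [map_subgroupOf_eq_of_le hKB] at h1
  have h2 : (Cfsg.pCore 2 G).subgroupOf (sSup Om) ≤ Cfsg.pCore 2 ↥(sSup Om) := by
    haveI : (Cfsg.pCore 2 G).Normal := Lib.Cores.pCore_normal 2
    refine Lib.Cores.le_pCore inferInstance ?_
    exact (Lib.Cores.pCore_isPGroup (G := G) 2).comap_of_injective _ (subtype_injective _)
  apply h2
  rw [mem_subgroupOf, h1]
  exact hn

theorem SBlk.qt {Y : Type u} [Group Y] {f : G →* Y} (b : SBlk Om) (core : pPrimeCore 2 G = ⊥) (hne : Om.Nonempty)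
    (hs : Function.Surjective f) (hf : ∀ g, f g = 1 ↔ ∀ K ∈ Om, ∀ k ∈ K, g * k = k * g) : QT Om f where
  t0 := ⟨b.w.hyp, b.w.card, core⟩
  conn := b.conn
  nn := by
    obtain ⟨K, hK⟩ := hne
    exact ⟨K, hK, b.not_nil hK⟩
  surj := hs
  ker := hf

/-- the odd central elements of `B` are trivial -/
theorem SBlk.odd (b : SBlk Om) (hx : x ∈ sSup Om) (hc : ∀ K ∈ Om, ∀ k ∈ K, x * k = k * x) (ho : Odd (orderOf x)) :
    x = 1 := by
  have hcen : ∀ y ∈ sSup Om, x * y = y * x := by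
    have h1 : sSup Om ≤ centralizer {x} := sSup_le fun K hK k hk => mem_centralizer_singleton_iff.2 (hc K hK k hk).symm
    intro y hy
    exact (mem_centralizer_singleton_iff.1 (h1 hy)).symm
  obtain ⟨x', hx'⟩ : ∃ x' : ↥(sSup Om), x' = ⟨x, hx⟩ := ⟨_, rfl⟩
  have hzc : zpowers x' ≤ center ↥(sSup Om) := by
    rw [zpowers_le, mem_center_iff]
    intro y
    rw [hx']
    exact Subtype.ext (hcen y y.2).symm
  have hn : (zpowers x').Normal := by
    refine ⟨fun n hn g => ?_⟩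
    have h1 : g * n * g⁻¹ = n := by
      rw [mem_center_iff.1 (hzc hn) g, mul_inv_cancel_right]
    rwa [h1]
  have hcop : (Nat.card (zpowers x')).Coprime 2 := by
    rw [Nat.card_zpowers, hx', Subgroup.orderOf_mk]
    exact (Nat.coprime_two_right.2 ho)
  have h1 := Lib.Cores.le_pPrimeCore hn hcop
  rw [b.core, le_bot_iff, zpowers_eq_bot, hx'] at h1
  exact congrArg Subtype.val h1

/-- 673's `main_inner'` for the quotient -/
theorem SBlk.inner {Y : Type u} [Group Y] [Finite Y] {f : G →* Y} (i : SecIn.{u}) (b : SBlk Om) (core : pPrimeCore 2 G = ⊥)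
    (hne : Om.Nonempty) (cls : OneCls Om) (hs : Function.Surjective f)
    (hf : ∀ g, f g = 1 ↔ ∀ K ∈ Om, ∀ k ∈ K, g * k = k * g) :
    QM Om f ∧ ((EqEps (img f Om) ∧ AW (img f Om) ∧ SCe (img f Om)) ∨
      (SW (img f Om) ∧ SB (img f Om) ∧ SCe (img f Om))) := by
  have q := b.qt core hne hs hf
  have qm := q.qm i.hev
  have m := QMwmap qm b.w
  obtain ⟨X, fX, -, hX2⟩ := q.fsimp i.hev
  refine ⟨qm, main_inner' i.lin m.w2 (m.oneCls cls) (m.rot (rot_of_c3e b.w b.c3)) (QTcfa i q b.w hne) ?_ fX hX2 ?_⟩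
  · obtain ⟨K, hK⟩ := hne
    exact ⟨_, K, hK, rfl⟩
  · intro h3
    obtain ⟨K, hK, h4⟩ := IThree.lift qm m.w2 m.inj (fun x hx hx1 ho => b.odd hx ((hf x).1 hx1) ho) h3
    exact b.n3 K hK h4

/-- the two facts lift -/
theorem DQ_of_img {Y : Type u} [Group Y] [Finite Y] {f : G →* Y} (q : QM Om f) (h : W2 Om) (D : DQ (img f Om)) :
    DQ Om where
  d z g hz hg hgg := by
    obtain ⟨t', ht', h1⟩ := D.d (f z) (f g) (q.inZ_map hz) (by rw [← map_mul, hg, map_mul])
      (by rw [← map_mul, hgg, map_one])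
    obtain ⟨t, ht, rfl⟩ := q.exists_pt ht'.2.1
    have hti := q.ti_lift h hz ht ht'
    refine ⟨t, hti, ?_⟩
    rcases h1 with h1 | h1
    · left
      refine q.pt_inj h (ht.conj h g) ht ?_
      rw [map_mul, map_mul, map_inv, h1]
    · right
      obtain ⟨c, l⟩ := hti.exists_lab h
      refine q.pt_inj h (ht.conj h g) (l.mul h).ti.2.1 ?_
      rw [map_mul, map_mul, map_inv, h1, map_mul]
  q z x hz hx hxx h1 h2 := by
    have m := QMwmap q h
    have hker : ∀ y, y ∈ RZ Om z → f y = 1 → y = 1 ∨ y = z := by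
      intro y hy hy1
      refine RZ_inf_CX h hz hy ?_
      rw [mem_CX]
      intro K hK k hk
      exact (q.ker y).1 hy1 K hK.1 k hk
    have hz2 := hz.z2 h
    have hfz : f z ≠ 1 := by
      obtain ⟨K, hK, rfl⟩ := hz
      exact q.no K hK
    have e1 : f x ≠ 1 := by
      intro e
      rcases hker x hx e with h3 | h3
      · exact h1 h3
      · exact h2 h3
    have e2 : f x ≠ f z := by
      intro e
      have h3 : f (x * z) = 1 := by rw [map_mul, e, ← map_mul, hz2, map_one]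
      rcases hker _ (mul_mem hx (z_mem_RZ hz h)) h3 with h4 | h4
      · exact h2 (by rw [← mul_one x, ← hz2, ← mul_assoc, h4, one_mul])
      · exact h1 (mul_eq_right.1 h4)
    obtain ⟨t', ht', hi⟩ := D.q (f z) (f x) (q.inZ_map hz) (m.rz hx) (by rw [← map_mul, hxx, map_one]) e1 e2
    obtain ⟨t, ht, rfl⟩ := q.exists_pt ht'.2.1
    exact ⟨t, q.ti_lift h hz ht ht', q.inn_lift h hi⟩

/-- **the two facts for a section** -/
theorem SBlk.dq (i : SecIn.{u}) (b : SBlk Om) (core : pPrimeCore 2 G = ⊥) (cls : OneCls Om) : DQ Om := by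
  by_cases hne : Om.Nonempty
  · obtain ⟨N, hN⟩ : ∃ N : Subgroup G, N = centralizer ((sSup Om : Subgroup G) : Set G) := ⟨_, rfl⟩
    haveI : N.Normal := by
      haveI : (sSup Om).Normal := sSup_normal b.w.hyp
      rw [hN]
      infer_instance
    obtain ⟨f, hfd⟩ : ∃ f : G →* G ⧸ N, f = QuotientGroup.mk' N := ⟨_, rfl⟩
    have hf : ∀ g, f g = 1 ↔ ∀ K ∈ Om, ∀ k ∈ K, g * k = k * g := by
      intro g
      rw [hfd, QuotientGroup.mk'_apply, QuotientGroup.eq_one_iff, hN, mem_centralizer_iff]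
      constructor
      · intro h K hK k hk
        exact (h k ((le_sSup hK : K ≤ sSup Om) hk)).symm
      · intro h y hy
        have h1 : sSup Om ≤ centralizer {g} := sSup_le fun K hK k hk =>
          mem_centralizer_singleton_iff.2 (h K hK k hk).symm
        exact mem_centralizer_singleton_iff.1 (h1 hy)
    obtain ⟨qm, h1⟩ := b.inner i core hne cls (by rw [hfd]; exact QuotientGroup.mk'_surjective N) hf
    refine DQ_of_img qm b.w ?_
    rcases h1 with ⟨-, W, hSC⟩ | ⟨S, -, -⟩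
    · exact W.dq hSC
    · exact S.dq
  · exact ⟨fun z g hz => absurd (hz.imp fun K hK => hK.1) hne, fun z q hz => absurd (hz.imp fun K hK => hK.1) hne⟩

end world

end Cfsg.Agent.Cit.Nil.CompR
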