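import Cfsg.Agent.Cit.Nil.RTwo.Trans
import Cfsg.Agent.Cit.Nil.RTwo.SLEnd
import Cfsg.Agent.Cit.Nil.RTwo.TPair
import Cfsg.Agent.Cit.Nil.IndDefs

/-!
# S1309 (n6), COMP, `r = 2`, the product situation: the section of a block

`G` = the stabiliser of a block without C-pairs, `Om` = the members over the points of the block, `sSup Om = B`.

* `ZB Om = Z(B)`;
* `SecW Om` : the world which is obtained from case (S) for `B / Z(B)` (`Sec.lean`).
-/

set_option autoImplicit false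

namespace Cfsg.Agent.Cit.Nil.CompR

open Subgroup Cfsg Cfsg.Agent.Cit Cfsg.Agent.Cit.Nil.RTwo

variable {G : Type*} [Group G]

/-- `Z(B)`, `B = ⟨Om⟩` -/
def ZB (Om : Set (Subgroup G)) : Subgroup G := sSup Om ⊓ centralizer ((sSup Om : Subgroup G) : Set G)

/-- the world of a block with a pair of type p: `B / Z(B)` is of type (S) -/
structure SecW [Finite G] (Om : Set (Subgroup G)) : Prop where
  w : W2 Om
  zb2 : IsPGroup 2 (ZB Om)
  zn : ∀ z, InZ Om z → z ∉ ZB Om
  /-- `C_B(R_v) / Z(B)` has exponent 2 -/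
  cx : ∀ v, InZ Om v → ∀ x ∈ sSup Om, x ∈ CX Om v → x * x ∈ ZB Om
  /-- an involution of `C_B(v)` fixes one of the three labels modulo `Z(B)` -/
  lab : ∀ v, InZ Om v → ∀ g ∈ sSup Om, g * v = v * g → g * g = 1 →
    ∃ c ∈ CC Om v, c ∈ sSup Om ∧ g * c * g⁻¹ * c⁻¹ ∈ ZB Om
  /-- an element of `G` which fixes a label does not act as a translation of weight one -/
  nw : ∀ z K1 K2 a b, Frame Om z K1 K2 a b → ∀ c ∈ CC Om z, ∀ ρ v, Tra z a b ρ v → ρ * c = c * ρ → ¬ WOne v
  /-- pairs of type p -/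
  pp : ∀ z t, InZ Om z → InZ Om t → z ≠ t → z * t = t * z → Sw Om z t → Sw Om t z →
    ∃ n, InZ Om n ∧ z * t ∈ CX Om n

end Cfsg.Agent.Cit.Nil.CompR
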