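import Cfsg.Agent.Cit.Nil.CompR.SecDef
import Cfsg.Agent.Cit.QuoCen
import Cfsg.Agent.Cit.Nil.Ind.Quo

/-!
# S1309 (n6), COMP, `r = 2`, the section of a block: transfer of `W2` along a homomorphism

`WMap f O₁ O₂` : `O₂` is the image of `O₁`, `f` is injective on the members, and separates the points.

* `WMap.of_central`, `WMap.of_inj` : central quotients, inclusions;
* the notions `Mem`, `InZ`, `Inn`, `CX`, `RZ`, `TI`, `Lab`, `CC`, `Frame`, `DC`, `Sw` under `f`.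
-/

set_option autoImplicit false
set_option linter.unusedSectionVars false

namespace Cfsg.Agent.Cit.Nil.CompR

open Subgroup Cfsg Cfsg.Agent.Cit Cfsg.Agent.Cit.Nil.RTwo

variable {G₁ G₂ : Type*} [Group G₁] [Group G₂]

/-- see the head of the file -/
structure WMap (f : G₁ →* G₂) (O₁ : Set (Subgroup G₁)) (O₂ : Set (Subgroup G₂)) : Prop where
  w1 : W2 O₁
  w2 : W2 O₂
  im : O₂ = img f O₁
  inf : ∀ K ∈ O₁, K ⊓ f.ker = ⊥
  inj : ∀ K ∈ O₁, ∀ L ∈ O₁, f (zz K) = f (zz L) → zz K = zz L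

namespace WMap

variable [Finite G₁] [Finite G₂] {f : G₁ →* G₂} {O₁ : Set (Subgroup G₁)} {O₂ : Set (Subgroup G₂)}
  {K L K1 K2 : Subgroup G₁} {z t g x y c : G₁} {a b : Fin 3 → G₁} {v : Fin 3 × Fin 3} (m : WMap f O₁ O₂)

include m

theorem zz_map (hK : K ∈ O₁) : zz (K.map f) = f (zz K) := QuoCen.zz_map_of_inf m.w1.hyp hK (m.inf K hK)

theorem inj_on (hK : K ∈ O₁) (hx : x ∈ K) (hy : y ∈ K) (h : f x = f y) : x = y := by
  have h1 : x * y⁻¹ ∈ K ⊓ f.ker := mem_inf.2 ⟨mul_mem hx (inv_mem hy), by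
    rw [MonoidHom.mem_ker, map_mul, map_inv, h, mul_inv_cancel]⟩
  rw [m.inf K hK, mem_bot, mul_inv_eq_one] at h1
  exact h1

theorem mem (hK : Mem O₁ z K) : Mem O₂ (f z) (K.map f) := by
  obtain ⟨hK, rfl⟩ := hK
  refine ⟨?_, m.zz_map hK⟩
  rw [m.im]; exact ⟨K, hK, rfl⟩

theorem inZ (hz : InZ O₁ z) : InZ O₂ (f z) := by
  obtain ⟨K, hK⟩ := hz; exact ⟨_, m.mem hK⟩

theorem lift_inZ {y : G₂} (hy : InZ O₂ y) : ∃ z, InZ O₁ z ∧ f z = y := by
  obtain ⟨L, hL, rfl⟩ := hy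
  rw [m.im] at hL
  obtain ⟨K, hK, rfl⟩ := hL
  exact ⟨zz K, ⟨K, hK, rfl⟩, (m.zz_map hK).symm⟩

theorem eq_of (hz : InZ O₁ z) (ht : InZ O₁ t) (h : f z = f t) : z = t := by
  obtain ⟨K, hK, rfl⟩ := hz
  obtain ⟨L, hL, rfl⟩ := ht
  exact m.inj K hK L hL h

theorem lift_mem {L' : Subgroup G₂} (hL : Mem O₂ (f z) L') (hz : InZ O₁ z) : ∃ K, Mem O₁ z K ∧ K.map f = L' := by
  obtain ⟨hL, h1⟩ := hL
  rw [m.im] at hL
  obtain ⟨K, hK, rfl⟩ := hL
  refine ⟨K, ⟨hK, ?_⟩, rfl⟩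
  rw [m.zz_map hK] at h1
  exact m.eq_of ⟨K, hK, rfl⟩ hz h1

/-- `f g` commutes with `f z` -/
theorem com (hz : InZ O₁ z) (h : f g * f z = f z * f g) : g * z = z * g := by
  have h1 := m.eq_of (hz.conj m.w1 g) hz (by rw [map_mul, map_mul, map_inv, h, mul_inv_cancel_right])
  rwa [mul_inv_eq_iff_eq_mul] at h1

theorem map_inj (hK : K ∈ O₁) (hL : L ∈ O₁) (h : K.map f = L.map f) : K = L := by
  have hz : zz K = zz L := m.inj K hK L hL (by rw [← m.zz_map hK, ← m.zz_map hL, h])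
  by_contra hne
  have mK : Mem O₁ (zz K) K := ⟨hK, rfl⟩
  have mL : Mem O₁ (zz K) L := ⟨hL, hz.symm⟩
  obtain ⟨q, hq⟩ := m.w1.exists_q3 mK
  have h1 : f (q 1) ∈ L.map f := by rw [← h]; exact ⟨q 1, hq.mem 1, rfl⟩
  obtain ⟨l, hl, h2⟩ := h1
  have h3 := mK.comm mL m.w1 hne (hq.mem 0) hl
  refine hq.not_comm (m.inj_on hK (mul_mem (hq.mem 0) (hq.mem 1)) (mul_mem (hq.mem 1) (hq.mem 0)) ?_)
  rw [map_mul, map_mul, ← h2, ← map_mul, h3, map_mul]

theorem cj_eq_iff (hK : K ∈ O₁) : cj (f g) (K.map f) = K.map f ↔ cj g K = K := by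
  rw [← cj_map]
  exact ⟨fun h => m.map_inj (m.w1.hyp.conj K hK g) hK h, fun h => by rw [h]⟩

theorem sw (hz : InZ O₁ z) (h : Sw O₁ z g) : Sw O₂ (f z) (f g) := by
  intro L' hL' h1
  obtain ⟨K, hK, rfl⟩ := m.lift_mem hL' hz
  exact h K hK ((m.cj_eq_iff hK.1).1 h1)

theorem sw_up (h : Sw O₂ (f z) (f g)) : Sw O₁ z g := by
  intro K hK h1
  exact h _ (m.mem hK) ((m.cj_eq_iff hK.1).2 h1)

theorem inn (hz : InZ O₁ z) (h : Inn O₁ z g) : Inn O₂ (f z) (f g) := by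
  intro L' hL' y hy
  obtain ⟨K, hK, rfl⟩ := m.lift_mem hL' hz
  obtain ⟨k, hk, rfl⟩ := hy
  rcases h K hK k hk with h1 | h1
  · left; rw [← map_inv, ← map_mul, ← map_mul, h1]
  · right; rw [← map_inv, ← map_mul, ← map_mul, h1, map_mul]

theorem inn_up (hz : InZ O₁ z) (h : Inn O₂ (f z) (f g)) : Inn O₁ z g := by
  have hgz : g * z = z * g := m.com hz (h.comm_z (m.inZ hz) m.w2)
  intro K hK k hk
  -- `g` normalises `K`
  have hgK : cj g K = K := by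
    rw [← m.cj_eq_iff hK.1]
    refine eq_of_le_of_card_ge ?_ (by rw [card_cj])
    intro y hy
    rw [mem_cj] at hy
    obtain ⟨k', hk', h1⟩ := hy
    have h2 : y = f g * f k' * (f g)⁻¹ := by rw [h1]; group
    rcases h _ (m.mem hK) (f k') ⟨k', hk', rfl⟩ with h3 | h3
    · rw [h2, h3]; exact ⟨k', hk', rfl⟩
    · rw [h2, h3, ← map_mul]; exact ⟨z * k', mul_mem (hK.zmem m.w1) hk', rfl⟩
  have h1 : g * k * g⁻¹ ∈ K := by rw [← hgK]; exact conj_mem_cj hk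
  rcases h _ (m.mem hK) (f k) ⟨k, hk, rfl⟩ with h3 | h3
  · left
    exact m.inj_on hK.1 h1 hk (by rw [map_mul, map_mul, map_inv, h3])
  · right
    exact m.inj_on hK.1 h1 (mul_mem (hK.zmem m.w1) hk) (by rw [map_mul, map_mul, map_inv, h3, map_mul])

theorem cx (hz : InZ O₁ z) (h : x ∈ CX O₁ z) : f x ∈ CX O₂ (f z) := by
  rw [mem_CX]
  intro L' hL' y hy
  obtain ⟨K, hK, rfl⟩ := m.lift_mem hL' hz
  obtain ⟨k, hk, rfl⟩ := hy
  rw [← map_mul, mem_CX.1 h K hK k hk, map_mul]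

theorem cx_up (hz : InZ O₁ z) (h : f x ∈ CX O₂ (f z)) : x ∈ CX O₁ z := by
  rw [mem_CX]
  intro K hK k hk
  have h1 := m.inn_up hz (Inn.of_CX h) K hK k hk
  have h2 : x * k * x⁻¹ ∈ K := by
    rcases h1 with h1 | h1 <;> rw [h1]
    · exact hk
    · exact mul_mem (hK.zmem m.w1) hk
  have h3 := m.inj_on hK.1 h2 hk (by
    rw [map_mul, map_mul, map_inv, mem_CX.1 h _ (m.mem hK) (f k) ⟨k, hk, rfl⟩, mul_inv_cancel_right])
  rwa [mul_inv_eq_iff_eq_mul] at h3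

theorem rz (h : x ∈ RZ O₁ z) : f x ∈ RZ O₂ (f z) := by
  have h1 : RZ O₁ z ≤ (RZ O₂ (f z)).comap f := RZ_le fun K hK k hk => (m.mem hK).le_RZ ⟨k, hk, rfl⟩
  exact h1 h

theorem ti (h : TI O₁ z t) : TI O₂ (f z) (f t) :=
  ⟨m.inZ h.1, m.inZ h.2.1, fun e => h.2.2.1 (m.eq_of h.1 h.2.1 e), by rw [← map_mul, h.2.2.2.1, map_mul],
    m.inn h.1 h.2.2.2.2⟩

theorem ti_up (hz : InZ O₁ z) (ht : InZ O₁ t) (h : TI O₂ (f z) (f t)) : TI O₁ z t :=
  ⟨hz, ht, fun e => h.2.2.1 (by rw [e]), m.com ht h.2.2.2.1, m.inn_up hz h.2.2.2.2⟩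

theorem lab (h : Lab O₁ z t c) : Lab O₂ (f z) (f t) (f c) :=
  ⟨m.ti h.ti, by rw [← map_mul, h.sq, map_one], m.cx h.ti.1 h.cz, m.cx h.ti.2.1 h.ct,
    by rw [← map_mul]; exact m.rz h.wz, by rw [← map_mul]; exact m.rz h.wt⟩

theorem lab_up {c' : G₂} (hz : InZ O₁ z) (ht : InZ O₁ t) (h : Lab O₂ (f z) (f t) c') : ∃ c, Lab O₁ z t c ∧ f c = c' := by
  obtain ⟨c, hc⟩ := (m.ti_up hz ht h.ti).exists_lab m.w1
  exact ⟨c, hc, (m.lab hc).unique m.w2 h⟩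

theorem cc (h : c ∈ CC O₁ z) : f c ∈ CC O₂ (f z) := by
  obtain ⟨t, h⟩ := h; exact ⟨_, m.lab h⟩

theorem cc_up {c' : G₂} (hz : InZ O₁ z) (h : c' ∈ CC O₂ (f z)) : ∃ c ∈ CC O₁ z, f c = c' := by
  obtain ⟨t', h⟩ := h
  obtain ⟨t, ht, rfl⟩ := m.lift_inZ h.ti.2.1
  obtain ⟨c, hc, rfl⟩ := m.lab_up hz ht h
  exact ⟨c, ⟨t, hc⟩, rfl⟩

theorem q3 (hK : Mem O₁ z K) (hq : Q3 K z a) : Q3 (K.map f) (f z) (fun i => f (a i)) where
  mem i := ⟨a i, hq.mem i, rfl⟩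
  sq i := by rw [← map_mul, hq.sq]
  mul i := by rw [← map_mul, hq.mul]
  z2 := by rw [← map_mul, hq.z2, map_one]
  z1 h := hq.z1 (m.inj_on hK.1 (hK.zmem m.w1) (one_mem K) (by rw [h, map_one]))
  cov := by
    rintro _ ⟨k, hk, rfl⟩
    rcases hq.cov k hk with h | h | ⟨i, h | h⟩
    · left; rw [h, map_one]
    · right; left; rw [h]
    · right; right; exact ⟨i, Or.inl (by rw [h])⟩
    · right; right; exact ⟨i, Or.inr (by rw [h, map_mul])⟩

theorem frame (F : Frame O₁ z K1 K2 a b) :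
    Frame O₂ (f z) (K1.map f) (K2.map f) (fun i => f (a i)) (fun i => f (b i)) where
  k1 := m.mem F.k1
  k2 := m.mem F.k2
  ne h := F.ne (m.map_inj F.k1.1 F.k2.1 h)
  qa := m.q3 F.k1 F.qa
  qb := m.q3 F.k2 F.qb

theorem dc {p : Fin 3 × Fin 3} (h : p ∈ DC O₁ z a b c) :
    p ∈ DC O₂ (f z) (fun i => f (a i)) (fun i => f (b i)) (f c) := by
  obtain ⟨t, ht, hd⟩ := h
  refine ⟨f t, m.lab ht, ?_⟩
  rcases hd with hd | hd
  · left; rw [← map_mul, hd, map_mul]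
  · right; rw [← map_mul, hd, map_mul, map_mul]

end WMap

/-! ### Central quotients and inclusions -/

section of

variable [Finite G₁] [Finite G₂] {f : G₁ →* G₂} {O₁ : Set (Subgroup G₁)}

theorem card_map_of_inf {K : Subgroup G₁} (hK : K ⊓ f.ker = ⊥) : Nat.card (K.map f) = Nat.card K :=
  (Nat.card_congr (QuoCen.equivMap hK).toEquiv).symm

theorem inf_ker_of (h : W2 O₁) {K : Subgroup G₁} (hK : K ∈ O₁) (hz : zz K ∉ f.ker) : K ⊓ f.ker = ⊥ := by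
  have mK : Mem O₁ (zz K) K := ⟨hK, rfl⟩
  obtain ⟨x, hx⟩ := h.exists_q3 mK
  rw [eq_bot_iff]
  rintro k ⟨hk, hkf⟩
  rw [mem_bot]
  rcases hx.cov k hk with h1 | h1 | ⟨i, h1 | h1⟩
  · exact h1
  · exact absurd (h1 ▸ hkf) hz
  · exfalso
    apply hz
    rw [← hx.sq i, ← h1]
    exact mul_mem hkf hkf
  · exfalso
    apply hz
    have e : zz K = k * k := by
      rw [h1]
      calc zz K = zz K * (zz K * (x i * x i)) := by rw [hx.sq, hx.z2, mul_one]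
        _ = zz K * (zz K * x i) * x i := by group
        _ = zz K * (x i * zz K) * x i := by rw [hx.zc]
        _ = _ := by group
    rw [e]
    exact mul_mem hkf hkf

/-- points which agree modulo the centre are equal -/
theorem zz_eq_of_central (h : W2 O₁) (hC : f.ker ≤ center G₁) {K L : Subgroup G₁} (hK : K ∈ O₁) (hL : L ∈ O₁)
    (he : f (zz K) = f (zz L)) : zz K = zz L := by
  have h1 : zz L * (zz K)⁻¹ ∈ f.ker := by rw [MonoidHom.mem_ker, map_mul, map_inv, he, mul_inv_cancel]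
  have h2 : zz L = zz L * (zz K)⁻¹ * zz K := by group
  have mK : Mem O₁ (zz K) K := ⟨hK, rfl⟩
  have mL : Mem O₁ (zz L) L := ⟨hL, rfl⟩
  refine (mL.inZ.eq_of_cent mK h fun k hk => ?_).symm
  have h3 := mem_center_iff.1 (hC h1) k
  calc zz L * k = zz L * (zz K)⁻¹ * (zz K * k) := by group
    _ = zz L * (zz K)⁻¹ * (k * zz K) := by rw [mK.comm_z h hk]
    _ = (k * (zz L * (zz K)⁻¹)) * zz K := by rw [h3]; group
    _ = k * zz L := by rw [mul_assoc, ← h2]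

theorem WMap.of_central (h : W2 O₁) (hf : Function.Surjective f) (hC : f.ker ≤ center G₁)
    (hz : ∀ K ∈ O₁, zz K ∉ f.ker) : WMap f O₁ (img f O₁) := by
  have hi : ∀ K ∈ O₁, K ⊓ f.ker = ⊥ := fun K hK => inf_ker_of h hK (hz K hK)
  have hzm : ∀ K ∈ O₁, zz (K.map f) = f (zz K) := fun K hK => QuoCen.zz_map_of_inf h.hyp hK (hi K hK)
  have hinj : ∀ K ∈ O₁, ∀ L ∈ O₁, f (zz K) = f (zz L) → zz K = zz L := fun K hK L hL =>
    zz_eq_of_central h hC hK hL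
  have h8 : Three.H8 O₁ := ⟨h.hyp, h.card⟩
  refine ⟨h, ⟨QuoCen.hyp_img_central h.hyp hf hC hi, ?_, ?_, ?_⟩, rfl, hi, hinj⟩
  · rintro _ ⟨K, hK, rfl⟩
    rw [card_map_of_inf (hi K hK), h.card K hK]
  · rintro _ ⟨K, hK, rfl⟩
    obtain ⟨L, hL, hne, hzL, hall⟩ := h.two K hK
    refine ⟨L.map f, ⟨L, hL, rfl⟩, ?_, by rw [hzm L hL, hzm K hK, hzL], ?_⟩
    · intro he
      have mK : Mem O₁ (zz K) K := ⟨hK, rfl⟩
      have mL : Mem O₁ (zz K) L := ⟨hL, hzL⟩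
      obtain ⟨q, hq⟩ := h.exists_q3 mK
      have h1 : f (q 1) ∈ L.map f := by rw [he]; exact ⟨q 1, hq.mem 1, rfl⟩
      obtain ⟨l, hl, h2⟩ := h1
      have h3 := mK.comm mL h hne.symm (hq.mem 0) hl
      have h4 : f (q 0 * q 1) = f (q 1 * q 0) := by rw [map_mul, map_mul, ← h2, ← map_mul, h3, map_mul]
      have h5 : (q 0 * q 1) * (q 1 * q 0)⁻¹ ∈ K ⊓ f.ker :=
        mem_inf.2 ⟨mul_mem (mul_mem (hq.mem 0) (hq.mem 1)) (inv_mem (mul_mem (hq.mem 1) (hq.mem 0))), by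
          rw [MonoidHom.mem_ker, map_mul, map_inv, h4, mul_inv_cancel]⟩
      rw [hi K hK, mem_bot, mul_inv_eq_one] at h5
      exact hq.not_comm h5
    · rintro _ ⟨M, hM, rfl⟩ hz2
      rw [hzm M hM, hzm K hK] at hz2
      rcases hall M hM (hinj M hM K hK hz2) with h1 | h1
      · left; rw [h1]
      · right; rw [h1]
  · rintro _ ⟨K, hK, rfl⟩ _ ⟨L, hL, rfl⟩ hc
    rw [hzm K hK, hzm L hL, h.one K hK L hL (Ind.cm_of_map h8 hC hi hK hL hc)]

end of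

/-- the restriction to a subgroup containing all members -/
theorem w2_restr {G : Type*} [Group G] [Finite G] {Om : Set (Subgroup G)} (h : W2 Om) {B : Subgroup G}
    (hB : ∀ K ∈ Om, K ≤ B) : WMap B.subtype (restr Om B) Om := by
  have hyp := h.hyp.restr B
  have hzm : ∀ K ∈ restr Om B, ((zz K : ↥B) : G) = zz (K.map B.subtype) := fun K hK => zz_map h.hyp hK
  have hker : B.subtype.ker = ⊥ := B.ker_subtype
  refine ⟨⟨hyp, ?_, ?_, ?_⟩, h, ?_, ?_, ?_⟩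
  · intro K hK
    rw [← h.card _ hK, card_map_of_injective B.subtype_injective]
  · intro K hK
    obtain ⟨L, hL, hne, hzL, hall⟩ := h.two _ hK
    refine ⟨L.subgroupOf B, subgroupOf_mem_restr hL (hB L hL), ?_, ?_, ?_⟩
    · rintro rfl
      exact hne (map_subgroupOf_eq_of_le (hB L hL)).symm
    · apply Subtype.ext
      rw [hzm _ (subgroupOf_mem_restr hL (hB L hL)), hzm K hK, map_subgroupOf_eq_of_le (hB L hL), hzL]
    · intro M hM hz
      have h1 : zz (M.map B.subtype) = zz (K.map B.subtype) := by rw [← hzm M hM, ← hzm K hK, hz]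
      rcases hall _ hM h1 with h2 | h2
      · left; exact map_injective B.subtype_injective h2
      · right
        apply map_injective B.subtype_injective
        rw [h2, map_subgroupOf_eq_of_le (hB L hL)]
  · intro K hK L hL hc
    apply Subtype.ext
    rw [hzm K hK, hzm L hL]
    refine h.one _ hK _ hL ?_
    rintro _ ⟨k, hk, rfl⟩ _ ⟨l, hl, rfl⟩
    exact congrArg Subtype.val (hc k hk l hl)
  · ext K
    constructor
    · intro hK
      exact ⟨K.subgroupOf B, subgroupOf_mem_restr hK (hB K hK), map_subgroupOf_eq_of_le (hB K hK)⟩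
    · rintro ⟨L, hL, rfl⟩
      exact hL
  · intro K _
    rw [hker, inf_bot_eq]
  · intro K _ L _ h1
    exact B.subtype_injective h1

end Cfsg.Agent.Cit.Nil.CompR
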